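import Cfsg.Agent.Lib.Helper5.SL2a
import Cfsg.Agent.Lib.Helper14.SL2Odd
import Cfsg.Agent.Lib.Helper14.ClassCard

set_option autoImplicit false

namespace Cfsg.Agent.Lib.Helper27.PSL2

open Cfsg.Agent.Lib.Helper5

variable {F : Type*} [Field F]

local notation "SL2" => Matrix.SpecialLinearGroup (Fin 2)
local notation "PSL2" => Matrix.ProjectiveSpecialLinearGroup (Fin 2)

/-- the trace of an element of `SL₂`. -/
def tr (x : SL2 F) : F := (x : Matrix (Fin 2) (Fin 2) F) 0 0 + (x : Matrix (Fin 2) (Fin 2) F) 1 1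

theorem ne_neg (h2 : (2 : F) ≠ 0) (x : SL2 F) : x ≠ -x := by
  intro h
  have hd := det_eq x
  have hm : (x : Matrix (Fin 2) (Fin 2) F) = -(x : Matrix (Fin 2) (Fin 2) F) := by
    conv_lhs => rw [h]
    rw [Matrix.SpecialLinearGroup.coe_neg]
  have e : ∀ i j, (x : Matrix (Fin 2) (Fin 2) F) i j = 0 := by
    intro i j
    have := congrFun (congrFun hm i) j
    rw [Matrix.neg_apply] at this
    have h3 : (2 : F) * (x : Matrix (Fin 2) (Fin 2) F) i j = 0 := by linear_combination this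
    exact (mul_eq_zero.1 h3).resolve_left h2
  rw [e 0 0, e 0 1] at hd
  simp at hd

theorem one_ne_neg_one (h2 : (2 : F) ≠ 0) : (1 : SL2 F) ≠ -1 := ne_neg h2 1

theorem eq_one_or_of_isSc (x : SL2 F) (hx : IsSc (x : Matrix (Fin 2) (Fin 2) F)) :
    x = 1 ∨ x = -1 := by
  have hd := det_eq x
  obtain ⟨h1, h2, h3⟩ := hx
  rw [h1, h3] at hd
  have h4 : (x : Matrix (Fin 2) (Fin 2) F) 1 1 * (x : Matrix (Fin 2) (Fin 2) F) 1 1 = 1 := by
    linear_combination hd
  rcases mul_self_eq_one_iff.1 h4 with h | h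
  · left
    apply Subtype.ext
    rw [Matrix.SpecialLinearGroup.coe_one]
    apply ext2 <;> simp [h1, h2, h3, h]
  · right
    apply Subtype.ext
    rw [Matrix.SpecialLinearGroup.coe_neg, Matrix.SpecialLinearGroup.coe_one]
    apply ext2 <;> simp [h1, h2, h3, h]

theorem sq_eq_one (h2 : (2 : F) ≠ 0) (x : SL2 F) (h : x * x = 1) : x = 1 ∨ x = -1 :=
  eq_one_or_of_isSc x (sc_of_sq h2 x h)

theorem mem_center_iff (x : SL2 F) : x ∈ Subgroup.center (SL2 F) ↔ x = 1 ∨ x = -1 := by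
  constructor
  · intro h
    obtain ⟨r, -, hr⟩ := Matrix.SpecialLinearGroup.mem_center_iff.1 h
    apply eq_one_or_of_isSc
    rw [← hr]
    refine ⟨by simp, by simp, by simp⟩
  · rintro (rfl | rfl)
    · exact Subgroup.one_mem _
    · rw [Subgroup.mem_center_iff]
      intro g
      rw [mul_neg, neg_mul, mul_one, one_mul]

theorem mk_eq_iff (x y : SL2 F) : ((x : SL2 F) : PSL2 F) = (y : PSL2 F) ↔ x = y ∨ x = -y := by
  rw [QuotientGroup.eq, mem_center_iff]
  constructor
  · rintro (h | h)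
    · left
      exact (inv_mul_eq_one.1 h)
    · right
      have : y = x * (-1) := by rw [← h]; group
      rw [this, mul_neg, mul_one, neg_neg]
  · rintro (h | h)
    · left; rw [h]; group
    · right; rw [h, inv_neg, neg_mul, inv_mul_cancel]

theorem sq_eq_neg_one_iff (x : SL2 F) : x * x = -1 ↔ tr x = 0 := by
  have hc := cayley x
  constructor
  · intro h
    have hm : (x : Matrix (Fin 2) (Fin 2) F) * x = -1 := by
      rw [← Matrix.SpecialLinearGroup.coe_mul, h, Matrix.SpecialLinearGroup.coe_neg, Matrix.SpecialLinearGroup.coe_one]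
    rw [hm] at hc
    have h0 : (tr x) • (x : Matrix (Fin 2) (Fin 2) F) = 0 := by
      have : (tr x) • (x : Matrix (Fin 2) (Fin 2) F) =
          ((x : Matrix (Fin 2) (Fin 2) F) 0 0 + (x : Matrix (Fin 2) (Fin 2) F) 1 1) •
            (x : Matrix (Fin 2) (Fin 2) F) - 1 + 1 := by
        simp [tr]
      rw [this, ← hc]; simp
    by_contra hne
    have hx0 : (x : Matrix (Fin 2) (Fin 2) F) = 0 := (smul_eq_zero.1 h0).resolve_left hne
    have hd := det_eq x
    rw [hx0] at hd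
    simp at hd
  · intro h
    apply Subtype.ext
    rw [Matrix.SpecialLinearGroup.coe_mul, hc, Matrix.SpecialLinearGroup.coe_neg, Matrix.SpecialLinearGroup.coe_one]
    have : (x : Matrix (Fin 2) (Fin 2) F) 0 0 + (x : Matrix (Fin 2) (Fin 2) F) 1 1 = 0 := h
    rw [this]; simp

theorem isConj_of_tr_zero [Fintype F] (hodd : Fintype.card F % 2 = 1) (g h : SL2 F)
    (hg : tr g = 0) (hh : tr h = 0) : IsConj g h := by
  have h2 : (2 : F) ≠ 0 := Helper14.SL2.two_ne_zero_of_odd hodd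
  have key : ∀ x : SL2 F, tr x = 0 →
      ((x : Matrix (Fin 2) (Fin 2) F) 1 1 - (x : Matrix (Fin 2) (Fin 2) F) 0 0) ^ 2 +
        4 * (x : Matrix (Fin 2) (Fin 2) F) 0 1 * (x : Matrix (Fin 2) (Fin 2) F) 1 0 ≠ 0 := by
    intro x hx
    have hd := det_eq x
    have hx' : (x : Matrix (Fin 2) (Fin 2) F) 1 1 = -(x : Matrix (Fin 2) (Fin 2) F) 0 0 := by
      unfold tr at hx; linear_combination hx
    have : ((x : Matrix (Fin 2) (Fin 2) F) 1 1 - (x : Matrix (Fin 2) (Fin 2) F) 0 0) ^ 2 +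
        4 * (x : Matrix (Fin 2) (Fin 2) F) 0 1 * (x : Matrix (Fin 2) (Fin 2) F) 1 0 = -(2 * 2) := by
      rw [hx'] at hd ⊢
      linear_combination (-4) * hd
    rw [this]
    exact neg_ne_zero.2 (mul_ne_zero h2 h2)
  obtain ⟨x, y, hxy⟩ := Helper14.SL2.exists_Qf_eq_one hodd _ (key g hg)
  obtain ⟨x', y', hxy'⟩ := Helper14.SL2.exists_Qf_eq_one hodd _ (key h hh)
  refine Helper14.GL2.isConj_SL_of_trace_Qf g h ?_ x y x' y' (by rw [hxy]; exact one_ne_zero)
    (by rw [hxy, hxy'])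
  rw [Matrix.trace_fin_two, Matrix.trace_fin_two]
  exact hg.trans hh.symm

theorem orderOf_mk_eq_two_iff (h2 : (2 : F) ≠ 0) (x : SL2 F) :
    orderOf ((x : SL2 F) : PSL2 F) = 2 ↔ x * x = -1 := by
  rw [orderOf_eq_prime_iff]
  have e1 : ((x : SL2 F) : PSL2 F) ^ 2 = 1 ↔ (x * x = 1 ∨ x * x = -1) := by
    rw [pow_two, ← QuotientGroup.mk_mul, QuotientGroup.eq_one_iff, mem_center_iff]
  have e2 : ((x : SL2 F) : PSL2 F) = 1 ↔ (x = 1 ∨ x = -1) := by
    rw [QuotientGroup.eq_one_iff, mem_center_iff]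
  rw [e1, ne_eq, e2]
  constructor
  · rintro ⟨h | h, hne⟩
    · exact absurd (sq_eq_one h2 x h) hne
    · exact h
  · intro h
    refine ⟨Or.inr h, ?_⟩
    rintro (rfl | rfl)
    · rw [mul_one] at h; exact one_ne_neg_one h2 h
    · rw [neg_mul_neg, mul_one] at h; exact one_ne_neg_one h2 h

theorem not_isSc_of_sq (h2 : (2 : F) ≠ 0) (u : SL2 F) (hu : u * u = -1) :
    ¬ IsSc (u : Matrix (Fin 2) (Fin 2) F) := by
  intro h
  rw [sc_sq u h] at hu
  exact one_ne_neg_one h2 hu

theorem tr_zero_of_anticomm (h2 : (2 : F) ≠ 0) (u x : SL2 F) (hu : u * u = -1)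
    (hx : x * u = -(u * x)) : tr x = 0 := by
  have h1 : u * x * u = x := by
    rw [mul_assoc, hx, mul_neg, ← mul_assoc, hu, neg_mul, one_mul, neg_neg]
  have h3 : (x : Matrix (Fin 2) (Fin 2) F).trace = -(x : Matrix (Fin 2) (Fin 2) F).trace := by
    conv_lhs => rw [← h1]
    rw [Matrix.SpecialLinearGroup.coe_mul, Matrix.trace_mul_comm, ← Matrix.SpecialLinearGroup.coe_mul,
      ← mul_assoc, hu, neg_mul, one_mul, Matrix.SpecialLinearGroup.coe_neg, Matrix.trace_neg]
  rw [Matrix.trace_fin_two] at h3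
  have h4 : (2 : F) * tr x = 0 := by unfold tr; linear_combination h3
  exact (mul_eq_zero.1 h4).resolve_left h2

theorem isConj_of_orderOf_two [Fintype F] (hodd : Fintype.card F % 2 = 1) (a b : PSL2 F)
    (ha : orderOf a = 2) (hb : orderOf b = 2) : IsConj a b := by
  have h2 : (2 : F) ≠ 0 := Helper14.SL2.two_ne_zero_of_odd hodd
  obtain ⟨x, rfl⟩ := QuotientGroup.mk_surjective a
  obtain ⟨y, rfl⟩ := QuotientGroup.mk_surjective b
  rw [orderOf_mk_eq_two_iff h2, sq_eq_neg_one_iff] at ha hb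
  exact (QuotientGroup.mk' (Subgroup.center (SL2 F))).map_isConj (isConj_of_tr_zero hodd x y ha hb)

theorem comm_mk_iff (x u : SL2 F) :
    ((x : SL2 F) : PSL2 F) * (u : PSL2 F) = (u : PSL2 F) * (x : PSL2 F) ↔
      x * u = u * x ∨ x * u = -(u * x) := by
  rw [← QuotientGroup.mk_mul, ← QuotientGroup.mk_mul, mk_eq_iff]

/-- The structure of the centralizer of an involution of `PSL₂(q)`, `q` odd. -/
theorem centralizer_structure [Fintype F] (hodd : Fintype.card F % 2 = 1) (z : PSL2 F)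
    (hz : orderOf z = 2) : ∃ A : Subgroup (PSL2 F),
      (∀ a ∈ A, a * z = z * a) ∧
      (∀ a ∈ A, ∀ b ∈ A, a * b = b * a) ∧
      (∀ a ∈ A, orderOf a = 2 → a = z) ∧
      (∀ g : PSL2 F, g * z = z * g → g ∉ A → orderOf g = 2) ∧
      (∀ g h : PSL2 F, g * z = z * g → h * z = z * h → g ∉ A → h ∉ A → g * h ∈ A) ∧
      (∃ g : PSL2 F, g * z = z * g ∧ g ∉ A) := by
  have h2 : (2 : F) ≠ 0 := Helper14.SL2.two_ne_zero_of_odd hodd
  obtain ⟨u, rfl⟩ := QuotientGroup.mk_surjective z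
  rw [orderOf_mk_eq_two_iff h2] at hz
  have hsc := not_isSc_of_sq h2 u hz
  have hmemA : ∀ x : SL2 F, x * u = u * x →
      ((x : SL2 F) : PSL2 F) ∈ (Subgroup.centralizer {u}).map
        (QuotientGroup.mk' (Subgroup.center (SL2 F))) := fun x hx =>
    ⟨x, Subgroup.mem_centralizer_singleton_iff.2 hx, rfl⟩
  have hanti : ∀ x : SL2 F, ((x : SL2 F) : PSL2 F) * (u : PSL2 F) = (u : PSL2 F) * (x : PSL2 F) →
      ((x : SL2 F) : PSL2 F) ∉ (Subgroup.centralizer {u}).map
        (QuotientGroup.mk' (Subgroup.center (SL2 F))) → x * u = -(u * x) := by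
    intro x hx hxA
    rcases (comm_mk_iff x u).1 hx with h | h
    · exact absurd (hmemA x h) hxA
    · exact h
  refine ⟨(Subgroup.centralizer {u}).map (QuotientGroup.mk' (Subgroup.center (SL2 F))),
    ?_, ?_, ?_, ?_, ?_, ?_⟩
  · rintro _ ⟨m, hm, rfl⟩
    exact (comm_mk_iff m u).2 (Or.inl (Subgroup.mem_centralizer_singleton_iff.1 hm))
  · rintro _ ⟨m, hm, rfl⟩ _ ⟨m', hm', rfl⟩
    have := comm_of_comm' u m m' hsc (Subgroup.mem_centralizer_singleton_iff.1 hm)
      (Subgroup.mem_centralizer_singleton_iff.1 hm')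
    show ((m : SL2 F) : PSL2 F) * (m' : PSL2 F) = (m' : PSL2 F) * (m : PSL2 F)
    rw [← QuotientGroup.mk_mul, ← QuotientGroup.mk_mul, this]
  · rintro _ ⟨m, hm, rfl⟩ ho
    have hm' := Subgroup.mem_centralizer_singleton_iff.1 hm
    have ho' : m * m = -1 := (orderOf_mk_eq_two_iff h2 m).1 ho
    have h1 : (m * u) * (m * u) = 1 := by
      calc (m * u) * (m * u) = m * (u * m) * u := by group
        _ = m * (m * u) * u := by rw [hm']
        _ = (m * m) * (u * u) := by group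
        _ = 1 := by rw [ho', hz, neg_mul_neg, mul_one]
    have hui : u⁻¹ = -u := by
      apply inv_eq_of_mul_eq_one_right
      rw [mul_neg, hz, neg_neg]
    show ((m : SL2 F) : PSL2 F) = (u : PSL2 F)
    rw [mk_eq_iff]
    rcases sq_eq_one h2 _ h1 with h | h
    · right
      rw [← hui]; exact eq_inv_of_mul_eq_one_left h
    · left
      have : m = (-1) * u⁻¹ := eq_mul_inv_of_mul_eq h
      rw [this, hui, neg_mul_neg, one_mul]
  · intro g hg hgA
    obtain ⟨x, rfl⟩ := QuotientGroup.mk_surjective g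
    rw [orderOf_mk_eq_two_iff h2, sq_eq_neg_one_iff]
    exact tr_zero_of_anticomm h2 u x hz (hanti x hg hgA)
  · intro g h hg hh hgA hhA
    obtain ⟨x, rfl⟩ := QuotientGroup.mk_surjective g
    obtain ⟨y, rfl⟩ := QuotientGroup.mk_surjective h
    have hx := hanti x hg hgA
    have hy := hanti y hh hhA
    rw [← QuotientGroup.mk_mul]
    apply hmemA
    rw [mul_assoc, hy, mul_neg, ← mul_assoc, hx, neg_mul, neg_neg, mul_assoc]
  · have hnu : (-u) * (-u) = -1 := by rw [neg_mul_neg, hz]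
    obtain ⟨c, hc⟩ := isConj_iff.1 (isConj_of_tr_zero hodd u (-u)
      ((sq_eq_neg_one_iff u).1 hz) ((sq_eq_neg_one_iff (-u)).1 hnu))
    have hc' : c * u = -(u * c) := by
      have : c * u = (-u) * c := by rw [← hc]; group
      rw [this, neg_mul]
    refine ⟨(c : PSL2 F), (comm_mk_iff c u).2 (Or.inr hc'), ?_⟩
    rintro ⟨m, hm, hmc⟩
    have hm' := Subgroup.mem_centralizer_singleton_iff.1 hm
    have hmc' : ((m : SL2 F) : PSL2 F) = (c : PSL2 F) := hmc
    have hcu : c * u = u * c := by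
      rcases (mk_eq_iff m c).1 hmc' with h | h
      · rw [← h]; exact hm'
      · have : c = -m := by rw [h, neg_neg]
        rw [this, neg_mul, mul_neg, hm']
    rw [hcu] at hc'
    exact ne_neg h2 _ hc'

theorem card_center (h2 : (2 : F) ≠ 0) : Nat.card (Subgroup.center (SL2 F)) = 2 := by
  have : ((Subgroup.center (SL2 F) : Subgroup (SL2 F)) : Set (SL2 F)) = {1, -1} := by
    ext x
    simp only [SetLike.mem_coe, mem_center_iff, Set.mem_insert_iff, Set.mem_singleton_iff]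
  have h1 : Nat.card (Subgroup.center (SL2 F)) =
      ((Subgroup.center (SL2 F) : Subgroup (SL2 F)) : Set (SL2 F)).ncard := rfl
  rw [h1, this]
  exact Set.ncard_pair (one_ne_neg_one h2)

theorem two_mul_card_PSL2 [Fintype F] (hodd : Fintype.card F % 2 = 1) :
    Nat.card (PSL2 F) * 2 = Fintype.card F * (Fintype.card F ^ 2 - 1) := by
  have h2 : (2 : F) ≠ 0 := Helper14.SL2.two_ne_zero_of_odd hodd
  rw [← Helper14.card_SL2, Subgroup.card_eq_card_quotient_mul_card_subgroup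
    (Subgroup.center (SL2 F)), card_center h2]

end Cfsg.Agent.Lib.Helper27.PSL2
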