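import Cfsg.Agent.Lib.Helper27.FusionFrattini

/-!
Homomorphisms from `S` that are stable under a fusion system up to conjugacy in the target.
-/

set_option autoImplicit false

namespace Cfsg.Agent.Lib.Helper27

open Cfsg Cfsg.FusionSystem

variable {Ω : Type*} [Group Ω] {S : Subgroup Ω}

/-- The maps of `F` that are compatible with `θ` up to conjugacy in the target. -/
def thetaSystem (F : FusionSystem S) {Γ : Type*} [Group Γ] (θ : S →* Γ) : FusionSystem S where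
  Hom P := {φ | φ ∈ F.Hom P ∧ ∃ γ : Γ, ∀ (y : P) (h1 : (y : Ω) ∈ S) (h2 : φ y ∈ S),
    θ ⟨φ y, h2⟩ = γ * θ ⟨y, h1⟩ * γ⁻¹}
  le_of_mem h := F.le_of_mem h.1
  injective_of_mem h := F.injective_of_mem h.1
  conj_mem := by
    intro P g hP hg
    refine ⟨F.conj_mem hP hg, θ ⟨g, hg⟩, fun y h1 h2 => ?_⟩
    rw [← map_inv, ← map_mul, ← map_mul]
    rfl
  comp_mem := by
    rintro P Q φ ψ ⟨hφ, γ, hγ⟩ ⟨hψ, δ, hδ⟩ h
    refine ⟨F.comp_mem hφ hψ h, δ * γ, fun y h1 h2 => ?_⟩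
    have e1 := hγ y h1 (image_mem F hφ y)
    have e2 := hδ ⟨φ y, h y⟩ (image_mem F hφ y) h2
    refine e2.trans ?_
    rw [e1]
    group
  inv_mem := by
    rintro P φ ⟨hφ, γ, hγ⟩
    obtain ⟨ψ, hψ, h⟩ := F.inv_mem hφ
    refine ⟨ψ, ⟨hψ, γ⁻¹, ?_⟩, h⟩
    rintro ⟨_, x, rfl⟩ h1 h2
    have e := hγ x (source_le F hφ x.2) h1
    have e' : (⟨ψ ⟨φ x, ⟨x, rfl⟩⟩, h2⟩ : S) = ⟨x, source_le F hφ x.2⟩ := Subtype.ext (h x)
    rw [e', e]
    group

theorem stronglyClosed_ker_of_le {F : FusionSystem S} {Γ : Type*} [Group Γ] (θ : S →* Γ)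
    (h : F ≤ thetaSystem F θ) : F.StronglyClosed (θ.ker.map S.subtype) := by
  refine ⟨by rintro _ ⟨y, -, rfl⟩; exact y.2, fun R hR φ hφ x => ?_⟩
  obtain ⟨-, γ, hγ⟩ := h R hφ
  obtain ⟨y, hy, hyx⟩ := hR x.2
  have e := hγ x (source_le F hφ x.2) (image_mem F hφ x)
  refine ⟨⟨φ x, image_mem F hφ x⟩, ?_, rfl⟩
  show θ _ = 1
  have e' : (⟨x, source_le F hφ x.2⟩ : S) = y := Subtype.ext hyx.symm
  have hy' : θ y = 1 := hy
  rw [e, e', hy']
  group

theorem hyperfocal_le_ker_of_le {p : ℕ} {F : FusionSystem S} {Γ : Type*} [Group Γ] (θ : S →* Γ)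
    (hΓ : IsPGroup p Γ) (h : F ≤ thetaSystem F θ) :
    F.hyperfocalSubgroup p ≤ θ.ker.map S.subtype := by
  refine (Subgroup.closure_le _).2 ?_
  rintro _ ⟨P, α, x, hP, hα, rfl⟩
  let B : Subgroup (F.autGroup P) :=
    { carrier := {α | ∀ y : P, θ ⟨((α : MulAut P) y : P), hP ((α : MulAut P) y).2⟩ = θ ⟨y, hP y.2⟩}
      one_mem' := fun y => rfl
      mul_mem' := by
        intro a b ha hb y
        exact (ha ((b : MulAut P) y)).trans (hb y)
      inv_mem' := by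
        intro a ha y
        have := ha ((a⁻¹ : F.autGroup P).1 y)
        have e : (a : MulAut P) ((a⁻¹ : F.autGroup P).1 y) = y := by simp
        simp only [e] at this
        exact this.symm }
  have hB : pResidual p (F.autGroup P) ≤ B := by
    refine (Subgroup.closure_le _).2 ?_
    intro α hα
    have hα' : Nat.Coprime (orderOf α) p := hα
    obtain ⟨-, γ, hγ⟩ := h P ((mem_autGroup_iff F hP α).1 α.2)
    obtain ⟨j, hj⟩ := hΓ γ
    have hpow : ∀ k : ℕ, ∀ y : P, θ ⟨((((α ^ k : F.autGroup P) : MulAut P)) y : P),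
        hP (((α ^ k : F.autGroup P) : MulAut P) y).2⟩ = γ ^ k * θ ⟨y, hP y.2⟩ * (γ ^ k)⁻¹ := by
      intro k
      induction k with
      | zero => intro y; simp
      | succ k ih =>
        intro y
        have e1 := hγ (((α ^ k : F.autGroup P) : MulAut P) y)
          (hP (((α ^ k : F.autGroup P) : MulAut P) y).2)
          (hP ((α : MulAut P) (((α ^ k : F.autGroup P) : MulAut P) y)).2)
        have e2 : (((α ^ (k + 1) : F.autGroup P) : MulAut P)) y =
            (α : MulAut P) (((α ^ k : F.autGroup P) : MulAut P) y) := by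
          rw [pow_succ']
          rfl
        simp only [e2]
        refine e1.trans ?_
        rw [ih y, pow_succ']
        group
    have h1 : α ^ (p ^ j) ∈ B := fun y => by
      have := hpow (p ^ j) y
      rw [hj] at this
      simpa using this
    obtain ⟨t, ht⟩ := exists_pow_eq_self_of_coprime (x := α) (n := p ^ j)
      (Nat.Coprime.pow_left j hα'.symm)
    rw [← ht]
    exact pow_mem h1 t
  have h2 := hB hα x
  refine ⟨(⟨x, hP x.2⟩ : S)⁻¹ * ⟨((α : MulAut P) x : P), hP ((α : MulAut P) x).2⟩, ?_, rfl⟩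
  show θ _ = 1
  rw [map_mul, map_inv, h2, inv_mul_cancel]

/-- The conjugation action of `S` on a normal subgroup `T`, with values in `Aut_F(T)`. -/
noncomputable def conjOn (F : FusionSystem S) (T : Subgroup Ω) (hTS : T ≤ S)
    (hT : S ≤ Subgroup.normalizer (T : Set Ω)) : S →* F.autGroup T where
  toFun g := ⟨conjAut T g (hT g.2),
    autInducedBy_le_autGroup F hTS (conjAut_mem_autInducedBy g.2 (hT g.2))⟩
  map_one' := by
    apply Subtype.ext
    ext x
    simp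
  map_mul' a b := by
    apply Subtype.ext
    ext x
    simp [mul_assoc]

theorem conjOn_apply (F : FusionSystem S) (T : Subgroup Ω) (hTS : T ≤ S)
    (hT : S ≤ Subgroup.normalizer (T : Set Ω)) (g : S) (x : T) :
    ((((conjOn F T hTS hT g : F.autGroup T) : MulAut T) x : T) : Ω) = g * x * (g : Ω)⁻¹ := rfl

theorem StronglyClosed.range_eq [Finite S] {F : FusionSystem S} {T : Subgroup Ω}
    (hT : F.StronglyClosed T) {φ : T →* Ω} (hφ : φ ∈ F.Hom T) : φ.range = T := by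
  have : Finite T := finite_of_le hT.1
  apply Subgroup.eq_of_le_of_card_ge
  · rintro _ ⟨x, rfl⟩
    exact hT.2 T le_rfl φ hφ x
  · rw [Nat.card_congr (MonoidHom.ofInjective (F.injective_of_mem hφ)).toEquiv]

theorem le_thetaSystem_of_stronglyClosed [Finite S] {p : ℕ} [Fact p.Prime] (hS : IsPGroup p S)
    {F : FusionSystem S} (hF : F.IsSaturated p) {T : Subgroup Ω} (hT : F.StronglyClosed T)
    (D : Subgroup (F.autGroup T)) [D.Normal] (hD : (Inn T).subgroupOf (F.autGroup T) ≤ D) :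
    F ≤ thetaSystem F ((QuotientGroup.mk' D).comp
      (conjOn F T hT.1 (StronglyClosed.le_normalizer hT))) := by
  have hTn := StronglyClosed.le_normalizer hT
  refine le_of_stronglyClosed hS hF hT _ ?_ ?_
  · intro R hTR hRS α hα
    rw [mem_autGroup_iff _ hRS]
    have hα' := (mem_autGroup_iff F hRS α).1 hα
    have hφ := restrict_mem F hTR hα'
    obtain ⟨αT, hαT, hαT'⟩ := exists_aut_of_range_eq F hφ (StronglyClosed.range_eq hT hφ)
    have hαT'' : ∀ u : T, ((αT u : T) : Ω) = ((α ⟨u, hTR u.2⟩ : R) : Ω) := hαT'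
    refine ⟨hα', QuotientGroup.mk' D ⟨αT, hαT⟩, fun y h1 h2 => ?_⟩
    show QuotientGroup.mk' D _ = _ * QuotientGroup.mk' D _ * _
    rw [← map_inv, ← map_mul, ← map_mul]
    congr 1
    apply Subtype.ext
    ext t
    show ((α y : R) : Ω) * t * ((α y : R) : Ω)⁻¹ = ((αT (conjAut T y (hTn h1) (αT⁻¹ t)) : T) : Ω)
    rw [hαT'']
    have e1 : (⟨((conjAut T y (hTn h1) (αT⁻¹ t) : T) : Ω), hTR (conjAut T y (hTn h1) (αT⁻¹ t)).2⟩ : R) =
        y * ⟨((αT⁻¹ t : T) : Ω), hTR (αT⁻¹ t).2⟩ * y⁻¹ := Subtype.ext rfl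
    rw [e1, map_mul, map_mul, map_inv]
    have e2 : ((α ⟨((αT⁻¹ t : T) : Ω), hTR (αT⁻¹ t).2⟩ : R) : Ω) = t := by
      rw [← hαT'']
      simp
    show _ = ((α y : R) : Ω) * ((α ⟨((αT⁻¹ t : T) : Ω), hTR (αT⁻¹ t).2⟩ : R) : Ω) * ((α y : R) : Ω)⁻¹
    rw [e2]
  · intro R hRS κ hκ hκT
    rw [mem_autGroup_iff _ hRS]
    refine ⟨(mem_autGroup_iff F hRS κ).1 hκ, 1, fun y h1 h2 => ?_⟩
    have e1 : (⟨(R.subtype.comp κ.toMonoidHom) y, h2⟩ : S) =
        ⟨y, h1⟩ * ⟨(y : Ω)⁻¹ * (κ y : R), hT.1 (hκT y)⟩ := Subtype.ext (by simp)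
    rw [e1, map_mul]
    have e2 : ((QuotientGroup.mk' D).comp (conjOn F T hT.1 hTn))
        ⟨(y : Ω)⁻¹ * (κ y : R), hT.1 (hκT y)⟩ = 1 := by
      show QuotientGroup.mk' D _ = 1
      rw [QuotientGroup.mk'_apply, QuotientGroup.eq_one_iff]
      apply hD
      rw [Subgroup.mem_subgroupOf]
      refine ⟨⟨_, hκT y⟩, ?_⟩
      ext t
      rfl
    rw [e2]
    simp

end Cfsg.Agent.Lib.Helper27
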