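import Cfsg.Agent.Lib.Helper27.FusionChain
import Cfsg.Agent.Lib.Helper27.FusionTheta
import Cfsg.Agent.Lib.Helper27.FusionCentric

/-!
Restriction of automizers to strongly closed subgroups; `O_p(F)` is radical when it is centric.
-/

set_option autoImplicit false

namespace Cfsg.Agent.Lib.Helper27

open Cfsg Cfsg.FusionSystem

variable {Ω : Type*} [Group Ω] {S : Subgroup Ω}

/-- Restriction `Aut_F(P) → Aut_F(Q)` for a strongly closed subgroup `Q ≤ P`. -/
noncomputable def resAut {F : FusionSystem S} {Q P : Subgroup Ω} (hQ : F.StronglyClosed Q) (hQP : Q ≤ P)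
    (hPS : P ≤ S) : F.autGroup P →* F.autGroup Q where
  toFun α := ⟨
    { toFun := fun x => ⟨((α : MulAut P) ⟨x, hQP x.2⟩ : P), StronglyClosed.aut_mem hQ hPS α.2 _ x.2⟩
      invFun := fun x => ⟨((α : MulAut P)⁻¹ ⟨x, hQP x.2⟩ : P),
        StronglyClosed.aut_mem hQ hPS (Subgroup.inv_mem _ α.2) _ x.2⟩
      left_inv := fun x => by simp
      right_inv := fun x => by simp
      map_mul' := fun x y => by
        apply Subtype.ext
        have : (⟨((x * y : Q) : Ω), hQP (x * y).2⟩ : P) = ⟨x, hQP x.2⟩ * ⟨y, hQP y.2⟩ := rfl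
        simp only [this, map_mul]
        rfl }, by
      rw [mem_autGroup_iff F hQ.1]
      exact restrict_mem' F hQP ((mem_autGroup_iff F hPS _).1 α.2) (fun x => rfl)⟩
  map_one' := by
    apply Subtype.ext
    ext x
    rfl
  map_mul' α β := by
    apply Subtype.ext
    ext x
    rfl

theorem resAut_apply {F : FusionSystem S} {Q P : Subgroup Ω} (hQ : F.StronglyClosed Q) (hQP : Q ≤ P)
    (hPS : P ≤ S) (α : F.autGroup P) (x : Q) :
    ((((resAut hQ hQP hPS α : F.autGroup Q) : MulAut Q) x : Q) : Ω) =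
      ((α : MulAut P) ⟨x, hQP x.2⟩ : P) := rfl

theorem resAut_ker_isPGroup [Finite S] {p : ℕ} [Fact p.Prime] (hS : IsPGroup p S) {F : FusionSystem S}
    {Q P : Subgroup Ω} (hQ : F.StronglyClosed Q) (hQP : Q ≤ P) (hPS : P ≤ S)
    (hc : centralizerIn S Q ≤ Q) : IsPGroup p (resAut hQ hQP hPS).ker := by
  have finP : Finite P := finite_of_le hPS
  apply isPGroup_of_coprime_trivial
  rintro ⟨α, hα⟩ m hm hpow
  apply Subtype.ext
  apply Subtype.ext
  have hfix : ∀ x : P, (x : Ω) ∈ Q → (α : MulAut P) x = x := by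
    intro x hx
    have h1 := congrArg (fun β : F.autGroup Q => (((β : MulAut Q) ⟨x, hx⟩ : Q) : Ω))
      (MonoidHom.mem_ker.1 hα)
    exact Subtype.ext h1
  have hpow' : (α : MulAut P) ^ m = 1 := congrArg (fun β : (resAut hQ hQP hPS).ker =>
    ((β : F.autGroup P) : MulAut P)) hpow
  have hQn := StronglyClosed.le_normalizer hQ
  ext x
  have key : (α : MulAut P) x = x := by
    apply eq_of_pow_eq_one_of_fixed (hS.to_le hPS) hm _ hpow'
    apply hfix
    apply hc
    refine ⟨S.mul_mem (S.inv_mem (hPS x.2)) (hPS ((α : MulAut P) x).2), ?_⟩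
    show _ ∈ Subgroup.centralizer (Q : Set Ω)
    rw [Subgroup.mem_centralizer_iff]
    intro q hq
    have hq' : (x : Ω) * q * (x : Ω)⁻¹ ∈ Q := (Subgroup.mem_normalizer_iff.1 (hQn (hPS x.2)) q).1 hq
    have h2 := hfix ⟨(x : Ω) * q * (x : Ω)⁻¹, hQP hq'⟩ hq'
    have h1 := hfix (x⁻¹ * ⟨(x : Ω) * q * (x : Ω)⁻¹, hQP hq'⟩ * x) (by
      have : (x : Ω)⁻¹ * ((x : Ω) * q * (x : Ω)⁻¹) * x = q := by group
      show (x : Ω)⁻¹ * ((x : Ω) * q * (x : Ω)⁻¹) * x ∈ Q
      rw [this]; exact hq)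
    rw [map_mul, map_mul, map_inv, h2] at h1
    have h3 : (((α : MulAut P) x : P) : Ω)⁻¹ * ((x : Ω) * q * (x : Ω)⁻¹) * ((α : MulAut P) x : P)
        = (x : Ω)⁻¹ * ((x : Ω) * q * (x : Ω)⁻¹) * x := congrArg Subtype.val h1
    have h4 : (((α : MulAut P) x : P) : Ω)⁻¹ * ((x : Ω) * q * (x : Ω)⁻¹) * ((α : MulAut P) x : P) = q := by
      rw [h3]; group
    show q * ((x : Ω)⁻¹ * ((α : MulAut P) x : P)) = (x : Ω)⁻¹ * ((α : MulAut P) x : P) * q
    conv_rhs => rw [← h4]
    group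
  rw [key]
  rfl

theorem IsNormal.isFullyNormalized [Finite S] {F : FusionSystem S} {Q : Subgroup Ω} (hQ : F.IsNormal Q) :
    F.IsFullyNormalized Q := by
  refine ⟨hQ.1, fun R _ => ?_⟩
  have h1 : normalizerIn S Q = S := inf_eq_left.2 (IsNormal.le_normalizer hQ)
  rw [h1]
  exact Nat.card_le_card_of_injective (Subgroup.inclusion (inf_le_left : normalizerIn S R ≤ S))
    (Subgroup.inclusion_injective _)

/-- For `Q` normal and centric in `F`, the preimage in `S` of `O_p(Aut_F(Q))` is normal in `F`. -/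
theorem isNormal_preimage_pCore [Finite S] {p : ℕ} [Fact p.Prime] (hS : IsPGroup p S)
    {F : FusionSystem S} (hF : F.IsSaturated p) {Q : Subgroup Ω} (hQ : F.IsNormal Q)
    (hc : F.IsCentric Q) :
    F.IsNormal (((pCore p (F.autGroup Q)).comap
      (conjOn F Q hQ.1 (IsNormal.le_normalizer hQ))).map S.subtype) := by
  have hQS := hQ.1
  have hQn := IsNormal.le_normalizer hQ
  have hQsc := IsNormal.stronglyClosed hQ
  have hCQ : centralizerIn S Q ≤ Q := hc.2 Q (isConj_refl F hQS)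
  set c := conjOn F Q hQS hQn with hcdef
  set B := ((pCore p (F.autGroup Q)).comap c).map S.subtype with hB
  have hBS : B ≤ S := Subgroup.map_subtype_le _
  have hmemB : ∀ s (hs : s ∈ S), s ∈ B ↔ c ⟨s, hs⟩ ∈ pCore p (F.autGroup Q) := by
    intro s hs
    constructor
    · rintro ⟨t, ht, hte⟩
      have : t = ⟨s, hs⟩ := Subtype.ext hte
      rw [← this]
      exact ht
    · intro h
      exact ⟨⟨s, hs⟩, h, rfl⟩
  have hpn : (pCore p (F.autGroup Q)).Normal := pCore_normal'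
  have hsc : F.StronglyClosed B := by
    refine ⟨hBS, fun A hA φ hφ x => ?_⟩
    obtain ⟨ψ, hψ, h1, h2⟩ := hQ.2 A φ hφ
    have hle : Q ≤ A ⊔ Q := le_sup_right
    have hχ : ψ.comp (Subgroup.inclusion hle) ∈ F.Hom Q := restrict_mem F hle hψ
    obtain ⟨β, hβ, hβ'⟩ := exists_aut_of_range_eq F hχ (StronglyClosed.range_eq hQsc hχ)
    have hφS : φ x ∈ S := (F.le_of_mem hφ).2 x
    have hxS : (x : Ω) ∈ S := hBS (hA x.2)
    rw [hmemB _ hφS]
    have hx := (hmemB _ hxS).1 (hA x.2)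
    have e : c ⟨φ x, hφS⟩ = ⟨β, hβ⟩ * c ⟨x, hxS⟩ * ⟨β, hβ⟩⁻¹ := by
      rw [eq_mul_inv_iff_mul_eq]
      apply Subtype.ext
      ext q
      show φ x * ((β q : Q) : Ω) * (φ x)⁻¹ = ((β (((c ⟨x, hxS⟩ : F.autGroup Q) : MulAut Q) q) : Q) : Ω)
      rw [hβ', hβ', ← h1 x]
      show ψ _ * ψ _ * (ψ _)⁻¹ = ψ _
      rw [← map_inv, ← map_mul, ← map_mul]
      rfl
    rw [e]
    exact hpn.conj_mem _ hx _
  rw [Helper26.isNormal_iff_centric_radical hS hF]
  refine ⟨hsc, fun P hPc hPr => ?_⟩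
  have hPS := hPc.1
  have hQP : Q ≤ P := Helper26.le_of_isNormal_of_centric_radical hS hQ hPc hPr
  have finP : Finite P := finite_of_le hPS
  have finQ : Finite Q := finite_of_le hQS
  refine le_of_normalizerIn_le hS hPS hBS (hPS.trans (StronglyClosed.le_normalizer hsc)) ?_
  intro b hb hbN
  have hbS := hBS hb
  have hb' := (hmemB _ hbS).1 hb
  set r := resAut hQsc hQP hPS with hr
  have hKn : ((pCore p (F.autGroup Q)).comap r).Normal := hpn.comap r
  have hKp : IsPGroup p ((pCore p (F.autGroup Q)).comap r) :=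
    pCore_isPGroup.comap_of_ker_isPGroup r (resAut_ker_isPGroup hS hQsc hQP hPS hCQ)
  have hκ : conjAut P b hbN ∈ F.autGroup P :=
    autInducedBy_le_autGroup F hPS (conjAut_mem_autInducedBy hbS hbN)
  have hmem : (⟨conjAut P b hbN, hκ⟩ : F.autGroup P) ∈ (pCore p (F.autGroup Q)).comap r := by
    rw [Subgroup.mem_comap]
    have : r ⟨conjAut P b hbN, hκ⟩ = c ⟨b, hbS⟩ := by
      apply Subtype.ext
      ext q
      rfl
    rw [this]
    exact hb'
  have h3 := le_pCore hKn hKp hmem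
  have h4 : conjAut P b hbN ∈ (pCore p (F.autGroup P)).map (F.autGroup P).subtype := ⟨_, h3, rfl⟩
  rw [hPr.2] at h4
  exact mem_of_inner hPS (hPc.2 P (isConj_refl F hPS)) hbS (fun _ => rfl) h4

/-- `O_p(F)` is radical as soon as it is centric. -/
theorem core_isRadical [Finite S] {p : ℕ} [Fact p.Prime] (hS : IsPGroup p S)
    {F : FusionSystem S} (hF : F.IsSaturated p) (hc : F.IsCentric F.core) : F.IsRadical p F.core := by
  have hQ : F.IsNormal F.core := Helper26.core_isNormal F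
  have hB := isNormal_preimage_pCore hS hF hQ hc
  have hBle := le_sSup (a := _) (s := {Q : Subgroup Ω | F.IsNormal Q}) hB
  refine ⟨hQ.1, le_antisymm ?_ (inn_le_pCore_map hS F hQ.1)⟩
  obtain ⟨-, ha, -⟩ := IsSaturated.fullyNormalized_props hS hF (IsNormal.isFullyNormalized hQ)
  intro α hα
  have h1 := pCore_map_le_autInducedBy F ha hα
  rw [mem_autInducedBy_iff] at h1
  obtain ⟨g, hg, hgα⟩ := h1
  obtain ⟨α', hα', rfl⟩ := hα
  have hgB : g ∈ F.core := by
    apply hBle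
    refine ⟨⟨g, hg⟩, ?_, rfl⟩
    rw [SetLike.mem_coe, Subgroup.mem_comap]
    have : conjOn F F.core hQ.1 (IsNormal.le_normalizer hQ) ⟨g, hg⟩ = α' := by
      apply Subtype.ext
      ext q
      exact (hgα q).symm
    rw [this]
    exact hα'
  refine ⟨⟨g, hgB⟩, ?_⟩
  ext q
  exact (hgα q).symm

theorem IsConstrained.core_isCentric [Finite S] {p : ℕ} {F : FusionSystem S} (hF : F.IsConstrained p) :
    F.IsCentric F.core := by
  obtain ⟨-, Q, hQ, hc⟩ := hF
  exact isCentric_of_le hc (le_sSup (a := Q) (s := {Q : Subgroup Ω | F.IsNormal Q}) hQ)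
    (Helper26.core_isNormal F).1

end Cfsg.Agent.Lib.Helper27
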