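import Cfsg.Agent.Lib.Helper26.Factor
import Cfsg.Agent.Lib.Helper26.FactorTools
import Cfsg.Agent.Lib.Helper26.PRes

set_option autoImplicit false

namespace Cfsg.Agent.Lib.Helper27

open Cfsg Cfsg.FusionSystem Cfsg.Agent.Lib.Helper26

theorem map_mem_pResidual' {A A' : Type*} [Group A] [Group A'] {p : ℕ} (h : A →* A')
    {x : A} (hx : x ∈ pResidual p A) : h x ∈ pResidual p A' := by
  change x ∈ Subgroup.closure {g : A | Nat.Coprime (orderOf g) p} at hx
  induction hx using Subgroup.closure_induction with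
  | mem y hy =>
    apply mem_pResidual_of_coprime
    exact Nat.Coprime.coprime_dvd_left (orderOf_map_dvd h y) hy
  | one => rw [map_one]; exact Subgroup.one_mem _
  | mul a b _ _ ha hb => rw [map_mul]; exact Subgroup.mul_mem _ ha hb
  | inv a _ ha => rw [map_inv]; exact Subgroup.inv_mem _ ha

theorem exists_mem_pResidual_of_surjective {A A' : Type*} [Group A] [Group A'] [Finite A] {p : ℕ}
    [Fact p.Prime] (h : A →* A') (hs : Function.Surjective h) {y : A'}
    (hy : y ∈ pResidual p A') : ∃ x ∈ pResidual p A, h x = y := by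
  change y ∈ Subgroup.closure {g : A' | Nat.Coprime (orderOf g) p} at hy
  induction hy using Subgroup.closure_induction with
  | mem y hy =>
    obtain ⟨g, rfl⟩ := hs y
    obtain ⟨k, hk⟩ := exists_pow_mem_pResidual p g
    have hc : Nat.Coprime (p ^ k) (orderOf (h g)) := (Nat.Coprime.pow_right k hy).symm
    obtain ⟨m, hm⟩ := exists_pow_eq_self_of_coprime hc
    exact ⟨(g ^ (p ^ k)) ^ m, Subgroup.pow_mem _ hk m, by rw [map_pow, map_pow, hm]⟩
  | one => exact ⟨1, Subgroup.one_mem _, map_one h⟩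
  | mul a b _ _ ha hb =>
    obtain ⟨x, hx, rfl⟩ := ha
    obtain ⟨z, hz, rfl⟩ := hb
    exact ⟨x * z, Subgroup.mul_mem _ hx hz, map_mul h x z⟩
  | inv a _ ha =>
    obtain ⟨x, hx, rfl⟩ := ha
    exact ⟨x⁻¹, Subgroup.inv_mem _ hx, map_inv h x⟩

variable {Ω : Type*} [Group Ω] {S : Subgroup Ω} {Ω' : Type*} [Group Ω'] {S' : Subgroup Ω'}

/-- The homomorphism `Aut_F(P) → Aut_E(θ P)` for a factor system `E` of `F`. -/
theorem exists_factorAutHom [Finite S] {p : ℕ} [Fact p.Prime] (hS : IsPGroup p S)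
    {F : FusionSystem S} (hF : F.IsSaturated p) {T : Subgroup Ω} {θ : S →* Ω'}
    (d : FacData F T θ S') {E : FusionSystem S'} (hE : F.IsFactorSystem T θ E)
    {P : Subgroup Ω} (hP : P ≤ S) {P' : Subgroup Ω'} (hPP' : imageAlong θ P = P') :
    ∃ Φ : F.autGroup P →* E.autGroup P',
      (∀ (α : F.autGroup P) (x : P) (hx' : toFun₂ θ (x : Ω) ∈ P'),
        ((((Φ α : E.autGroup P') : MulAut P') ⟨toFun₂ θ (x : Ω), hx'⟩ : P') : Ω') =
          toFun₂ θ (((α : MulAut P) x : P) : Ω)) ∧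
      (T ≤ P → Function.Surjective Φ) := by
  subst hPP'
  have hiff := (isFactorSystem_iff d).mp hE
  have hP'S' : imageAlong θ P ≤ S' := by
    intro y hy
    obtain ⟨x, -, hxS, rfl⟩ := mem_imageAlong.mp hy
    exact d.mem_S' hxS
  have hmem : ∀ x : P, toFun₂ θ (x : Ω) ∈ imageAlong θ P := fun x =>
    mem_imageAlong.mpr ⟨x, x.2, hP x.2, rfl⟩
  let π : P →* imageAlong θ P :=
    { toFun := fun x => ⟨toFun₂ θ (x : Ω), hmem x⟩
      map_one' := Subtype.ext (toFun₂_one θ)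
      map_mul' := fun x y => Subtype.ext (toFun₂_mul θ (hP x.2) (hP y.2)) }
  have hπ : Function.Surjective π := by
    rintro ⟨y, hy⟩
    obtain ⟨x, hx, -, rfl⟩ := mem_imageAlong.mp hy
    exact ⟨⟨x, hx⟩, rfl⟩
  have hπ1 : ∀ x : P, π x = 1 ↔ (x : Ω) ∈ T := by
    intro x
    rw [← d.ker' (hP x.2)]
    exact Subtype.ext_iff
  have hA : ∀ β ∈ F.autGroup P, ∀ x, π x = 1 → π (β x) = 1 := by
    intro β hβ x hx
    rw [hπ1] at hx ⊢
    have := stronglyClosed_map_mem d.sc ((Helper26.mem_autGroup_iff hP).mp hβ) x.2 hx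
    rwa [autFun_apply] at this
  let Φ₀ := descAut π hπ (F.autGroup P) hA
  have hΦ₀ : ∀ (β : F.autGroup P) (x : P), Φ₀ β (π x) = π ((β : MulAut P) x) :=
    fun β x => descAut_apply π hπ _ hA β x
  have hmemE : ∀ β : F.autGroup P, Φ₀ β ∈ E.autGroup (imageAlong θ P) := by
    intro β
    rw [Helper26.mem_autGroup_iff hP'S', hiff]
    obtain ⟨g, hg, hgf⟩ := exists_ext_mod hS hF d.sc P _ ((Helper26.mem_autGroup_iff hP).mp β.2)
    refine ⟨hP'S', g, by rw [d.pre_image hP]; exact hg, fun x hx => ?_⟩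
    rw [d.pre_image hP] at hx
    obtain ⟨y, hy, t, ht, rfl⟩ := mem_sup_of_stronglyClosed d.sc hP hx
    have hyPT : y ∈ P ⊔ T := le_sup_left (a := P) hy
    have htPT : t ∈ P ⊔ T := le_sup_right (a := P) ht
    have htS := d.sc.1 ht
    rw [toFun₂_mul θ (hP hy) htS, (d.ker' htS).mpr ht, mul_one, hg.map_mul hyPT htPT,
      toFun₂_mul θ (hg.mem_S hyPT) (hg.mem_S htPT),
      (d.ker' (hg.mem_S htPT)).mpr (stronglyClosed_map_mem d.sc hg htPT ht), mul_one]
    have h1 : autFun (Φ₀ β) (toFun₂ θ y) = ((Φ₀ β (π ⟨y, hy⟩) : imageAlong θ P) : Ω') :=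
      autFun_apply (Φ₀ β) (π ⟨y, hy⟩)
    rw [h1, hΦ₀]
    show toFun₂ θ ((((β : MulAut P) ⟨y, hy⟩ : P)) : Ω) = _
    have h2 := hgf y hy
    rw [autFun_of_mem _ hy] at h2
    exact (d.eq_iff (hP ((β : MulAut P) ⟨y, hy⟩).2) (hg.mem_S hyPT)).mpr h2
  refine ⟨Φ₀.codRestrict _ hmemE, fun α x hx' => ?_, fun hTP α' => ?_⟩
  · show ((Φ₀ α (π x) : imageAlong θ P) : Ω') = _
    rw [hΦ₀]
    rfl
  · have h1 := (hiff _ _).mp ((Helper26.mem_autGroup_iff hP'S').mp α'.2)
    obtain ⟨-, f, hf, hff⟩ := h1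
    have hpre : preimageAlong θ (imageAlong θ P) = P := by
      rw [d.pre_image hP]; exact sup_eq_left.mpr hTP
    rw [hpre] at hf hff
    have himg : img P f = P := by
      apply img_eq_of_le_of_finite hf
      intro y hy
      obtain ⟨x, hx, rfl⟩ := hf.mem_img.mp hy
      rw [← hpre, mem_preimageAlong]
      refine ⟨hf.mem_S hx, ?_⟩
      rw [← hff x hx]
      exact autFun_mem _ (hmem ⟨x, hx⟩)
    obtain ⟨α, hα, hαf⟩ := hf.exists_aut himg
    refine ⟨⟨α, hα⟩, ?_⟩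
    apply Subtype.ext
    show Φ₀ ⟨α, hα⟩ = (α' : MulAut _)
    ext y
    obtain ⟨x, rfl⟩ := hπ y
    rw [hΦ₀]
    show toFun₂ θ ((α x : P) : Ω) = _
    rw [hαf, ← hff x x.2]
    exact autFun_apply _ (π x)

end Cfsg.Agent.Lib.Helper27
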