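import Cfsg.Agent.Lib.Helper27.FactorAut
import Cfsg.Agent.Lib.Helper26.NormalCrit
import Cfsg.Agent.Lib.Helper26.AlperinTools
import Cfsg.Agent.Lib.Helper26.SatTools
import Cfsg.Agent.Lib.Helper26.GroupFusion

set_option autoImplicit false

namespace Cfsg.Agent.Lib.Helper27

open Cfsg Cfsg.FusionSystem Cfsg.Agent.Lib.Helper26

variable {Ω : Type*} [Group Ω] {S : Subgroup Ω} {Ω' : Type*} [Group Ω'] {S' : Subgroup Ω'}

theorem central_fix {F : FusionSystem S} {Z : Subgroup Ω} (hZ : F.IsCentral Z) {P : Subgroup Ω}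
    {f : Ω → Ω} (hf : IsMap F P f) {x : Ω} (hx : x ∈ P) (hxZ : x ∈ Z) : f x = x := by
  obtain ⟨g, -, h1, h2⟩ := (isCentral_iff.mp hZ).2 P f hf
  rw [← h1 x hx, h2 x hxZ]

theorem central_stronglyClosed {F : FusionSystem S} {Z : Subgroup Ω} (hZ : F.IsCentral Z) :
    F.StronglyClosed Z := by
  rw [stronglyClosed_iff]
  refine ⟨hZ.1, fun R hR f hf x hx => ?_⟩
  rw [central_fix hZ hf hx (hR hx)]
  exact hR hx

theorem central_comm {F : FusionSystem S} {Z : Subgroup Ω} (hZ : F.IsCentral Z) {s a : Ω}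
    (hs : s ∈ S) (ha : a ∈ Z) : s * a = a * s := by
  have := central_fix hZ (isMap_conj F le_rfl hs) (hZ.1 ha) ha
  rw [mul_inv_eq_iff_eq_mul] at this
  exact this

theorem isMap_indFun [Finite S] {F : FusionSystem S} {T : Subgroup Ω} {θ : S →* Ω'}
    (d : FacData F T θ S') {E : FusionSystem S'} (hE : F.IsFactorSystem T θ E)
    {R : Subgroup Ω} (hTR : T ≤ R) {g : Ω → Ω} (hg : IsMap F R g) :
    IsMap E (imageAlong θ R) (indFun θ g) := by
  rw [(isFactorSystem_iff d).mp hE]
  have hpre : preimageAlong θ (imageAlong θ R) = R := by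
    rw [d.pre_image hg.le]; exact sup_eq_left.mpr hTR
  refine ⟨?_, g, by rw [hpre]; exact hg, fun x hx => ?_⟩
  · intro y hy
    obtain ⟨x, -, hxS, rfl⟩ := mem_imageAlong.mp hy
    exact d.mem_S' hxS
  · rw [hpre] at hx
    exact d.indFun_spec hg hTR hx

/-- Grün's lemma for fusion systems: if `hyp(F) = S` then `Z(F/Z(F)) = 1`. -/
theorem center_factor_center_eq_bot [Finite S] [Finite S'] {p : ℕ} [Fact p.Prime]
    (hS : IsPGroup p S)
    {F : FusionSystem S} (hF : F.IsSaturated p) (hperf : F.hyperfocalSubgroup p = S)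
    {θ : S →* Ω'} {E : FusionSystem S'} (hE : F.IsFactorSystem F.center θ E) :
    E.center = ⊥ := by
  have hZ : F.IsCentral F.center := center_isCentral F
  have hW : E.IsCentral E.center := center_isCentral E
  have d : FacData F F.center θ S' := ⟨central_stronglyClosed hZ, hE.2.1, hE.2.2.1⟩
  have hiff := (isFactorSystem_iff d).mp hE
  have main : ∀ z ∈ S, toFun₂ θ z ∈ E.center → ∀ y, F.IsConjElt z y → y = z := by
    intro z hzS hzW
    -- Claim C
    have claimC : ∀ (P : Subgroup Ω) (f : Ω → Ω), IsMap F P f → ∀ x ∈ P,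
        (x⁻¹ * f x) * z = z * (x⁻¹ * f x) := by
      intro P f hf x hx
      obtain ⟨g₀, hg₀, hg₀f⟩ := exists_ext_mod hS hF d.sc P f hf
      have hm := isMap_indFun d hE (le_sup_right (a := P)) hg₀
      obtain ⟨g', hg', hg'1, hg'2⟩ := (isCentral_iff.mp hW).2 _ _ hm
      obtain ⟨-, g, hg, hgg'⟩ := (hiff _ _).mp hg'
      set R := preimageAlong θ (imageAlong θ (P ⊔ F.center) ⊔ E.center) with hR
      have hxS : x ∈ S := hf.le hx
      have hxPZ : x ∈ P ⊔ F.center := le_sup_left (a := P) hx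
      have hθx : toFun₂ θ x ∈ imageAlong θ (P ⊔ F.center) :=
        mem_imageAlong.mpr ⟨x, hxPZ, hxS, rfl⟩
      have hxR : x ∈ R := mem_preimageAlong.mpr ⟨hxS, le_sup_left (a := imageAlong θ _) hθx⟩
      have hzR : z ∈ R := mem_preimageAlong.mpr ⟨hzS, le_sup_right (a := imageAlong θ _) hzW⟩
      have hZR : F.center ≤ R := d.le_pre _
      -- g x = f x * ζ₁
      have h1 : (g₀ x)⁻¹ * g x ∈ F.center := by
        apply (d.eq_iff (hg₀.mem_S hxPZ) (hg.mem_S hxR)).mp
        rw [← hgg' x hxR, hg'1 _ hθx, d.indFun_spec hg₀ le_sup_right hxPZ]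
      have h2 : (f x)⁻¹ * g x ∈ F.center := by
        have := Subgroup.mul_mem _ (hg₀f x hx) h1
        rwa [mul_assoc, mul_inv_cancel_left] at this
      have h3 : z⁻¹ * g z ∈ F.center := by
        apply (d.eq_iff hzS (hg.mem_S hzR)).mp
        rw [← hgg' z hzR, hg'2 _ hzW]
      -- a = z⁻¹ x⁻¹ z x ∈ Z
      have h4 : z⁻¹ * (x⁻¹ * z * x) ∈ F.center := by
        have hc := isMap_conj F (le_refl S) (S.inv_mem hxS)
        obtain ⟨k₀, hk₀, hk₀f⟩ := exists_ext_mod hS hF d.sc S _ hc
        have hSZ : S ⊔ F.center = S := sup_eq_left.mpr hZ.1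
        rw [hSZ] at hk₀
        have hm2 := isMap_indFun d hE hZ.1 hk₀
        have hθz : toFun₂ θ z ∈ imageAlong θ S := mem_imageAlong.mpr ⟨z, hzS, hzS, rfl⟩
        have h5 := central_fix hW hm2 hθz hzW
        rw [d.indFun_spec hk₀ hZ.1 hzS] at h5
        have h6 := (d.eq_iff hzS (hk₀.mem_S hzS)).mp h5.symm
        have h7 := hk₀f z hzS
        have h8 := Subgroup.mul_mem _ h6 (Subgroup.inv_mem _ h7)
        have e : z⁻¹ * k₀ z * ((x⁻¹ * z * x⁻¹⁻¹)⁻¹ * k₀ z)⁻¹ = z⁻¹ * (x⁻¹ * z * x) := by group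
        rwa [e] at h8
      obtain ⟨a, ha⟩ : ∃ a, a = z⁻¹ * (x⁻¹ * z * x) := ⟨_, rfl⟩
      obtain ⟨ζ₁, hζ₁⟩ : ∃ a, a = (f x)⁻¹ * g x := ⟨_, rfl⟩
      obtain ⟨ζ₂, hζ₂⟩ : ∃ a, a = z⁻¹ * g z := ⟨_, rfl⟩
      rw [← ha] at h4
      rw [← hζ₁] at h2
      rw [← hζ₂] at h3
      have hgx : g x = f x * ζ₁ := by rw [hζ₁, mul_inv_cancel_left]
      have hgz : g z = z * ζ₂ := by rw [hζ₂, mul_inv_cancel_left]
      have hrel : x⁻¹ * z * x = z * a := by rw [ha, mul_inv_cancel_left]
      have hga : g a = a := central_fix hZ hg (hZR h4) h4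
      have hg1 : (g x)⁻¹ * g z * g x = g z * a := by
        have := congrArg g hrel
        rw [hg.map_mul (R.mul_mem (R.inv_mem hxR) hzR) hxR, hg.map_mul (R.inv_mem hxR) hzR,
          hg.map_inv hxR, hg.map_mul hzR (hZR h4), hga] at this
        exact this
      have hfS : f x ∈ S := hf.mem_S hx
      have c1 : ∀ s ∈ S, s * ζ₁ = ζ₁ * s := fun s hs => central_comm hZ hs h2
      have c2 : ∀ s ∈ S, s * ζ₂ = ζ₂ * s := fun s hs => central_comm hZ hs h3
      have c3 : ∀ s ∈ S, s * a = a * s := fun s hs => central_comm hZ hs h4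
      -- (f x)⁻¹ z (f x) = z a
      have hv : (f x)⁻¹ * z * f x = z * a := by
        rw [hgx, hgz] at hg1
        have e1 : (f x * ζ₁)⁻¹ * (z * ζ₂) * (f x * ζ₁) = (f x)⁻¹ * z * f x * ζ₂ := by
          have e2 : ζ₂ * (f x * ζ₁) = f x * ζ₁ * ζ₂ :=
            (c2 _ (S.mul_mem hfS (hZ.1 h2))).symm
          have e3 : z * (f x * ζ₁) = ζ₁ * (z * f x) := by
            rw [← mul_assoc, c1 _ (S.mul_mem hzS hfS)]
          calc (f x * ζ₁)⁻¹ * (z * ζ₂) * (f x * ζ₁)
              = (f x * ζ₁)⁻¹ * (z * (ζ₂ * (f x * ζ₁))) := by group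
            _ = (f x * ζ₁)⁻¹ * (z * (f x * ζ₁)) * ζ₂ := by rw [e2]; group
            _ = (f x * ζ₁)⁻¹ * (ζ₁ * (z * f x)) * ζ₂ := by rw [e3]
            _ = (ζ₁ * f x)⁻¹ * (ζ₁ * (z * f x)) * ζ₂ := by rw [c1 _ hfS]
            _ = (f x)⁻¹ * z * f x * ζ₂ := by group
        rw [e1] at hg1
        have e4 : z * ζ₂ * a = z * a * ζ₂ := by
          rw [mul_assoc, mul_assoc, c3 _ (hZ.1 h3)]
        rw [e4] at hg1
        exact mul_right_cancel hg1
      -- conclude
      have hu : x * z * x⁻¹ = z * a⁻¹ := by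
        have : z * x = x * (z * a) := by rw [← hrel]; group
        have h9 : x * z = z * x * a⁻¹ := by
          rw [this]
          group
        rw [h9]
        have : x * a⁻¹ = a⁻¹ * x := central_comm hZ hxS (Subgroup.inv_mem _ h4)
        calc z * x * a⁻¹ * x⁻¹ = z * (x * a⁻¹) * x⁻¹ := by group
          _ = z * (a⁻¹ * x) * x⁻¹ := by rw [this]
          _ = z * a⁻¹ := by group
      have hfin : (x⁻¹ * f x)⁻¹ * z * (x⁻¹ * f x) = z := by
        calc (x⁻¹ * f x)⁻¹ * z * (x⁻¹ * f x) = (f x)⁻¹ * (x * z * x⁻¹) * f x := by group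
          _ = (f x)⁻¹ * (z * a⁻¹) * f x := by rw [hu]
          _ = (f x)⁻¹ * z * (a⁻¹ * f x) := by group
          _ = (f x)⁻¹ * z * (f x * a⁻¹) := by
              rw [central_comm hZ hfS (Subgroup.inv_mem _ h4)]
          _ = ((f x)⁻¹ * z * f x) * a⁻¹ := by group
          _ = z := by rw [hv]; group
      calc (x⁻¹ * f x) * z = (x⁻¹ * f x) * ((x⁻¹ * f x)⁻¹ * z * (x⁻¹ * f x)) := by rw [hfin]
        _ = z * (x⁻¹ * f x) := by group
    -- Claim A
    have claimA : ∀ (P : Subgroup Ω) (f : Ω → Ω), IsMap F P f → z ∈ P → z⁻¹ * f z ∈ F.center := by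
      intro P f hf hzP
      obtain ⟨k₀, hk₀, hk₀f⟩ := exists_ext_mod hS hF d.sc P _ hf
      have hm2 := isMap_indFun d hE (le_sup_right (a := P)) hk₀
      have hzPZ : z ∈ P ⊔ F.center := le_sup_left (a := P) hzP
      have hθz : toFun₂ θ z ∈ imageAlong θ (P ⊔ F.center) :=
        mem_imageAlong.mpr ⟨z, hzPZ, hzS, rfl⟩
      have h5 := central_fix hW hm2 hθz hzW
      rw [d.indFun_spec hk₀ le_sup_right hzPZ] at h5
      have h6 := (d.eq_iff hzS (hk₀.mem_S hzPZ)).mp h5.symm
      have h7 := hk₀f z hzP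
      have h8 := Subgroup.mul_mem _ h6 (Subgroup.inv_mem _ h7)
      have e : z⁻¹ * k₀ z * ((f z)⁻¹ * k₀ z)⁻¹ = z⁻¹ * f z := by group
      rwa [e] at h8
    -- Claim D
    have claimD : ∀ s ∈ S, s * z = z * s := by
      have hle : F.hyperfocalSubgroup p ≤ Subgroup.centralizer {z} := by
        apply (Subgroup.closure_le _).mpr
        rintro _ ⟨P, α, x, hP, -, rfl⟩
        rw [SetLike.mem_coe, Subgroup.mem_centralizer_singleton_iff]
        have := claimC P _ ((Helper26.mem_autGroup_iff hP).mp α.2) x x.2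
        rw [autFun_apply] at this
        exact this
      intro s hs
      rw [← hperf] at hs
      exact Subgroup.mem_centralizer_singleton_iff.mp (hle hs)
    -- Claim E
    have claimE : ∀ α ∈ F.autGroup S, ((α ⟨z, hzS⟩ : S) : Ω) = z := by
      obtain ⟨-, hfa, -⟩ := IsSaturated.fullyNormalized_props hS hF (fullyNormalized_self F)
      have hsup := autGroup_eq_sup_of_fullyAutomized hfa
      have hK : F.autGroup S ≤ MulAction.stabilizer (MulAut S) (⟨z, hzS⟩ : S) := by
        rw [hsup]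
        apply sup_le
        · rw [Subgroup.map_le_iff_le_comap]
          apply (Subgroup.closure_le _).mpr
          intro α hα
          have hα' : Nat.Coprime (orderOf α) p := hα
          show (α : MulAut S) ∈ MulAction.stabilizer (MulAut S) (⟨z, hzS⟩ : S)
          rw [MulAction.mem_stabilizer_iff]
          have hA := claimA S _ ((Helper26.mem_autGroup_iff le_rfl).mp α.2) hzS
          rw [autFun_of_mem _ hzS] at hA
          obtain ⟨ζ, hζ⟩ : ∃ a, a = z⁻¹ * (((α : MulAut S) ⟨z, hzS⟩ : S) : Ω) := ⟨_, rfl⟩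
          rw [← hζ] at hA
          have hαz : (((α : MulAut S) ⟨z, hzS⟩ : S) : Ω) = z * ζ := by
            rw [hζ, mul_inv_cancel_left]
          have hpow : ∀ k : ℕ, ((((α : MulAut S) ^ k) ⟨z, hzS⟩ : S) : Ω) = z * ζ ^ k := by
            intro k
            induction k with
            | zero => simp
            | succ k ih =>
              rw [pow_succ', MulAut.mul_apply]
              have hm := (Helper26.mem_autGroup_iff le_rfl).mp α.2
              have e1 : ((((α : MulAut S) ^ k) ⟨z, hzS⟩ : S)) = ⟨z * ζ ^ k,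
                  S.mul_mem hzS (S.pow_mem (hZ.1 hA) k)⟩ := Subtype.ext ih
              rw [e1, ← autFun_apply]
              show autFun (α : MulAut S) (z * ζ ^ k) = _
              rw [hm.map_mul hzS (S.pow_mem (hZ.1 hA) k),
                central_fix hZ hm (S.pow_mem (hZ.1 hA) k) (Subgroup.pow_mem _ hA k),
                autFun_of_mem _ hzS, hαz, pow_succ']
              group
          have h1 := hpow (orderOf α)
          have h2 : (α : MulAut S) ^ orderOf α = 1 := by
            rw [← Subgroup.coe_pow, pow_orderOf_eq_one]; rfl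
          rw [h2] at h1
          have h3 : ζ ^ orderOf α = 1 := by
            have : z = z * ζ ^ orderOf α := h1
            exact (mul_eq_left.mp this.symm)
          obtain ⟨j, hj⟩ := hS ⟨ζ, hZ.1 hA⟩
          have h4 : ζ ^ p ^ j = 1 := by
            have := congrArg Subtype.val hj
            simpa using this
          have h5 : ζ = 1 := by
            have hc : Nat.Coprime (orderOf α) (p ^ j) := Nat.Coprime.pow_right j hα'
            have := pow_gcd_eq_one.mpr ⟨h3, h4⟩
            rwa [hc.gcd_eq_one, pow_one] at this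
          apply Subtype.ext
          show (((α : MulAut S) ⟨z, hzS⟩ : S) : Ω) = z
          rw [hαz, h5, mul_one]
        · intro α hα
          obtain ⟨g, hg, hgα⟩ := Helper26.mem_autInducedBy_iff.mp hα
          rw [MulAction.mem_stabilizer_iff]
          apply Subtype.ext
          show ((α ⟨z, hzS⟩ : S) : Ω) = z
          rw [hgα, claimD g hg, mul_inv_cancel_right]
      intro α hα
      have := MulAction.mem_stabilizer_iff.mp (hK hα)
      exact congrArg Subtype.val this
    -- Claim F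
    rintro y ⟨φ, hφ, rfl⟩
    have hf := isMap_toFun hφ
    have hzz : z ∈ Subgroup.zpowers z := Subgroup.mem_zpowers z
    have hcz : ∀ x ∈ Subgroup.zpowers z, ∀ s ∈ S, s * x = x * s := by
      intro x hx s hs
      have h1 : Subgroup.zpowers z ≤ Subgroup.centralizer {s} := by
        rw [Subgroup.zpowers_le, Subgroup.mem_centralizer_singleton_iff]
        exact (claimD s hs).symm
      exact (Subgroup.mem_centralizer_singleton_iff.mp (h1 hx)).symm
    have hA := claimA _ _ hf hzz
    have hQc : ∀ x ∈ img (Subgroup.zpowers z) (toFun φ), ∀ s ∈ S, s * x = x * s := by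
      have h0 : ∀ s ∈ S, s * toFun φ z = toFun φ z * s := by
        intro s hs
        obtain ⟨c, hc⟩ : ∃ c, c = z⁻¹ * toFun φ z := ⟨_, rfl⟩
        rw [← hc] at hA
        have e : toFun φ z = z * c := by rw [hc, mul_inv_cancel_left]
        rw [e, ← mul_assoc, claimD s hs, mul_assoc, central_comm hZ hs hA, mul_assoc]
      intro x hx s hs
      obtain ⟨w, hw, rfl⟩ := hf.mem_img.mp hx
      obtain ⟨k, rfl⟩ := Subgroup.mem_zpowers_iff.mp hw
      have h1 : ∀ k : ℤ, toFun φ (z ^ k) = (toFun φ z) ^ k := by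
        intro k
        rw [toFun_of_mem φ (Subgroup.zpow_mem _ hzz k), toFun_of_mem φ hzz, ← map_zpow]
        rfl
      rw [h1]
      exact ((Commute.zpow_right (show Commute s (toFun φ z) from h0 s hs) k)).eq
    have hQn : F.IsFullyNormalized (img (Subgroup.zpowers z) (toFun φ)) := by
      refine ⟨hf.img_le, fun Q' _ => ?_⟩
      have h1 : normalizerIn S Q' ≤ normalizerIn S (img (Subgroup.zpowers z) (toFun φ)) := by
        intro s hs
        refine ⟨hs.1, ?_⟩
        apply Subgroup.mem_normalizer_iff.mpr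
        intro x
        constructor
        · intro hx
          rw [hQc x hx s hs.1, mul_inv_cancel_right]; exact hx
        · intro hx
          have := hQc _ hx s⁻¹ (S.inv_mem hs.1)
          have e : x = s⁻¹ * (s * x * s⁻¹) * s := by group
          rw [e, this]
          simpa using hx
      have : Finite (normalizerIn S (img (Subgroup.zpowers z) (toFun φ))) :=
        Helper26.finite_of_le inf_le_left
      exact Subgroup.card_le_of_le h1
    obtain ⟨-, -, hrec⟩ := IsSaturated.fullyNormalized_props hS hF hQn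
    obtain ⟨f', hf', hf'f⟩ := exists_ext_of_receptive hrec hf rfl hf.le (by
      intro g hg
      refine ⟨hg, ?_, 1, S.one_mem, fun x hx => ?_⟩
      · rw [Subgroup.mem_normalizer_iff]
        intro x
        constructor
        · intro hx
          rw [hcz x hx g hg, mul_inv_cancel_right]; exact hx
        · intro hx
          have := hcz _ hx g⁻¹ (S.inv_mem hg)
          have e : x = g⁻¹ * (g * x * g⁻¹) * g := by group
          rw [e, this]
          simpa using hx
      · rw [hcz x hx g hg, mul_inv_cancel_right]; simp)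
    have himg : img S f' = S := img_eq_of_le_of_finite hf' hf'.img_le
    obtain ⟨α, hα, hαf⟩ := hf'.exists_aut himg
    have h1 := claimE α hα
    rw [hαf] at h1
    have h2 := hf'f z hzz
    rw [toFun_of_mem φ hzz] at h2
    rw [← h2]
    exact h1
  have hWc : F.IsCentral (preimageAlong θ E.center) := by
    rw [isCentral_iff_conjElt hS hF]
    refine ⟨FacData.pre_le θ _, fun x hx y hy => ?_⟩
    obtain ⟨hxS, hx'⟩ := mem_preimageAlong.mp hx
    exact main x hxS hx' y hy
  have hle : preimageAlong θ E.center ≤ F.center := le_sSup hWc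
  rw [eq_bot_iff]
  intro w hw
  obtain ⟨x, hx, rfl⟩ := d.exists_pre' hW.1 hw
  rw [Subgroup.mem_bot, d.ker' (FacData.pre_le θ _ hx)]
  exact hle hx

end Cfsg.Agent.Lib.Helper27
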