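import Cfsg.Agent.Lib.Helper27.FusionCentric

/-!
Invariant subsystems over the same group `S`: conjugation invariance, normality of automizers.
-/

set_option autoImplicit false

namespace Cfsg.Agent.Lib.Helper27

open Cfsg Cfsg.FusionSystem

variable {Ω : Type*} [Group Ω] {S : Subgroup Ω}

/-- Conjugating a map of an invariant subsystem over `S` by any map of `F` gives a map of the subsystem. -/
theorem invariant_conj {F E : FusionSystem S} (hE : E.IsInvariantIn F) (Q : Subgroup Ω) (φ : Q →* Ω)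
    (hφ : φ ∈ F.Hom Q) (R : Subgroup Ω) (hRQ : R ≤ Q) (ψ : R →* Ω) (hψ : ψ ∈ E.Hom R)
    (hψQ : ∀ x : R, ψ x ∈ Q) :
    ∃ χ ∈ E.Hom ((R.subgroupOf Q).map φ), ∀ (x : R) (hx : φ ⟨(x : Ω), hRQ x.2⟩ ∈ (R.subgroupOf Q).map φ),
      χ ⟨φ ⟨(x : Ω), hRQ x.2⟩, hx⟩ = φ ⟨ψ x, hψQ x⟩ := by
  obtain ⟨-, -, hinv, hfr⟩ := hE
  have hQS : Q ≤ S := source_le F hφ
  obtain ⟨α, hα, φ₀, hφ₀, hφα⟩ := hfr Q hQS φ hφ
  have hφ₀S : ∀ x : Q, φ₀ x ∈ S := image_mem E hφ₀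
  -- the restriction of φ₀ to R and its inverse
  have hφ₀R : φ₀.comp (Subgroup.inclusion hRQ) ∈ E.Hom R := restrict_mem E hRQ hφ₀
  obtain ⟨σ, hσ, -, hσ', -⟩ := exists_inv E hφ₀R rfl
  have hσR : ∀ y : (φ₀.comp (Subgroup.inclusion hRQ)).range, σ y ∈ R := by
    rintro ⟨_, x, rfl⟩
    rw [hσ' x ⟨x, rfl⟩]
    exact x.2
  have h1 : ψ.comp (σ.codRestrict R hσR) ∈ E.Hom (φ₀.comp (Subgroup.inclusion hRQ)).range :=
    E.comp_mem hσ hψ hσR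
  have h1Q : ∀ y, (ψ.comp (σ.codRestrict R hσR)) y ∈ Q := fun y => hψQ _
  have h2 : φ₀.comp ((ψ.comp (σ.codRestrict R hσR)).codRestrict Q h1Q) ∈
      E.Hom (φ₀.comp (Subgroup.inclusion hRQ)).range := E.comp_mem h1 hφ₀ h1Q
  have hR₀S : (φ₀.comp (Subgroup.inclusion hRQ)).range ≤ S := range_le E hφ₀R
  obtain ⟨χ, hχ, hχ'⟩ := hinv _ hR₀S _ h2 α hα
  have hsub : ((φ₀.comp (Subgroup.inclusion hRQ)).range.subgroupOf S).map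
      (S.subtype.comp α.toMonoidHom) = (R.subgroupOf Q).map φ := by
    ext y
    constructor
    · rintro ⟨⟨_, hw⟩, ⟨x, rfl⟩, rfl⟩
      refine ⟨Subgroup.inclusion hRQ x, Subgroup.mem_subgroupOf.2 x.2, ?_⟩
      rw [hφα _ hw]
      rfl
    · rintro ⟨x, hx, rfl⟩
      refine ⟨⟨φ₀ x, hφ₀S x⟩, Subgroup.mem_subgroupOf.2 ⟨⟨x, Subgroup.mem_subgroupOf.1 hx⟩, rfl⟩, ?_⟩
      rw [hφα _ (hφ₀S x)]
      rfl
  let χ' : ↥((R.subgroupOf Q).map φ) →* Ω := χ.comp (Subgroup.inclusion hsub.ge)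
  refine ⟨χ', hom_congr E hsub hχ (fun x h1 h2 => rfl), fun x hx => ?_⟩
  have hx₀ : φ₀ ⟨x, hRQ x.2⟩ ∈ (φ₀.comp (Subgroup.inclusion hRQ)).range := ⟨x, rfl⟩
  have e1 : φ ⟨(x : Ω), hRQ x.2⟩ = ((α ⟨φ₀ ⟨x, hRQ x.2⟩, hφ₀S _⟩ : S) : Ω) := hφα _ _
  have hval : (φ₀.comp ((ψ.comp (σ.codRestrict R hσR)).codRestrict Q h1Q)) ⟨φ₀ ⟨x, hRQ x.2⟩, hx₀⟩ =
      φ₀ ⟨ψ x, hψQ x⟩ := by
    show φ₀ ⟨ψ ⟨σ ⟨φ₀ ⟨x, hRQ x.2⟩, hx₀⟩, _⟩, _⟩ = φ₀ ⟨ψ x, hψQ x⟩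
    congr 2
    congr 1
    exact Subtype.ext (hσ' x ⟨x, rfl⟩)
  have h3 := hχ' ⟨φ₀ ⟨x, hRQ x.2⟩, hx₀⟩ (by rw [hval]; exact hφ₀S _) (by
    rw [hsub, ← e1]; exact hx)
  show χ ⟨φ ⟨(x : Ω), hRQ x.2⟩, _⟩ = _
  rw [hφα ⟨ψ x, hψQ x⟩ (hφ₀S _)]
  refine Eq.trans ?_ (h3.trans ?_)
  · congr 1
    exact Subtype.ext e1
  · congr 2
    exact Subtype.ext hval

/-- `Aut_E(R)` is normalized by `Aut_F(R)` when `E` is invariant in `F`. -/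
theorem invariant_autGroup_normal {F E : FusionSystem S} (hE : E.IsInvariantIn F) {R : Subgroup Ω}
    (hRle : R ≤ S) : ∀ α ∈ F.autGroup R, ∀ β ∈ E.autGroup R, α * β * α⁻¹ ∈ E.autGroup R := by
  intro α hα β hβ
  have hα' := (mem_autGroup_iff F hRle α).mp hα
  have hβ' := (mem_autGroup_iff E hRle β).mp hβ
  obtain ⟨χ, hχ, hχe⟩ := invariant_conj hE R _ hα' R le_rfl _ hβ' (fun x => (β x).2)
  have hmap : (R.subgroupOf R).map (R.subtype.comp α.toMonoidHom) = R := by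
    rw [Subgroup.subgroupOf_self, ← MonoidHom.range_eq_map]
    exact range_subtype_comp α
  rw [mem_autGroup_iff E hRle]
  refine hom_congr E hmap hχ (fun x h1 h2 => ?_)
  have h3 := hχe (α⁻¹ ⟨x, h2⟩) (by
    show ((α (α⁻¹ ⟨x, h2⟩) : R) : Ω) ∈ _
    rw [MulAut.apply_inv_self]; exact h1)
  have e1 : ((R.subtype.comp α.toMonoidHom) ⟨((α⁻¹ ⟨x, h2⟩ : R) : Ω), (α⁻¹ ⟨x, h2⟩ : R).2⟩) = x := by
    show ((α (α⁻¹ ⟨x, h2⟩) : R) : Ω) = x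
    rw [MulAut.apply_inv_self]
  show (((α * β * α⁻¹ : MulAut R) ⟨x, h2⟩ : R) : Ω) = χ ⟨x, h1⟩
  have e2 : χ ⟨x, h1⟩ = χ ⟨(R.subtype.comp α.toMonoidHom) ⟨((α⁻¹ ⟨x, h2⟩ : R) : Ω),
      (α⁻¹ ⟨x, h2⟩ : R).2⟩, by rw [e1]; exact h1⟩ := by
    congr 1
    exact Subtype.ext e1.symm
  rw [e2, h3]
  rfl

/-- If `R` is fully automized in `F` and `E` is invariant in `F` over the same `S`, every `p`-element of `Aut_F(R)`
lies in `Aut_E(R)`. -/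
theorem pElement_mem_autGroup_of_invariant [Finite S] {p : ℕ} [Fact p.Prime] {F E : FusionSystem S}
    (hE : E.IsInvariantIn F) {R : Subgroup Ω} (hR : F.IsFullyAutomized p R) (γ : MulAut R)
    (hγ : γ ∈ F.autGroup R) (hp : ∃ k : ℕ, γ ^ (p ^ k) = 1) : γ ∈ E.autGroup R := by
  obtain ⟨hRle, hsyl⟩ := hR
  have finR : Finite R := finite_of_le hRle
  have hB : Subgroup.zpowers γ ≤ F.autGroup R := Subgroup.zpowers_le.2 hγ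
  have hBp : IsPGroup p (Subgroup.zpowers γ) := by
    obtain ⟨k, hk⟩ := hp
    rintro ⟨y, hy⟩
    obtain ⟨j, rfl⟩ := Subgroup.mem_zpowers_iff.1 hy
    refine ⟨k, Subtype.ext ?_⟩
    show (γ ^ j) ^ (p ^ k) = 1
    rw [← zpow_natCast, ← zpow_mul, mul_comm, zpow_mul, zpow_natCast, hk, one_zpow]
  obtain ⟨a, ha, hab⟩ := exists_conj_le_of_sylow hB hsyl hBp
  have h1 : a * γ * a⁻¹ ∈ E.autGroup R :=
    autInducedBy_le_autGroup E hRle (hab γ (Subgroup.mem_zpowers γ))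
  have h2 := invariant_autGroup_normal hE hRle a⁻¹ (inv_mem ha) _ h1
  simpa [mul_assoc] using h2

end Cfsg.Agent.Lib.Helper27
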