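import Cfsg.Agent.Lib.Helper27.SmallExp
import Cfsg.Agent.Lib.Helper27.FusionChain
import Cfsg.Agent.Lib.Helper26.Chain

/-!
The small-exponent subgroup `D` of `P ∩ hyp(F)` detecting the `p'`-elements of `Aut_F(P)`.
-/

set_option autoImplicit false

namespace Cfsg.Agent.Lib.Helper27

open Cfsg Cfsg.FusionSystem
open scoped commutatorElement

variable {Ω : Type*} [Group Ω] {S : Subgroup Ω}

theorem inn_le_autGroup (F : FusionSystem S) {P : Subgroup Ω} (hP : P ≤ S) : Inn P ≤ F.autGroup P :=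
  (inn_le_autInducedBy hP).trans (autInducedBy_le_autGroup F hP)

theorem exists_small_exp_fusion [Finite S] {p : ℕ} [Fact p.Prime] (hS : IsPGroup p S)
    (F : FusionSystem S) {P : Subgroup Ω} (hP : P ≤ S) :
    ∃ D : Subgroup Ω, D ≤ P ∧ D ≤ F.hyperfocalSubgroup p ∧
      (∀ α ∈ F.autGroup P, ∀ x : P, (x : Ω) ∈ D → ((α x : P) : Ω) ∈ D) ∧
      (∀ d ∈ D, d ^ p = 1 ∨ (p = 2 ∧ d ^ 4 = 1)) ∧
      (∀ α ∈ F.autGroup P, (orderOf α).Coprime p → (∀ x : P, (x : Ω) ∈ D → α x = x) → α = 1) ∧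
      (∀ A : Subgroup Ω, A ≤ D → IsMulCommutative ↥A →
        (∀ B : Subgroup Ω, A ≤ B → B ≤ D → IsMulCommutative ↥B → B = A) →
        (∀ g ∈ P, ∀ a ∈ A, g * a * g⁻¹ ∈ A) ∧
          ∀ α ∈ F.autGroup P, (∀ x : P, (x : Ω) ∈ A → α x = x) → ∃ k : ℕ, orderOf α = p ^ k) := by
  have finP : Finite P := finite_of_le hP
  obtain ⟨D, h1, h2, h3, -, h5, h6⟩ :=
    exists_small_exp (hS.to_le hP) (F.autGroup P) (inn_le_autGroup F hP)
  have hmem : ∀ x : P, (x : Ω) ∈ D.map P.subtype ↔ x ∈ D := by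
    intro x
    constructor
    · rintro ⟨y, hy, hyx⟩
      have : y = x := Subtype.ext hyx
      rwa [← this]
    · intro hx
      exact ⟨x, hx, rfl⟩
  refine ⟨D.map P.subtype, Subgroup.map_subtype_le D, ?_, ?_, ?_, ?_, ?_⟩
  · refine (Subgroup.map_mono h2).trans ?_
    rw [Subgroup.map_le_iff_le_comap, Subgroup.closure_le]
    rintro _ ⟨α, hα, x, rfl⟩
    show ((x⁻¹ * (α : MulAut P) x : P) : Ω) ∈ F.hyperfocalSubgroup p
    exact Subgroup.subset_closure ⟨P, α, x, hP, hα, rfl⟩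
  · intro α hα x hx
    rw [hmem] at hx ⊢
    rw [← h1 α hα]
    exact ⟨x, hx, rfl⟩
  · rintro _ ⟨d, hd, rfl⟩
    rcases h3 d hd with h | ⟨h, h'⟩
    · left
      rw [← map_pow, h, map_one]
    · right
      exact ⟨h, by rw [← map_pow, h', map_one]⟩
  · intro α hα hco hfix
    exact h5 α hα hco (fun d hd => hfix d ((hmem d).mpr hd))
  · intro A hAD hA hmax
    have hAP : A ≤ P := hAD.trans (Subgroup.map_subtype_le D)
    have hA' : IsMulCommutative ↥(A.subgroupOf P) := by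
      refine ⟨⟨fun a b => ?_⟩⟩
      apply Subtype.ext
      apply Subtype.ext
      exact congrArg (fun z : A => (z : Ω)) (mul_comm' (⟨a.1.1, a.2⟩ : A) ⟨b.1.1, b.2⟩)
    obtain ⟨k1, k2⟩ := h6 (A.subgroupOf P)
      (fun x hx => (hmem x).mp (hAD (Subgroup.mem_subgroupOf.mp hx))) hA' (by
        intro B hAB hBD hB
        have hB' : IsMulCommutative ↥(B.map P.subtype) := by
          refine ⟨⟨fun a b => ?_⟩⟩
          obtain ⟨_, a, ha, rfl⟩ := a
          obtain ⟨_, b, hb, rfl⟩ := b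
          apply Subtype.ext
          exact congrArg (fun z : B => ((z : P) : Ω)) (mul_comm' (⟨a, ha⟩ : B) ⟨b, hb⟩)
        have := hmax (B.map P.subtype)
          (fun a ha => ⟨⟨a, hAP ha⟩, hAB (Subgroup.mem_subgroupOf.mpr ha), rfl⟩)
          (Subgroup.map_mono hBD) hB'
        rw [← this]
        ext x
        rw [Subgroup.mem_subgroupOf]
        constructor
        · intro hx
          exact ⟨x, hx, rfl⟩
        · rintro ⟨y, hy, hyx⟩
          have : y = x := Subtype.ext hyx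
          rwa [← this])
    refine ⟨fun g hg a ha => ?_, fun α hα hfix => k2 α hα (fun a ha => hfix a (Subgroup.mem_subgroupOf.mp ha))⟩
    exact Subgroup.mem_subgroupOf.mp (k1.conj_mem ⟨a, hAP ha⟩ (Subgroup.mem_subgroupOf.mpr ha) ⟨g, hg⟩)

/-- a nontrivial element of small order generates a cyclic group of order `p` or `4`. -/
theorem card_zpowers_of_small {p : ℕ} [Fact p.Prime] {x : Ω} (hx1 : x ≠ 1)
    (hx : x ^ p = 1 ∨ (p = 2 ∧ x ^ 4 = 1)) :
    Nat.card ↥(Subgroup.zpowers x) = p ∨ Nat.card ↥(Subgroup.zpowers x) = 4 := by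
  rw [Nat.card_zpowers]
  rcases hx with h | ⟨h2, h⟩
  · left
    exact orderOf_eq_prime h hx1
  · subst h2
    have hd : orderOf x ∣ 2 ^ 2 := orderOf_dvd_of_pow_eq_one h
    obtain ⟨k, hk, hk'⟩ := (Nat.dvd_prime_pow Nat.prime_two).mp hd
    interval_cases k
    · exact absurd (orderOf_eq_one_iff.mp (by simpa using hk')) hx1
    · left; simpa using hk'
    · right; simpa using hk'

/-- the restriction of an automorphism in `Aut_F(P)` to the cyclic group generated by `x`. -/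
theorem exists_cyclic_restriction (F : FusionSystem S) {P : Subgroup Ω} (hP : P ≤ S) {α : MulAut P}
    (hα : α ∈ F.autGroup P) (x : P) :
    ∃ φ ∈ F.homSet (Subgroup.zpowers (x : Ω)) (Subgroup.zpowers ((α x : P) : Ω)),
      φ ⟨x, Subgroup.mem_zpowers _⟩ = ((α x : P) : Ω) := by
  have hle : Subgroup.zpowers (x : Ω) ≤ P := by
    rw [Subgroup.zpowers_le]; exact x.2
  have h1 := (mem_autGroup_iff F hP α).mp hα
  refine ⟨_, ⟨restrict_mem F hle h1, ?_⟩, rfl⟩
  rintro ⟨_, k, rfl⟩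
  refine ⟨k, ?_⟩
  show ((α x : P) : Ω) ^ k = ((α ⟨(x : Ω) ^ k, _⟩ : P) : Ω)
  have : (⟨(x : Ω) ^ k, hle ⟨k, rfl⟩⟩ : P) = x ^ k := Subtype.ext (by simp)
  rw [this, map_zpow]
  simp

/-- A normal subgroup of `Aut_F(P)` without nontrivial `p'`-elements lies in `Inn(P)` when `P` is radical;
so the elements of `N_S(P)` inducing elements of it lie in `P` when `P` is also centric. -/
theorem mem_of_conjAut_mem_normal [Finite S] {p : ℕ} [Fact p.Prime] (F : FusionSystem S)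
    {P : Subgroup Ω} (hc : F.IsCentric P) (hr : F.IsRadical p P) (K : Subgroup (MulAut P))
    (hK : K ≤ F.autGroup P) (hnorm : ∀ α ∈ F.autGroup P, ∀ β ∈ K, α * β * α⁻¹ ∈ K)
    (hKp : ∀ β ∈ K, (orderOf β).Coprime p → β = 1)
    {g : Ω} (hg : g ∈ normalizerIn S P) (hgK : conjAut P g hg.2 ∈ K) : g ∈ P := by
  have finP : Finite P := finite_of_le hc.1
  have hKp' : IsPGroup p K := by
    apply isPGroup_of_coprime_trivial
    rintro ⟨β, hβ⟩ m hm hpow
    apply Subtype.ext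
    have hpow' : β ^ m = 1 := congrArg Subtype.val hpow
    exact hKp β hβ (Nat.Coprime.coprime_dvd_left (orderOf_dvd_of_pow_eq_one hpow') hm)
  have h1 := Helper26.le_pCore_map_of_normalized hKp' hnorm hK hgK
  rw [hr.2] at h1
  exact mem_of_inner hc.1 (hc.2 P (isConj_refl F hc.1)) hg.1 (fun _ => rfl) h1


/-- An element of `N_S(P)`, `P` centric radical, acting trivially on a family of invariant sections
`A j / B j` lies in `P`, provided the `p'`-elements of `Aut_F(P)` doing so are trivial. -/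
theorem mem_of_stab_pairs [Finite S] {p : ℕ} [Fact p.Prime] (F : FusionSystem S)
    {P : Subgroup Ω} (hc : F.IsCentric P) (hr : F.IsRadical p P) {ι : Type*} (A B : ι → Subgroup Ω)
    (hA : ∀ j, ∀ α ∈ F.autGroup P, ∀ x : P, (x : Ω) ∈ A j → ((α x : P) : Ω) ∈ A j)
    (hB : ∀ j, ∀ α ∈ F.autGroup P, ∀ x : P, (x : Ω) ∈ B j → ((α x : P) : Ω) ∈ B j)
    (hfaith : ∀ α ∈ F.autGroup P, (orderOf α).Coprime p →
      (∀ j, ∀ x : P, (x : Ω) ∈ A j → (x : Ω)⁻¹ * (α x : P) ∈ B j) → α = 1)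
    {g : Ω} (hg : g ∈ normalizerIn S P)
    (hstab : ∀ j, ∀ x ∈ P, x ∈ A j → x⁻¹ * (g * x * g⁻¹) ∈ B j) : g ∈ P := by
  let K : Subgroup (MulAut P) :=
    { carrier := {κ | κ ∈ F.autGroup P ∧ ∀ j, ∀ x : P, (x : Ω) ∈ A j → (x : Ω)⁻¹ * (κ x : P) ∈ B j}
      one_mem' := ⟨one_mem _, fun k x _ => by simp⟩
      mul_mem' := by
        rintro a b ⟨ha, ha'⟩ ⟨hb, hb'⟩
        refine ⟨mul_mem ha hb, fun k x hx => ?_⟩
        have := (B k).mul_mem (hb' k x hx) (ha' k (b x) (hA k b hb x hx))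
        simpa [mul_assoc] using this
      inv_mem' := by
        rintro a ⟨ha, ha'⟩
        refine ⟨inv_mem ha, fun k x hx => ?_⟩
        have := (B k).inv_mem (ha' k (a⁻¹ x) (hA k a⁻¹ (inv_mem ha) x hx))
        simpa using this }
  refine mem_of_conjAut_mem_normal F hc hr K (fun a h => h.1) ?_ (fun β hβ hco => hfaith β hβ.1 hco hβ.2)
    hg ⟨autInducedBy_le_autGroup F hc.1 (conjAut_mem_autInducedBy hg.1 hg.2),
      fun k x hx => hstab k x x.2 hx⟩
  rintro α hα β ⟨hβ, hβ'⟩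
  refine ⟨mul_mem (mul_mem hα hβ) (inv_mem hα), fun k x hx => ?_⟩
  have h1 := hB k α hα ((α⁻¹ x)⁻¹ * β (α⁻¹ x))
    (hβ' k (α⁻¹ x) (hA k α⁻¹ (inv_mem hα) x hx))
  simpa using h1

/-- a `p'`-automorphism stabilizing an ascending chain starting at `⊥` fixes its members. -/
theorem fix_of_stab_asc_chain {p m : ℕ} {P : Subgroup Ω} (hP : IsPGroup p P) (hm : m.Coprime p)
    (β : MulAut P) (hβ : β ^ m = 1) (E : ℕ → Subgroup Ω) (h0 : E 0 = ⊥)
    (hstep : ∀ i, ∀ x : P, (x : Ω) ∈ E (i + 1) → (x : Ω)⁻¹ * (β x : P) ∈ E i) :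
    ∀ i, ∀ x : P, (x : Ω) ∈ E i → β x = x := by
  intro i
  induction i with
  | zero =>
    intro x hx
    rw [h0, Subgroup.mem_bot] at hx
    have : x = 1 := Subtype.ext hx
    rw [this, map_one]
  | succ i ih =>
    intro x hx
    apply eq_of_pow_eq_one_of_fixed hP hm β hβ
    exact ih _ (hstep i x hx)

/-- maps of the system with source `S` preserve the upper central series of `S`. -/
theorem ucs_mem_of_hom_top [Finite S] (F : FusionSystem S) {ψ : S →* Ω} (hψ : ψ ∈ F.Hom S) (i : ℕ)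
    (x : S) (hx : (x : Ω) ∈ Helper26.ucs S i) : ψ x ∈ Helper26.ucs S i := by
  obtain ⟨α, -, hα⟩ := exists_aut_of_range_eq F hψ (range_eq_top_of_mem F hψ)
  have hch := Helper26.ucs_char S i
  have h1 := Subgroup.characteristic_iff_map_eq.mp hch α
  have h2 : α x ∈ (Helper26.ucs S i).subgroupOf S := by
    rw [← h1]
    exact ⟨x, Subgroup.mem_subgroupOf.mpr hx, rfl⟩
  rw [← hα]
  exact Subgroup.mem_subgroupOf.mp h2

theorem inv_mul_conj_mem_ucs {s x : Ω} (hs : s ∈ S) {i : ℕ} (hx : x ∈ Helper26.ucs S (i + 1)) :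
    x⁻¹ * (s * x * s⁻¹) ∈ Helper26.ucs S i := by
  have h1 := (Helper26.ucs S i).inv_mem (Helper26.ucs_comm S i
    (Subgroup.commutator_mem_commutator hs ((Helper26.ucs S (i + 1)).inv_mem hx)))
  have e : ⁅s, x⁻¹⁆⁻¹ = x⁻¹ * (s * x * s⁻¹) := by
    rw [commutatorElement_def]; group
  rwa [e] at h1

end Cfsg.Agent.Lib.Helper27
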