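import Cfsg.Agent.Lib.Helper27.FusionSmallExp
import Cfsg.Agent.Lib.Helper27.FusionEssential
import Cfsg.Agent.Lib.Helper26.SatTools

/-!
A saturated subsystem `E ≤ F` over the same `S` equals `F` as soon as it contains the restrictions of
the `F`-automorphisms of `P` to a suitable normal subgroup `A` of `P` with `C_{Aut_F(P)}(A)` a `p`-group.
-/

set_option autoImplicit false

namespace Cfsg.Agent.Lib.Helper27

open Cfsg Cfsg.FusionSystem
open Cfsg.Agent.Lib.Helper26 (IsMap img autFun)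

/-- group theory: the strongly embedded type argument. -/
theorem mem_of_se_fusion {𝔄 : Type*} [Group 𝔄] {p : ℕ} [Fact p.Prime] {G H T I U : Subgroup 𝔄}
    [Finite G] (hHG : H ≤ G) (hTH : T ≤ H)
    (hsylH : ∃ R : Sylow p H, (R : Subgroup H) = T.subgroupOf H)
    (hI : ∀ ν ∈ G, ∀ c, ν * c * ν⁻¹ ∈ I → c ∈ I)
    (hse : ∀ ν ∈ G, ∀ c ∈ T, c ∉ I → ν * c * ν⁻¹ ∈ T → ν ∈ H)
    (hUG : U ≤ G) (hUp : IsPGroup p U)
    {u₁ η₁ u₂ γ : 𝔄} (hu₁ : u₁ ∈ U) (hu₁I : u₁ ∉ I) (hη₁ : η₁ ∈ H) (h1 : η₁ * u₁ * η₁⁻¹ ∈ T)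
    (hu₂ : u₂ ∈ U) (hu₂I : u₂ ∉ I) (hγ : γ ∈ G) (h2 : γ * u₂ * γ⁻¹ ∈ T) : γ ∈ H := by
  have finH : Finite H := Finite.of_injective (Subgroup.inclusion hHG) (Subgroup.inclusion_injective _)
  have finU : Finite U := Finite.of_injective (Subgroup.inclusion hUG) (Subgroup.inclusion_injective _)
  have hu₁H : u₁ ∈ H := by
    have := H.mul_mem (H.mul_mem (H.inv_mem hη₁) (hTH h1)) hη₁
    have e : η₁⁻¹ * (η₁ * u₁ * η₁⁻¹) * η₁ = u₁ := by group
    rwa [e] at this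
  have hUH : U ≤ H := by
    by_contra hcon
    have hne : U ⊓ H ≠ U := fun h => hcon (inf_eq_left.mp h)
    obtain ⟨g, hg, hgV⟩ := exists_mem_normalizerIn_not_mem hUp (inf_le_left : U ⊓ H ≤ U) hne
    obtain ⟨h, hh, hhV⟩ := exists_conj_le_of_sylow (inf_le_right : U ⊓ H ≤ H) hsylH
      (hUp.to_le inf_le_left)
    have hgu : g * u₁ * g⁻¹ ∈ U ⊓ H := (Subgroup.mem_normalizer_iff.mp hg.2 u₁).mp ⟨hu₁, hu₁H⟩
    have hν : h * g * h⁻¹ ∈ H := by
      apply hse (h * g * h⁻¹) (G.mul_mem (G.mul_mem (hHG hh) (hUG hg.1)) (G.inv_mem (hHG hh)))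
        (h * u₁ * h⁻¹) (hhV u₁ ⟨hu₁, hu₁H⟩) (fun hc => hu₁I (hI h (hHG hh) _ hc))
      have e : h * g * h⁻¹ * (h * u₁ * h⁻¹) * (h * g * h⁻¹)⁻¹ = h * (g * u₁ * g⁻¹) * h⁻¹ := by group
      rw [e]
      exact hhV _ hgu
    apply hgV
    refine ⟨hg.1, ?_⟩
    have := H.mul_mem (H.mul_mem (H.inv_mem hh) hν) hh
    have e : h⁻¹ * (h * g * h⁻¹) * h = g := by group
    rwa [e] at this
  obtain ⟨h, hh, hhU⟩ := exists_conj_le_of_sylow hUH hsylH hUp
  have hν : γ * h⁻¹ ∈ H := by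
    apply hse (γ * h⁻¹) (G.mul_mem hγ (G.inv_mem (hHG hh))) (h * u₂ * h⁻¹) (hhU u₂ hu₂)
      (fun hc => hu₂I (hI h (hHG hh) _ hc))
    have e : γ * h⁻¹ * (h * u₂ * h⁻¹) * (γ * h⁻¹)⁻¹ = γ * u₂ * γ⁻¹ := by group
    rw [e]
    exact h2
  have := H.mul_mem hν hh
  rwa [inv_mul_cancel_right] at this

variable {Ω : Type*} [Group Ω] {S : Subgroup Ω}

theorem IsMap.of_le {E F : FusionSystem S} (hEF : ∀ P : Subgroup Ω, E.Hom P ⊆ F.Hom P)
    {P : Subgroup Ω} {f : Ω → Ω} (h : IsMap E P f) : IsMap F P f := by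
  obtain ⟨φ, hφ, hf⟩ := h
  exact ⟨φ, hEF P hφ, hf⟩

section

variable [Finite S] {p : ℕ} [Fact p.Prime]

/-- an `F`-automorphism of a fully normalized `P` conjugating a non-inner element of `Aut_S(P)` into
`Aut_S(P)` extends to a larger subgroup. -/
theorem mem_autGroup_of_conj_mem (hS : IsPGroup p S) {E F : FusionSystem S} (hF : F.IsSaturated p)
    {P : Subgroup Ω} (hPn : F.IsFullyNormalized P)
    (IH : ∀ P' : Subgroup Ω, Nat.card P < Nat.card P' → F.Hom P' ⊆ E.Hom P')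
    {ν : MulAut P} (hν : ν ∈ F.autGroup P) {c : MulAut P} (hc : c ∈ autInducedBy S P)
    (hcI : c ∉ Inn P) (hνc : ν * c * ν⁻¹ ∈ autInducedBy S P) : ν ∈ E.autGroup P := by
  obtain ⟨-, -, hr⟩ := IsSaturated.fullyNormalized_props hS hF hPn
  obtain ⟨g, hg, hgc⟩ := (mem_autInducedBy_iff S P c).mp hc
  obtain ⟨h, hh, hhc⟩ := (mem_autInducedBy_iff S P _).mp hνc
  have hgN := mem_normalizer_of_aut c hgc
  have hgP : g ∉ P := by
    intro hgP
    apply hcI
    refine ⟨⟨g, hgP⟩, ?_⟩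
    ext x
    rw [hgc]; rfl
  have hν' := (mem_autGroup_iff F hPn.1 ν).mp hν
  have hgext : g ∈ extender S P (P.subtype.comp ν.toMonoidHom) := by
    rw [mem_extender_iff]
    refine ⟨hg, hgN, h, hh, fun x hx => ?_⟩
    have h1 := hhc (ν x)
    have h2 : (⟨g * (x : Ω) * g⁻¹, hx⟩ : P) = c x := Subtype.ext (hgc x).symm
    rw [h2]
    simpa using h1
  have hle := le_extender F hν'
  obtain ⟨ψ, hψ, hext⟩ := exists_extension F hr hν' (range_subtype_comp ν) le_rfl hle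
  have : Finite (extender S P (P.subtype.comp ν.toMonoidHom)) :=
    finite_of_le ((extender_le _ _ _).trans inf_le_left)
  have hψE := IH _ (card_lt_card_of_le_of_not_mem hle hgext hgP) hψ
  rw [mem_autGroup_iff E hPn.1]
  exact restrict_mem' E hle hψE (fun x => (hext x).symm)

/-- transporting along two maps -/
theorem exists_transport {F : FusionSystem S} {P : Subgroup Ω} {a χ χ' : Ω → Ω}
    (ha : IsMap F P a) (haP : ∀ x ∈ P, a x ∈ P) (hχ : IsMap F P χ) (hχ' : IsMap F P χ') :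
    ∃ θ, IsMap F (img P χ) θ ∧ ∀ x ∈ P, θ (χ x) = χ' (a x) := by
  obtain ⟨χi, hχi, h1, h2⟩ := hχ.exists_inv
  have hmem : ∀ x ∈ img P χ, χi x ∈ P := by
    intro x hx
    obtain ⟨y, hy, rfl⟩ := hχ.mem_img.mp hx
    rw [h1 y hy]; exact hy
  refine ⟨χ' ∘ (a ∘ χi), (hχi.comp ha hmem).comp hχ' (fun x hx => haP _ (hmem x hx)), fun x hx => ?_⟩
  show χ' (a (χi (χ x))) = _
  rw [h1 x hx]

/-- a map fixing `A` setwise carries `C_S(A)` onto itself. -/
theorem centralizerIn_le_img {F : FusionSystem S} {P A : Subgroup Ω} {θ : Ω → Ω}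
    (hθ : IsMap F P θ) (hAP : A ≤ P) (hA : img A θ = A) (hC : centralizerIn S A ≤ P) :
    centralizerIn S A ≤ img P θ := by
  have hθC : IsMap F (centralizerIn S A) θ := hθ.mono hC
  have hle : img (centralizerIn S A) θ ≤ centralizerIn S A := by
    intro y hy
    obtain ⟨c, hc, rfl⟩ := hθC.mem_img.mp hy
    refine mem_centralizerIn.mpr ⟨hθ.mem_S (hC hc), ?_⟩
    rw [Subgroup.mem_centralizer_iff]
    intro z hz
    have hz' : z ∈ img A θ := by rw [hA]; exact hz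
    obtain ⟨x, hx, rfl⟩ := (hθ.mono hAP).mem_img.mp hz'
    rw [← hθ.map_mul (hAP hx) (hC hc), ← hθ.map_mul (hC hc) (hAP hx),
      Subgroup.mem_centralizer_iff.mp (mem_centralizerIn.mp hc).2 x hx]
  rw [← Helper26.img_eq_of_le_of_finite hθC hle]
  exact Helper26.img_mono hC

theorem normalizerIn_le_normalizer_centralizerIn (A : Subgroup Ω) :
    normalizerIn S A ≤ Subgroup.normalizer (centralizerIn S A : Set Ω) := by
  have key : ∀ g ∈ normalizerIn S A, ∀ c ∈ centralizerIn S A, g * c * g⁻¹ ∈ centralizerIn S A := by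
    intro g hg c hc
    refine mem_centralizerIn.mpr ⟨S.mul_mem (S.mul_mem hg.1 hc.1) (S.inv_mem hg.1), ?_⟩
    rw [Subgroup.mem_centralizer_iff]
    intro z hz
    have h1 : g⁻¹ * z * g⁻¹⁻¹ ∈ A :=
      (Subgroup.mem_normalizer_iff.mp (Subgroup.inv_mem _ hg.2) z).mp hz
    have h2 := Subgroup.mem_centralizer_iff.mp hc.2 _ h1
    calc z * (g * c * g⁻¹) = g * ((g⁻¹ * z * g⁻¹⁻¹) * c) * g⁻¹ := by group
      _ = g * (c * (g⁻¹ * z * g⁻¹⁻¹)) * g⁻¹ := by rw [h2]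
      _ = g * c * g⁻¹ * z := by group
  intro g hg
  rw [Subgroup.mem_normalizer_iff]
  intro c
  refine ⟨key g hg c, fun h => ?_⟩
  have := key g⁻¹ (inv_mem hg) _ h
  have e : g⁻¹ * (g * c * g⁻¹) * g⁻¹⁻¹ = c := by group
  rwa [e] at this


/-- Lemma E: if `C_S(χ(A₀))` is not contained in `χ(P)`, some `η ∈ Aut_E(P)` moves `A₀` to a subgroup
centralized by an element of `N_S(P)` outside `P`. -/
theorem exists_aut_centralized (hS : IsPGroup p S) {E F : FusionSystem S} (hF : F.IsSaturated p)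
    (hEF : ∀ P : Subgroup Ω, E.Hom P ⊆ F.Hom P)
    {P : Subgroup Ω} (hPn : F.IsFullyNormalized P)
    (IH : ∀ P' : Subgroup Ω, Nat.card P < Nat.card P' → F.Hom P' ⊆ E.Hom P')
    {A₀ : Subgroup Ω} (hA₀P : A₀ ≤ P) (hA₀n : ∀ g ∈ P, ∀ a ∈ A₀, g * a * g⁻¹ ∈ A₀)
    {χ : Ω → Ω} (hχ : IsMap E P χ) (hC : ¬ centralizerIn S (img A₀ χ) ≤ img P χ) :
    ∃ η ∈ E.autGroup P, ∃ x₁ ∈ normalizerIn S P, x₁ ∉ P ∧
      ∀ y : P, (y : Ω) ∈ A₀ → x₁ * ((η y : P) : Ω) = ((η y : P) : Ω) * x₁ := by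
  have hχF : IsMap F P χ := IsMap.of_le hEF hχ
  have hP₁S : img P χ ≤ S := hχ.img_le
  have hχA : IsMap E A₀ χ := hχ.mono hA₀P
  have hP₁N : img P χ ≤ normalizerIn S (img A₀ χ) := by
    have key : ∀ g ∈ img P χ, ∀ z ∈ img A₀ χ, g * z * g⁻¹ ∈ img A₀ χ := by
      intro g hg z hz
      obtain ⟨g', hg', rfl⟩ := hχ.mem_img.mp hg
      obtain ⟨z', hz', rfl⟩ := hχA.mem_img.mp hz
      rw [← hχ.map_inv hg', ← hχ.map_mul hg' (hA₀P hz'),
        ← hχ.map_mul (P.mul_mem hg' (hA₀P hz')) (P.inv_mem hg')]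
      exact Helper26.mem_img_of_mem (hA₀n g' hg' z' hz')
    intro g hg
    refine mem_normalizerIn.mpr ⟨hP₁S hg, ?_⟩
    rw [Subgroup.mem_normalizer_iff]
    intro z
    refine ⟨key g hg z, fun h => ?_⟩
    have := key g⁻¹ (inv_mem hg) _ h
    have e : g⁻¹ * (g * z * g⁻¹) * g⁻¹⁻¹ = z := by group
    rwa [e] at this
  obtain ⟨x, hxC, hxN, hxP⟩ : ∃ x ∈ centralizerIn S (img A₀ χ),
      x ∈ Subgroup.normalizer (img P χ : Set Ω) ∧ x ∉ img P χ := by
    by_contra hcon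
    push Not at hcon
    exact hC (le_of_normalizerIn_le hS hP₁S inf_le_left
      (hP₁N.trans (normalizerIn_le_normalizer_centralizerIn _)) hcon)
  have hconj : F.IsConj (img P χ) P :=
    Helper26.isConj_symm (Helper26.isConj_iff.mpr ⟨χ, hχF, rfl⟩)
  obtain ⟨ω, hω, hωN, hωP⟩ := Helper26.exists_normalizer_isMap hS hF hPn hconj
  have hle : img P χ ≤ normalizerIn S (img P χ) := le_normalizerIn hP₁S
  have hxN' : x ∈ normalizerIn S (img P χ) := ⟨hxC.1, hxN⟩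
  have : Finite (normalizerIn S (img P χ)) := finite_of_le inf_le_left
  have hlt : Nat.card P < Nat.card (normalizerIn S (img P χ)) := by
    rw [← hχ.card_img]
    exact card_lt_card_of_le_of_not_mem hle hxN' hxP
  have hωE : IsMap E (normalizerIn S (img P χ)) ω := by
    obtain ⟨φ, hφ, hf⟩ := hω
    exact ⟨φ, IH _ hlt hφ, hf⟩
  have hη : IsMap E P (ω ∘ χ) := hχ.comp (hωE.mono hle) (fun x hx => Helper26.mem_img_of_mem hx)
  have hηimg : img P (ω ∘ χ) = P := by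
    rw [hχ.img_comp (hωE.mono hle) (fun x hx => Helper26.mem_img_of_mem hx), hωP]
  obtain ⟨η, hηE, hηf⟩ := hη.exists_aut hηimg
  refine ⟨η, hηE, ω x, hωN x hxN', ?_, fun y hy => ?_⟩
  · intro h
    rw [← hωP] at h
    obtain ⟨z, hz, hzx⟩ := (hωE.mono hle).mem_img.mp h
    have := hωE.inj (hle hz) hxN' hzx
    exact hxP (this ▸ hz)
  · rw [hηf]
    show ω x * ω (χ y) = ω (χ y) * ω x
    have hχy : χ y ∈ img A₀ χ := Helper26.mem_img_of_mem hy
    have hχy' : χ y ∈ normalizerIn S (img P χ) := hle (Helper26.mem_img_of_mem y.2)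
    rw [← hωE.map_mul hxN' hχy', ← hωE.map_mul hχy' hxN',
      Subgroup.mem_centralizer_iff.mp hxC.2 _ hχy]


omit [Finite S] in
theorem le_normalizerIn_of_conj_mem {K A : Subgroup Ω} (hK : K ≤ S)
    (h : ∀ g ∈ K, ∀ a ∈ A, g * a * g⁻¹ ∈ A) : K ≤ normalizerIn S A := by
  intro g hg
  refine mem_normalizerIn.mpr ⟨hK hg, ?_⟩
  rw [Subgroup.mem_normalizer_iff]
  intro z
  refine ⟨h g hg z, fun hz => ?_⟩
  have := h g⁻¹ (inv_mem hg) _ hz
  have e : g⁻¹ * (g * z * g⁻¹) * g⁻¹⁻¹ = z := by group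
  rwa [e] at this

/-- The key dichotomy. -/
theorem mem_or_exists_agree (hS : IsPGroup p S) {E F : FusionSystem S} (hE : E.IsSaturated p)
    (hF : F.IsSaturated p) (hEF : ∀ P : Subgroup Ω, E.Hom P ⊆ F.Hom P)
    {P : Subgroup Ω} (hPn : F.IsFullyNormalized P) (hPc : F.IsCentric P)
    (IH : ∀ P' : Subgroup Ω, Nat.card P < Nat.card P' → F.Hom P' ⊆ E.Hom P')
    {A : Subgroup Ω} (hAP : A ≤ P) (hAn : ∀ g ∈ P, ∀ a ∈ A, g * a * g⁻¹ ∈ A)
    (U : Subgroup (MulAut P))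
    (hU : ∀ κ, κ ∈ U ↔ κ ∈ F.autGroup P ∧ ∀ x : P, (x : Ω) ∈ A → κ x = x) (hUp : IsPGroup p U)
    {α : MulAut P} (hα : α ∈ F.autGroup P) (haA : IsMap E A (autFun α)) :
    α ∈ E.autGroup P ∨ ∃ β ∈ E.autGroup P, ∀ x : P, (x : Ω) ∈ A → β x = α x := by
  have hP := hPn.1
  have finP : Finite P := finite_of_le hP
  have hHG : E.autGroup P ≤ F.autGroup P := by
    intro α hα
    rw [mem_autGroup_iff _ hP] at hα ⊢
    exact hEF _ hα
  have hPnE : E.IsFullyNormalized P :=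
    ⟨hP, fun Q hQ => hPn.2 Q (by obtain ⟨φ, hφ, hr⟩ := hQ; exact ⟨φ, hEF _ hφ, hr⟩)⟩
  obtain ⟨-, ⟨-, hsylE⟩, -⟩ := IsSaturated.fullyNormalized_props hS hE hPnE
  have hTH : autInducedBy S P ≤ E.autGroup P := autInducedBy_le_autGroup E hP
  have ha : IsMap F P (autFun α) := (Helper26.mem_autGroup_iff hP).mp hα
  set a := autFun α with ha_def
  have haP : ∀ x ∈ P, a x ∈ P := fun x hx => Helper26.autFun_mem α hx
  set B := img A a with hB
  have hBP : B ≤ P := by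
    intro y hy
    obtain ⟨x, hx, rfl⟩ := haA.mem_img.mp hy
    exact haP x (hAP hx)
  have hBn : ∀ g ∈ P, ∀ b ∈ B, g * b * g⁻¹ ∈ B := by
    intro g hg b hb
    obtain ⟨y, hy, rfl⟩ := haA.mem_img.mp hb
    have : g ∈ img P a := by rw [ha_def, Helper26.img_autFun]; exact hg
    obtain ⟨g', hg', rfl⟩ := ha.mem_img.mp this
    rw [← ha.map_inv hg', ← ha.map_mul hg' (hAP hy),
      ← ha.map_mul (P.mul_mem hg' (hAP hy)) (P.inv_mem hg')]
    exact Helper26.mem_img_of_mem (hAn g' hg' y hy)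
  obtain ⟨As, hconj, hfn⟩ := IsSaturated.exists_fullyNormalized hS hE (hAP.trans hP)
  obtain ⟨χ, hχ, hχN, hχA⟩ := Helper26.exists_normalizer_isMap hS hE hfn hconj
  have hconjB : E.IsConj B As :=
    Helper26.isConj_trans (Helper26.isConj_symm (Helper26.isConj_iff.mpr ⟨a, haA, rfl⟩)) hconj
  obtain ⟨χ', hχ', hχ'N, hχ'B⟩ := Helper26.exists_normalizer_isMap hS hE hfn hconjB
  have hPNA : P ≤ normalizerIn S A := le_normalizerIn_of_conj_mem hP hAn
  have hPNB : P ≤ normalizerIn S B := le_normalizerIn_of_conj_mem hP hBn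
  have hχP : IsMap E P χ := hχ.mono hPNA
  have hχ'P : IsMap E P χ' := hχ'.mono hPNB
  have hχAm : IsMap E A χ := hχP.mono hAP
  by_cases hC : centralizerIn S As ≤ img P χ
  · right
    obtain ⟨θ, hθ, hθχ⟩ := exists_transport ha haP (IsMap.of_le hEF hχP) (IsMap.of_le hEF hχ'P)
    have hAsP₁ : As ≤ img P χ := by rw [← hχA]; exact Helper26.img_mono hAP
    have hAs_ex : ∀ x ∈ As, ∃ y ∈ A, χ y = x := by
      intro x hx
      rw [← hχA] at hx
      exact hχAm.mem_img.mp hx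
    have hθE : IsMap E As θ := by
      obtain ⟨χi, hχi, h1, h2⟩ := hχAm.exists_inv
      rw [hχA] at hχi
      have hm : ∀ x ∈ As, χi x ∈ A := by
        intro x hx
        obtain ⟨y, hy, rfl⟩ := hAs_ex x hx
        rw [h1 y hy]; exact hy
      have := (hχi.comp haA hm).comp (hχ'P.mono hBP)
        (fun x hx => Helper26.mem_img_of_mem (hm x hx))
      refine this.congr (fun x hx => ?_)
      obtain ⟨y, hy, rfl⟩ := hAs_ex x hx
      show χ' (a (χi (χ y))) = θ (χ y)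
      rw [h1 y hy, hθχ y (hAP hy)]
    have hθAs : img As θ = As := by
      apply Helper26.img_eq_of_le_of_finite hθE
      intro z hz
      obtain ⟨x, hx, rfl⟩ := hθE.mem_img.mp hz
      obtain ⟨y, hy, rfl⟩ := hAs_ex x hx
      rw [hθχ y (hAP hy), ← hχ'B]
      exact Helper26.mem_img_of_mem (Helper26.mem_img_of_mem hy)
    obtain ⟨-, -, hrec⟩ := IsSaturated.fullyNormalized_props hS hE hfn
    have hP₁N : ∀ g ∈ img P χ, g ∈ normalizerIn S As := by
      intro g hg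
      obtain ⟨g', hg', rfl⟩ := hχP.mem_img.mp hg
      exact hχN g' (hPNA hg')
    obtain ⟨τ, hτ, hτθ⟩ := Helper26.exists_ext_of_receptive hrec hθE hθAs hAsP₁
      (fun g hg => ⟨(hP₁N g hg).1, (hP₁N g hg).2, θ g, hθ.mem_S hg, fun x hx => by
        rw [hθ.map_mul (mul_mem hg (hAsP₁ hx)) (inv_mem hg), hθ.map_mul hg (hAsP₁ hx),
          hθ.map_inv hg]⟩)
    have hθP₂ : img (img P χ) θ ≤ img P χ' := by
      intro z hz
      obtain ⟨x, hx, rfl⟩ := hθ.mem_img.mp hz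
      obtain ⟨y, hy, rfl⟩ := hχP.mem_img.mp hx
      rw [hθχ y hy]
      exact Helper26.mem_img_of_mem (haP y hy)
    have hCP₂ : centralizerIn S As ≤ img P χ' :=
      (centralizerIn_le_img hθ hAsP₁ hθAs hC).trans hθP₂
    have hτP₂ : ∀ g ∈ img P χ, τ g ∈ img P χ' := by
      intro g hg
      have hc : (θ g)⁻¹ * τ g ∈ centralizerIn S As := by
        refine mem_centralizerIn.mpr ⟨S.mul_mem (S.inv_mem (hθ.mem_S hg)) (hτ.mem_S hg), ?_⟩
        rw [Subgroup.mem_centralizer_iff]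
        intro z hz
        have hz' : z ∈ img As θ := by rw [hθAs]; exact hz
        obtain ⟨x, hx, rfl⟩ := hθE.mem_img.mp hz'
        have hgx : g * x * g⁻¹ ∈ As := (Subgroup.mem_normalizer_iff.mp (hP₁N g hg).2 x).mp hx
        have e1 : τ g * θ x * (τ g)⁻¹ = θ g * θ x * (θ g)⁻¹ := by
          rw [← hτθ x hx, ← hτ.map_inv hg, ← hτ.map_mul hg (hAsP₁ hx),
            ← hτ.map_mul (mul_mem hg (hAsP₁ hx)) (inv_mem hg), hτθ _ hgx,
            hθ.map_mul (mul_mem hg (hAsP₁ hx)) (inv_mem hg), hθ.map_mul hg (hAsP₁ hx),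
            hθ.map_inv hg, hτθ x hx]
        calc θ x * ((θ g)⁻¹ * τ g) = (θ g)⁻¹ * (θ g * θ x * (θ g)⁻¹) * τ g := by group
          _ = (θ g)⁻¹ * (τ g * θ x * (τ g)⁻¹) * τ g := by rw [e1]
          _ = (θ g)⁻¹ * τ g * θ x := by group
      have h1 : θ g ∈ img P χ' := hθP₂ (Helper26.mem_img_of_mem hg)
      have := mul_mem h1 (hCP₂ hc)
      rwa [mul_inv_cancel_left] at this
    obtain ⟨χ'i, hχ'i, k1, k2⟩ := hχ'P.exists_inv
    have hβ : IsMap E P (χ'i ∘ (τ ∘ χ)) :=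
      (hχP.comp hτ (fun x hx => Helper26.mem_img_of_mem hx)).comp hχ'i
        (fun x hx => hτP₂ _ (Helper26.mem_img_of_mem hx))
    have hβimg : img P (χ'i ∘ (τ ∘ χ)) = P := by
      apply Helper26.img_eq_of_le_of_finite hβ
      intro z hz
      obtain ⟨x, hx, rfl⟩ := hβ.mem_img.mp hz
      show χ'i (τ (χ x)) ∈ P
      obtain ⟨y, hy, hyx⟩ := hχ'P.mem_img.mp (hτP₂ _ (Helper26.mem_img_of_mem hx))
      rw [← hyx, k1 y hy]; exact hy
    obtain ⟨β, hβE, hβf⟩ := hβ.exists_aut hβimg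
    refine ⟨β, hβE, fun x hx => Subtype.ext ?_⟩
    rw [hβf]
    show χ'i (τ (χ x)) = _
    have hχx : χ x ∈ As := by rw [← hχA]; exact Helper26.mem_img_of_mem hx
    rw [hτθ _ hχx, hθχ x x.2, k1 _ (haP x x.2)]
    exact Helper26.autFun_apply α x
  · left
    have hC' : ¬ centralizerIn S As ≤ img P χ' := by
      intro hC'
      apply hC
      have hai : IsMap F P (autFun α⁻¹) := (Helper26.mem_autGroup_iff hP).mp (inv_mem hα)
      obtain ⟨θ', hθ', hθ'χ⟩ := exists_transport hai (fun x hx => Helper26.autFun_mem _ hx)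
        (IsMap.of_le hEF hχ'P) (IsMap.of_le hEF hχP)
      have hAsP₂ : As ≤ img P χ' := by rw [← hχ'B]; exact Helper26.img_mono hBP
      have hθ'As : img As θ' = As := by
        apply Helper26.img_eq_of_le_of_finite (hθ'.mono hAsP₂)
        intro z hz
        obtain ⟨x, hx, rfl⟩ := (hθ'.mono hAsP₂).mem_img.mp hz
        rw [← hχ'B] at hx
        obtain ⟨b, hb, rfl⟩ := (hχ'P.mono hBP).mem_img.mp hx
        obtain ⟨y, hy, rfl⟩ := haA.mem_img.mp hb
        rw [hθ'χ _ (haP y (hAP hy))]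
        have e : autFun α⁻¹ (a y) = y := by
          rw [ha_def, Helper26.autFun_of_mem α (hAP hy), Helper26.autFun_apply]
          simp
        rw [e, ← hχA]
        exact Helper26.mem_img_of_mem hy
      refine (centralizerIn_le_img hθ' hAsP₂ hθ'As hC').trans ?_
      intro z hz
      obtain ⟨x, hx, rfl⟩ := hθ'.mem_img.mp hz
      obtain ⟨y, hy, rfl⟩ := hχ'P.mem_img.mp hx
      rw [hθ'χ y hy]
      exact Helper26.mem_img_of_mem (Helper26.autFun_mem _ hy)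
    rw [← hχA] at hC
    rw [← hχ'B] at hC'
    obtain ⟨η₁, hη₁, x₁, hx₁N, hx₁P, hx₁c⟩ :=
      exists_aut_centralized hS hF hEF hPn IH hAP hAn hχP hC
    obtain ⟨η₂, hη₂, x₂, hx₂N, hx₂P, hx₂c⟩ :=
      exists_aut_centralized hS hF hEF hPn IH hBP hBn hχ'P hC'
    have hInn : ∀ (ν c : MulAut P), ν * c * ν⁻¹ ∈ Inn P → c ∈ Inn P := by
      intro ν c h
      have := (innNormal P).conj_mem _ h ν⁻¹
      have e : ν⁻¹ * (ν * c * ν⁻¹) * ν⁻¹⁻¹ = c := by group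
      rwa [e] at this
    have hu : ∀ ζ ∈ F.autGroup P, ∀ (x₁ : Ω) (hx : x₁ ∈ normalizerIn S P), x₁ ∉ P →
        (∀ y : P, (y : Ω) ∈ A → x₁ * ((ζ y : P) : Ω) = ((ζ y : P) : Ω) * x₁) →
        (ζ⁻¹ * conjAut P x₁ hx.2 * ζ ∈ U) ∧ (ζ⁻¹ * conjAut P x₁ hx.2 * ζ ∉ Inn P) ∧
          ζ * (ζ⁻¹ * conjAut P x₁ hx.2 * ζ) * ζ⁻¹ ∈ autInducedBy S P := by
      intro ζ hζ x₁ hx hxP hc
      have hcT : conjAut P x₁ hx.2 ∈ autInducedBy S P := conjAut_mem_autInducedBy hx.1 hx.2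
      have e : ζ * (ζ⁻¹ * conjAut P x₁ hx.2 * ζ) * ζ⁻¹ = conjAut P x₁ hx.2 := by group
      refine ⟨?_, ?_, ?_⟩
      · rw [hU]
        refine ⟨mul_mem (mul_mem (inv_mem hζ) (autInducedBy_le_autGroup F hP hcT)) hζ,
          fun y hy => ?_⟩
        rw [MulAut.mul_apply, MulAut.mul_apply]
        have h1 : conjAut P x₁ hx.2 (ζ y) = ζ y := by
          apply Subtype.ext
          rw [conjAut_apply, hc y hy, mul_inv_cancel_right]
        rw [h1]
        simp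
      · intro h
        apply hxP
        have h2 : conjAut P x₁ hx.2 ∈ Inn P := by
          apply hInn ζ⁻¹
          rwa [inv_inv]
        exact mem_of_inner hP (hPc.2 P (isConj_refl F hP)) hx.1 (fun _ => rfl) h2
      · rw [e]; exact hcT
    obtain ⟨a1, a2, a3⟩ := hu η₁ (hHG hη₁) x₁ hx₁N hx₁P hx₁c
    obtain ⟨b1, b2, b3⟩ := hu (η₂ * α) (mul_mem (hHG hη₂) hα) x₂ hx₂N hx₂P (by
      intro y hy
      rw [MulAut.mul_apply]
      apply hx₂c
      have : ((α y : P) : Ω) = a y := (Helper26.autFun_apply α y).symm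
      rw [this]
      exact Helper26.mem_img_of_mem hy)
    have hmem : η₂ * α ∈ E.autGroup P :=
      mem_of_se_fusion (G := F.autGroup P) (H := E.autGroup P) (T := autInducedBy S P) (I := Inn P)
        (U := U) hHG hTH hsylE (fun ν _ c h => hInn ν c h)
        (fun ν hν c hc hcI h => mem_autGroup_of_conj_mem hS hF hPn IH hν hc hcI h)
        (fun κ h => ((hU κ).mp h).1) hUp a1 a2 hη₁ a3 b1 b2 (mul_mem (hHG hη₂) hα) b3
    have := mul_mem (inv_mem hη₂) hmem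
    rwa [inv_mul_cancel_left] at this


theorem autGroup_le_of_restrict (hS : IsPGroup p S) {E F : FusionSystem S} (hE : E.IsSaturated p)
    (hF : F.IsSaturated p) (hEF : ∀ P : Subgroup Ω, E.Hom P ⊆ F.Hom P)
    {P : Subgroup Ω} (hPn : F.IsFullyNormalized P) (hPc : F.IsCentric P)
    (IH : ∀ P' : Subgroup Ω, Nat.card P < Nat.card P' → F.Hom P' ⊆ E.Hom P')
    {A : Subgroup Ω} (hAP : A ≤ P) (hAn : ∀ g ∈ P, ∀ a ∈ A, g * a * g⁻¹ ∈ A)
    (hCA : ∀ α ∈ F.autGroup P, (∀ x : P, (x : Ω) ∈ A → α x = x) → ∃ k : ℕ, orderOf α = p ^ k)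
    (hAE : ∀ α ∈ F.autGroup P, IsMap E A (autFun α)) :
    F.autGroup P ≤ E.autGroup P := by
  have hP := hPn.1
  have finP : Finite P := finite_of_le hP
  obtain ⟨-, ⟨-, hsylF⟩, -⟩ := IsSaturated.fullyNormalized_props hS hF hPn
  have hTH : autInducedBy S P ≤ E.autGroup P := autInducedBy_le_autGroup E hP
  let U : Subgroup (MulAut P) :=
    { carrier := {κ | κ ∈ F.autGroup P ∧ ∀ x : P, (x : Ω) ∈ A → κ x = x}
      one_mem' := ⟨one_mem _, fun _ _ => rfl⟩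
      mul_mem' := by
        rintro a b ⟨ha, ha'⟩ ⟨hb, hb'⟩
        refine ⟨mul_mem ha hb, fun x hx => ?_⟩
        rw [MulAut.mul_apply, hb' x hx, ha' x hx]
      inv_mem' := by
        rintro a ⟨ha, ha'⟩
        refine ⟨inv_mem ha, fun x hx => ?_⟩
        rw [MulAut.inv_apply, MulEquiv.symm_apply_eq, ha' x hx] }
  have hU : ∀ κ, κ ∈ U ↔ κ ∈ F.autGroup P ∧ ∀ x : P, (x : Ω) ∈ A → κ x = x := fun _ => Iff.rfl
  have hUp : IsPGroup p U := by
    rintro ⟨κ, hκ⟩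
    obtain ⟨k, hk⟩ := hCA κ hκ.1 hκ.2
    refine ⟨k, Subtype.ext ?_⟩
    show κ ^ p ^ k = 1
    rw [← hk, pow_orderOf_eq_one]
  have key : ∀ α ∈ F.autGroup P,
      α ∈ E.autGroup P ∨ ∃ β ∈ E.autGroup P, ∀ x : P, (x : Ω) ∈ A → β x = α x :=
    fun α hα => mem_or_exists_agree hS hE hF hEF hPn hPc IH hAP hAn U hU hUp hα (hAE α hα)
  have hHG : E.autGroup P ≤ F.autGroup P := by
    intro α hα
    rw [mem_autGroup_iff _ hP] at hα ⊢
    exact hEF _ hα
  have hdiv : ∀ α ∈ F.autGroup P, ∀ β ∈ E.autGroup P, (∀ x : P, (x : Ω) ∈ A → β x = α x) →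
      β⁻¹ * α ∈ U := by
    intro α hα β hβ h
    refine ⟨mul_mem (inv_mem (hHG hβ)) hα, fun x hx => ?_⟩
    rw [MulAut.mul_apply, ← h x hx]
    simp
  obtain ⟨γ, hγ, hγU⟩ := exists_conj_le_of_sylow (B := U) (fun κ h => h.1) hsylF hUp
  have hUH : U ≤ E.autGroup P := by
    intro u hu
    rcases key γ hγ with h | ⟨β, hβ, hβγ⟩
    · have := mul_mem (mul_mem (inv_mem h) (hTH (hγU u hu))) h
      have e : γ⁻¹ * (γ * u * γ⁻¹) * γ = u := by group
      rwa [e] at this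
    · have hw := hdiv γ hγ β hβ hβγ
      have h1 : (β⁻¹ * γ)⁻¹ * u * (β⁻¹ * γ) ∈ U := mul_mem (mul_mem (inv_mem hw) hu) hw
      have h2 := hTH (hγU _ h1)
      have e : γ * ((β⁻¹ * γ)⁻¹ * u * (β⁻¹ * γ)) * γ⁻¹ = β * u * β⁻¹ := by group
      rw [e] at h2
      have := mul_mem (mul_mem (inv_mem hβ) h2) hβ
      have e2 : β⁻¹ * (β * u * β⁻¹) * β = u := by group
      rwa [e2] at this
  intro α hα
  rcases key α hα with h | ⟨β, hβ, hβα⟩
  · exact h
  · have := mul_mem hβ (hUH (hdiv α hα β hβ hβα))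
    rwa [mul_inv_cancel_left] at this

/-- `E = F` as soon as `E` contains the `F`-maps between the abelian subgroups of small exponent of the
hyperfocal subgroup. -/
theorem le_of_small_abelian (hS : IsPGroup p S) {E F : FusionSystem S} (hE : E.IsSaturated p)
    (hF : F.IsSaturated p) (hEF : ∀ P : Subgroup Ω, E.Hom P ⊆ F.Hom P)
    (h : ∀ A B : Subgroup Ω, A ≤ F.hyperfocalSubgroup p → B ≤ F.hyperfocalSubgroup p →
      IsMulCommutative ↥A → IsMulCommutative ↥B → (∀ a ∈ A, a ^ p = 1 ∨ (p = 2 ∧ a ^ 4 = 1)) →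
      (∀ b ∈ B, b ^ p = 1 ∨ (p = 2 ∧ b ^ 4 = 1)) → F.homSet A B ⊆ E.homSet A B) : F ≤ E := by
  refine alperin_induction hS hF E (fun P hPn hPc _ IH => ?_)
  have hP := hPn.1
  have finP : Finite P := finite_of_le hP
  obtain ⟨D, hDP, hDh, hDinv, hDexp, -, hDA⟩ := exists_small_exp_fusion hS F hP
  have finD : Finite D := finite_of_le (hDP.trans hP)
  -- a maximal abelian subgroup of `D`
  have hfin : {X : Subgroup Ω | X ≤ D ∧ IsMulCommutative ↥X}.Finite := by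
    have h1 : (Set.Iic D).Finite := by
      have : Finite (Subgroup D) := inferInstance
      have e : Set.Iic D ⊆ Set.range (fun X : Subgroup D => X.map D.subtype) := by
        intro X hX
        exact ⟨X.subgroupOf D, by simpa using hX⟩
      exact (Set.finite_range _).subset e
    exact h1.subset (fun X hX => hX.1)
  obtain ⟨A, hA⟩ := hfin.exists_maximal ⟨⊥, bot_le, ⟨⟨fun a b => by
    apply Subtype.ext
    have ha := a.2
    have hb := b.2
    rw [Subgroup.mem_bot] at ha hb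
    show (a : Ω) * b = b * a
    rw [ha, hb]⟩⟩⟩
  obtain ⟨⟨hAD, hAc⟩, hAmax⟩ := hA
  obtain ⟨hAn, hCA⟩ := hDA A hAD hAc (fun B hAB hBD hB => le_antisymm (hAmax ⟨hBD, hB⟩ hAB) hAB)
  refine autGroup_le_of_restrict hS hE hF hEF hPn hPc IH (hAD.trans hDP) hAn hCA (fun α hα => ?_)
  have hAP := hAD.trans hDP
  have ha : IsMap F P (autFun α) := (Helper26.mem_autGroup_iff hP).mp hα
  have haA := ha.mono hAP
  obtain ⟨φ, hφ, hφf⟩ := haA
  have hBD : img A (autFun α) ≤ D := by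
    intro y hy
    obtain ⟨x, hx, rfl⟩ := (ha.mono hAP).mem_img.mp hy
    rw [Helper26.autFun_of_mem α (hAP hx)]
    exact hDinv α hα ⟨x, hAP hx⟩ (hAD hx)
  have hBc : IsMulCommutative ↥(img A (autFun α)) := by
    refine ⟨⟨fun u v => ?_⟩⟩
    obtain ⟨x, hx, hxu⟩ := (ha.mono hAP).mem_img.mp u.2
    obtain ⟨y, hy, hyv⟩ := (ha.mono hAP).mem_img.mp v.2
    apply Subtype.ext
    show (u : Ω) * v = v * u
    rw [← hxu, ← hyv, ← ha.map_mul (hAP hx) (hAP hy), ← ha.map_mul (hAP hy) (hAP hx)]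
    congr 1
    exact congrArg Subtype.val (mul_comm' (⟨x, hx⟩ : A) ⟨y, hy⟩)
  have := h A (img A (autFun α)) (hAD.trans hDh) (hBD.trans hDh) hAc hBc
    (fun a ha => hDexp a (hAD ha)) (fun b hb => hDexp b (hBD hb))
    ⟨hφ, fun x => by rw [hφf]; exact Helper26.mem_img_of_mem x.2⟩
  exact ⟨φ, this.1, hφf⟩

end

end Cfsg.Agent.Lib.Helper27
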