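import Cfsg.Agent.Lib.Helper27.FactorCenter
import Cfsg.Agent.Lib.Helper27.FusionSolvable
import Cfsg.Agent.Lib.Helper26.Invariant
import Cfsg.Agent.Lib.Helper26.FactorSat
import Cfsg.Agent.Lib.Helper26.Model

/-!
Transport of normal subsystems along an isomorphism of fusion systems.
-/

set_option autoImplicit false

namespace Cfsg.Agent.Lib.Helper27

open Cfsg Cfsg.FusionSystem
open Cfsg.Agent.Lib.Helper26 (IsMap img autFun FacData FacMap toFun₂ mem_preimageAlong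
  mem_imageAlong indFun)

section ext

variable {Ω : Type*} [Group Ω] {S T : Subgroup Ω}

/-- function-level extension condition -/
def ExtCond (E : FusionSystem T) (F : FusionSystem S) : Prop :=
  ∀ a, IsMap E T a → ∃ b, IsMap F (T ⊔ centralizerIn S T) b ∧
    (∀ x ∈ T ⊔ centralizerIn S T, b x ∈ T ⊔ centralizerIn S T) ∧ (∀ x ∈ T, b x = a x) ∧
    ∀ c ∈ centralizerIn S T, c⁻¹ * b c ∈ T ⊓ Subgroup.centralizer (T : Set Ω)

theorem isNormalIn_iff_extCond [Finite S] (hTS : T ≤ S) {E : FusionSystem T} {F : FusionSystem S}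
    {p : ℕ} : E.IsNormalIn F p ↔ E.IsWeaklyNormalIn F p ∧ ExtCond E F := by
  have hfT : Finite T := Helper26.finite_of_le hTS
  have hR : T ⊔ centralizerIn S T ≤ S := sup_le hTS inf_le_left
  constructor
  · rintro ⟨h1, h2⟩
    refine ⟨h1, fun a ha => ?_⟩
    have himg : img T a = T := Helper26.img_eq_of_le_of_finite ha ha.img_le
    obtain ⟨α, hα, hαa⟩ := ha.exists_aut himg
    obtain ⟨β, hβ, hβ1, hβ2⟩ := h2 α hα
    refine ⟨autFun β, (Helper26.mem_autGroup_iff hR).mp hβ, fun x hx => Helper26.autFun_mem β hx,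
      fun x hx => ?_, fun c hc => ?_⟩
    · rw [Helper26.autFun_of_mem β (le_sup_left (a := T) hx), ← hαa ⟨x, hx⟩, ← hβ1 ⟨x, hx⟩]
      rfl
    · have hc' : c ∈ T ⊔ centralizerIn S T := le_sup_right (a := T) hc
      rw [Helper26.autFun_of_mem β hc']
      exact hβ2 ⟨c, hc'⟩ hc
  · rintro ⟨h1, h2⟩
    refine ⟨h1, fun α hα => ?_⟩
    obtain ⟨b, hb, hb1, hb2, hb3⟩ := h2 _ ((Helper26.mem_autGroup_iff le_rfl).mp hα)
    have himg : img (T ⊔ centralizerIn S T) b = T ⊔ centralizerIn S T := by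
      apply Helper26.img_eq_of_le_of_finite hb
      intro y hy
      obtain ⟨x, hx, rfl⟩ := hb.mem_img.mp hy
      exact hb1 x hx
    obtain ⟨β, hβ, hβb⟩ := hb.exists_aut himg
    refine ⟨β, hβ, fun x => ?_, fun c hc => ?_⟩
    · rw [hβb]
      show b (x : Ω) = _
      rw [hb2 x x.2, Helper26.autFun_apply]
    · rw [hβb]
      exact hb3 c hc

end ext

variable {Ω₁ : Type*} [Group Ω₁] {S₁ : Subgroup Ω₁} {Ω₂ : Type*} [Group Ω₂] {S₂ : Subgroup Ω₂}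

theorem stronglyClosed_bot (F : FusionSystem S₁) : F.StronglyClosed ⊥ := by
  rw [Helper26.stronglyClosed_iff]
  refine ⟨bot_le, fun R hR f hf x hx => ?_⟩
  have := Subgroup.mem_bot.mp (hR hx)
  rw [this, hf.map_one]
  exact Subgroup.one_mem _

theorem FacData.inj_of_bot {F₁ : FusionSystem S₁} {θ : S₁ →* Ω₂} (d : FacData F₁ ⊥ θ S₂)
    {x y : Ω₁} (hx : x ∈ S₁) (hy : y ∈ S₁) (h : toFun₂ θ x = toFun₂ θ y) : x = y := by
  have := (d.eq_iff hx hy).mp h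
  rw [Subgroup.mem_bot, inv_mul_eq_one] at this
  exact this

/-- restriction of `θ` to a subgroup -/
def resHom (θ : S₁ →* Ω₂) {T₁ : Subgroup Ω₁} (hT : T₁ ≤ S₁) : T₁ →* Ω₂ :=
  θ.comp (Subgroup.inclusion hT)

theorem toFun₂_resHom (θ : S₁ →* Ω₂) {T₁ : Subgroup Ω₁} (hT : T₁ ≤ S₁) {x : Ω₁} (hx : x ∈ T₁) :
    toFun₂ (resHom θ hT) x = toFun₂ θ x := by
  rw [Helper26.toFun₂_of_mem _ hx, Helper26.toFun₂_of_mem _ (hT hx)]
  rfl

theorem imageAlong_resHom (θ : S₁ →* Ω₂) {T₁ : Subgroup Ω₁} (hT : T₁ ≤ S₁) {P : Subgroup Ω₁}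
    (hP : P ≤ T₁) : imageAlong (resHom θ hT) P = imageAlong θ P := by
  ext y
  rw [mem_imageAlong, mem_imageAlong]
  constructor
  · rintro ⟨x, hx, hxT, rfl⟩
    exact ⟨x, hx, hT hxT, (toFun₂_resHom θ hT hxT).symm⟩
  · rintro ⟨x, hx, -, rfl⟩
    exact ⟨x, hx, hP hx, toFun₂_resHom θ hT (hP hx)⟩

theorem preimageAlong_resHom {F₁ : FusionSystem S₁} {θ : S₁ →* Ω₂} (d : FacData F₁ ⊥ θ S₂)
    {T₁ : Subgroup Ω₁} (hT : T₁ ≤ S₁) {P₂ : Subgroup Ω₂} (hP : P₂ ≤ imageAlong θ T₁) :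
    preimageAlong (resHom θ hT) P₂ = preimageAlong θ P₂ := by
  ext x
  rw [mem_preimageAlong, mem_preimageAlong]
  constructor
  · rintro ⟨hx, hx'⟩
    rw [toFun₂_resHom θ hT hx] at hx'
    exact ⟨hT hx, hx'⟩
  · rintro ⟨hx, hx'⟩
    obtain ⟨t, ht, htS, hte⟩ := mem_imageAlong.mp (hP hx')
    have : t = x := FacData.inj_of_bot d htS hx hte
    subst this
    exact ⟨ht, by rw [toFun₂_resHom θ hT ht]; exact hx'⟩

theorem facData_resHom {F₁ : FusionSystem S₁} {θ : S₁ →* Ω₂} (d : FacData F₁ ⊥ θ S₂)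
    {T₁ : Subgroup Ω₁} (hT : T₁ ≤ S₁) (E₁ : FusionSystem T₁) :
    FacData E₁ ⊥ (resHom θ hT) (imageAlong θ T₁) where
  sc := stronglyClosed_bot E₁
  ker := fun s => d.ker (Subgroup.inclusion hT s)
  range := by
    ext y
    rw [mem_imageAlong]
    constructor
    · rintro ⟨x, rfl⟩
      exact ⟨x, x.2, hT x.2, Helper26.toFun₂_of_mem θ (hT x.2)⟩
    · rintro ⟨x, hx, hxS, rfl⟩
      exact ⟨⟨x, hx⟩, (Helper26.toFun₂_of_mem θ hxS).symm⟩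

theorem image_centralizerIn {F₁ : FusionSystem S₁} {θ : S₁ →* Ω₂} (d : FacData F₁ ⊥ θ S₂)
    {T₁ : Subgroup Ω₁} (hT : T₁ ≤ S₁) :
    imageAlong θ (centralizerIn S₁ T₁) = centralizerIn S₂ (imageAlong θ T₁) := by
  ext y
  rw [mem_imageAlong, mem_centralizerIn]
  constructor
  · rintro ⟨c, hc, hcS, rfl⟩
    refine ⟨d.mem_S' hcS, ?_⟩
    rw [Subgroup.mem_centralizer_iff]
    intro u hu
    obtain ⟨t, ht, htS, rfl⟩ := mem_imageAlong.mp hu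
    rw [← Helper26.toFun₂_mul θ htS hcS, ← Helper26.toFun₂_mul θ hcS htS,
      (Subgroup.mem_centralizer_iff.mp hc.2) t ht]
  · rintro ⟨hyS, hy⟩
    obtain ⟨c, hcS, rfl⟩ := d.exists_pre hyS
    refine ⟨c, ⟨hcS, ?_⟩, hcS, rfl⟩
    apply Subgroup.mem_centralizer_iff.mpr
    intro t ht
    apply FacData.inj_of_bot d (S₁.mul_mem (hT ht) hcS) (S₁.mul_mem hcS (hT ht))
    rw [Helper26.toFun₂_mul θ (hT ht) hcS, Helper26.toFun₂_mul θ hcS (hT ht)]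
    exact (Subgroup.mem_centralizer_iff.mp hy) _ (mem_imageAlong.mpr ⟨t, ht, hT ht, rfl⟩)

theorem exists_normal_transport [Finite S₁] [Finite S₂] {p : ℕ} [Fact p.Prime]
    (hS₁ : IsPGroup p S₁) (hS₂ : IsPGroup p S₂) {F₁ : FusionSystem S₁} {F₂ : FusionSystem S₂}
    {θ : S₁ →* Ω₂} (d : FacData F₁ ⊥ θ S₂)
    (hF₂ : ∀ P f, IsMap F₂ P f ↔ FacMap F₁ θ S₂ P f) {T₁ : Subgroup Ω₁} (hT : T₁ ≤ S₁)
    {E₁ : FusionSystem T₁} (hE₁ : E₁.IsNormalIn F₁ p) :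
    ∃ E₂ : FusionSystem (imageAlong θ T₁), E₂.IsNormalIn F₂ p ∧
      ∀ P f, IsMap E₂ P f ↔ FacMap E₁ (resHom θ hT) (imageAlong θ T₁) P f := by
  have hfT : Finite T₁ := Helper26.finite_of_le hT
  have dT := facData_resHom d hT E₁
  obtain ⟨E₂, hfac⟩ := Helper26.exists_factorSystem dT
  have hE₂ := (Helper26.isFactorSystem_iff dT).mp hfac
  have hfacF : F₁.IsFactorSystem ⊥ θ F₂ := (Helper26.isFactorSystem_iff d).mpr hF₂
  refine ⟨E₂, ?_, hE₂⟩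
  obtain ⟨⟨hE₁s, hF₁s, hinv₁⟩, hext₁⟩ := (isNormalIn_iff_extCond hT).mp hE₁
  obtain ⟨hsub₁, hsc₁, hI₁, hFr₁⟩ := Helper26.isInvariantIn_iff.mp hinv₁
  have hsub₁' := Helper26.isSubsystemOf_iff.mp hsub₁
  have hstrong₁ := Helper26.strongInv_of_invariant hI₁ hFr₁
  have hT₂S₂ : imageAlong θ T₁ ≤ S₂ := d.image_le T₁
  have hE₂s : E₂.IsSaturated p := Helper26.factor_saturated (hS₁.to_le hT) hE₁s dT hE₂
  have hF₂s : F₂.IsSaturated p := Helper26.factor_saturated hS₁ hF₁s d hF₂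
  have hsub₂ : E₂.IsSubsystemOf F₂ := by
    rw [Helper26.isSubsystemOf_iff]
    intro P f hf
    obtain ⟨hP, f₁, hf₁, hff⟩ := (hE₂ P f).mp hf
    rw [preimageAlong_resHom d hT hP] at hf₁ hff
    rw [hF₂]
    refine ⟨hP.trans hT₂S₂, f₁, hsub₁' _ _ hf₁, fun x hx => ?_⟩
    have hxT : x ∈ T₁ := hf₁.le hx
    have := hff x hx
    rwa [toFun₂_resHom θ hT hxT, toFun₂_resHom θ hT (hf₁.mem_S hx)] at this
  have hsc₂ : F₂.StronglyClosed (imageAlong θ T₁) := stronglyClosed_image d hF₂ hsc₁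
  have hstrong₂ : Helper26.StrongInvCond E₂ F₂ := by
    intro P₂ Q₂ hPQ hQT f₂ hf₂ hfQ g₂ hg₂
    obtain ⟨hP, f₁, hf₁, hff⟩ := (hE₂ P₂ f₂).mp hf₂
    rw [preimageAlong_resHom d hT hP] at hf₁ hff
    obtain ⟨-, g₁, hg₁, hgg⟩ := (hF₂ Q₂ g₂).mp hg₂
    have hQ₁T : preimageAlong θ Q₂ ≤ T₁ := by
      rw [← preimageAlong_resHom d hT hQT]
      exact FacData.pre_le _ _
    have hPQ₁ : preimageAlong θ P₂ ≤ preimageAlong θ Q₂ := by
      intro x hx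
      obtain ⟨h1, h2⟩ := mem_preimageAlong.mp hx
      exact mem_preimageAlong.mpr ⟨h1, hPQ h2⟩
    have hff' : ∀ x ∈ preimageAlong θ P₂, f₂ (toFun₂ θ x) = toFun₂ θ (f₁ x) := by
      intro x hx
      have := hff x hx
      rwa [toFun₂_resHom θ hT (hf₁.le hx), toFun₂_resHom θ hT (hf₁.mem_S hx)] at this
    have hfQ₁ : ∀ x ∈ preimageAlong θ P₂, f₁ x ∈ preimageAlong θ Q₂ := by
      intro x hx
      refine mem_preimageAlong.mpr ⟨hT (hf₁.mem_S hx), ?_⟩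
      rw [← hff' x hx]
      exact hfQ _ (mem_preimageAlong.mp hx).2
    obtain ⟨h₁, hh₁, hhg⟩ := hstrong₁ _ _ hPQ₁ hQ₁T f₁ hf₁ hfQ₁ g₁ hg₁
    have hm := isMap_indFun dT hfac bot_le hh₁
    have hg₁P := hg₁.mono hPQ₁
    have himgT : img (preimageAlong θ P₂) g₁ ≤ T₁ := hh₁.le
    have himg : imageAlong (resHom θ hT) (img (preimageAlong θ P₂) g₁) = img P₂ g₂ := by
      rw [imageAlong_resHom θ hT himgT]
      have hg₂P := hg₂.mono hPQ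
      ext y
      rw [mem_imageAlong, hg₂P.mem_img]
      constructor
      · rintro ⟨w, hw, -, rfl⟩
        obtain ⟨x, hx, rfl⟩ := hg₁P.mem_img.mp hw
        exact ⟨toFun₂ θ x, (mem_preimageAlong.mp hx).2, hgg x (hPQ₁ hx)⟩
      · rintro ⟨u, hu, rfl⟩
        obtain ⟨x, hx, rfl⟩ := d.exists_pre' (hP.trans hT₂S₂) hu
        exact ⟨g₁ x, Helper26.mem_img_of_mem hx, hg₁P.mem_S hx, (hgg x (hPQ₁ hx)).symm⟩
    rw [himg] at hm
    refine ⟨_, hm, fun u hu => ?_⟩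
    obtain ⟨x, hx, rfl⟩ := d.exists_pre' (hP.trans hT₂S₂) hu
    have hgx : g₁ x ∈ img (preimageAlong θ P₂) g₁ := Helper26.mem_img_of_mem hx
    rw [hgg x (hPQ₁ hx), ← toFun₂_resHom θ hT (himgT hgx), dT.indFun_spec hh₁ bot_le hgx, hhg x hx,
      toFun₂_resHom θ hT
        (Helper26.stronglyClosed_map_mem hsc₁ hg₁ (hfQ₁ x hx) (hQ₁T (hfQ₁ x hx))),
      hff' x hx, hgg _ (hfQ₁ x hx)]
  have hinv₂ : E₂.IsInvariantIn F₂ := Helper26.isInvariantIn_iff.mpr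
    ⟨hsub₂, hsc₂, Helper26.invCond_of_strongInv hT₂S₂ hstrong₂,
      Helper26.fratCond_of_strongInv hS₂ hF₂s hsub₂ hsc₂ hstrong₂⟩
  rw [isNormalIn_iff_extCond hT₂S₂]
  refine ⟨⟨hE₂s, hF₂s, hinv₂⟩, fun a₂ ha₂ => ?_⟩
  obtain ⟨-, a₁, ha₁, haa⟩ := (hE₂ _ a₂).mp ha₂
  have hpreT : preimageAlong (resHom θ hT) (imageAlong θ T₁) = T₁ := by
    apply le_antisymm (FacData.pre_le _ _)
    intro x hx
    refine mem_preimageAlong.mpr ⟨hx, ?_⟩
    rw [toFun₂_resHom θ hT hx]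
    exact mem_imageAlong.mpr ⟨x, hx, hT hx, rfl⟩
  rw [hpreT] at ha₁ haa
  obtain ⟨b₁, hb₁, hb1, hb2, hb3⟩ := hext₁ a₁ ha₁
  have hm := isMap_indFun d hfacF bot_le hb₁
  have hRim : imageAlong θ (T₁ ⊔ centralizerIn S₁ T₁) =
      imageAlong θ T₁ ⊔ centralizerIn S₂ (imageAlong θ T₁) := by
    have hc : centralizerIn S₁ T₁ ≤ S₁ := inf_le_left
    rw [Helper26.imageAlong_sup (Q := centralizerIn S₁ T₁) hT hc, image_centralizerIn d hT]
  rw [hRim] at hm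
  have hspec : ∀ x ∈ T₁ ⊔ centralizerIn S₁ T₁, indFun θ b₁ (toFun₂ θ x) = toFun₂ θ (b₁ x) :=
    fun x hx => d.indFun_spec hb₁ bot_le hx
  refine ⟨_, hm, fun y hy => ?_, fun y hy => ?_, fun c hc => ?_⟩
  · rw [← hRim] at hy ⊢
    obtain ⟨x, hx, hxS, rfl⟩ := mem_imageAlong.mp hy
    rw [hspec x hx]
    exact mem_imageAlong.mpr ⟨_, hb1 x hx, hb₁.mem_S hx, rfl⟩
  · obtain ⟨x, hx, hxS, rfl⟩ := mem_imageAlong.mp hy
    rw [hspec x (le_sup_left (a := T₁) hx), hb2 x hx]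
    have := haa x hx
    rw [toFun₂_resHom θ hT hx, toFun₂_resHom θ hT (ha₁.mem_S hx)] at this
    exact this.symm
  · rw [← image_centralizerIn d hT] at hc
    obtain ⟨x, hx, hxS, rfl⟩ := mem_imageAlong.mp hc
    have hxR : x ∈ T₁ ⊔ centralizerIn S₁ T₁ := le_sup_right (a := T₁) hx
    rw [hspec x hxR, ← Helper26.toFun₂_inv θ hxS, ← Helper26.toFun₂_mul θ (S₁.inv_mem hxS)
      (hb₁.mem_S hxR)]
    obtain ⟨h1, h2⟩ := hb3 x hx
    refine ⟨mem_imageAlong.mpr ⟨_, h1, hT h1, rfl⟩, ?_⟩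
    have h3 : x⁻¹ * b₁ x ∈ centralizerIn S₁ T₁ := ⟨hT h1, h2⟩
    have h4 : toFun₂ θ (x⁻¹ * b₁ x) ∈ imageAlong θ (centralizerIn S₁ T₁) :=
      mem_imageAlong.mpr ⟨_, h3, hT h1, rfl⟩
    rw [image_centralizerIn d hT] at h4
    exact h4.2

end Cfsg.Agent.Lib.Helper27
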