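import Cfsg.Agent.Lib.Helper27.PCube3

set_option autoImplicit false

namespace Cfsg.Agent.Lib.Helper27.PFo

open Cfsg Cfsg.Agent.Lib.Helper17 Cfsg.Agent.Lib.Helper27.PCu

variable {H : Type*} [Group H]

theorem card_lt [Finite H] {K M : Subgroup H} (h : K < M) : Nat.card K < Nat.card M := by
  by_contra hcon
  push Not at hcon
  exact h.ne (Subgroup.eq_of_le_of_card_ge h.le hcon)

theorem card_step [Finite H] {p : ℕ} [Fact p.Prime] (hP : IsPGroup p H) {K M : Subgroup H} {i : ℕ}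
    (hK : p ^ i ≤ Nat.card K) (h : K < M) : p ^ (i + 1) ≤ Nat.card M := by
  have hp1 := (Fact.out : p.Prime).one_lt
  obtain ⟨j, hj⟩ := (hP.to_subgroup M).exists_card_eq
  have h1 := lt_of_le_of_lt hK (card_lt h)
  rw [hj] at h1 ⊢
  exact Nat.pow_le_pow_right (by omega) ((Nat.pow_lt_pow_iff_right hp1).1 h1)

theorem card_between [Finite H] {p : ℕ} [Fact p.Prime] (hP : IsPGroup p H) {K M L : Subgroup H}
    {i : ℕ} (hK : Nat.card K = p ^ i) (hL : Nat.card L = p ^ (i + 2)) (h1 : K < M) (h2 : M < L) :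
    Nat.card M = p ^ (i + 1) := by
  have hp1 := (Fact.out : p.Prime).one_lt
  obtain ⟨j, hj⟩ := (hP.to_subgroup M).exists_card_eq
  have e1 := card_lt h1
  have e2 := card_lt h2
  rw [hK, hj] at e1
  rw [hL, hj] at e2
  have f1 := (Nat.pow_lt_pow_iff_right hp1).1 e1
  have f2 := (Nat.pow_lt_pow_iff_right hp1).1 e2
  rw [hj]
  congr 1
  omega

theorem eq_top_of_card_ge [Finite H] {M : Subgroup H} (h : Nat.card H ≤ Nat.card M) : M = ⊤ :=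
  Subgroup.eq_top_of_card_eq _ (le_antisymm (Subgroup.card_le_card_group M) h)

theorem no_chain4 [Finite H] {p : ℕ} [Fact p.Prime] (hcard : Nat.card H = p ^ 4)
    (A : Subgroup (MulAut H)) (hInn : Inn H ≤ A)
    (hcore : ∀ N : Subgroup A, N.Normal → IsPGroup p N → N.map A.subtype ≤ Inn H)
    {α : MulAut H} (hαA : α ∈ A) (hαI : α ∉ Inn H) {n : ℕ} (hαp : α ^ (p ^ n) = 1)
    (K1 K2 K3 : Subgroup H) (h12 : K1 ≤ K2) (h23 : K2 ≤ K3) (c1 : Nat.card K1 = p)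
    (c2 : Nat.card K2 = p ^ 2) (c3 : Nat.card K3 = p ^ 3)
    (i1 : ∀ β ∈ A, ∀ x ∈ K1, (β : MulAut H) x ∈ K1)
    (i2 : ∀ β ∈ A, ∀ x ∈ K2, (β : MulAut H) x ∈ K2)
    (i3 : ∀ β ∈ A, ∀ x ∈ K3, (β : MulAut H) x ∈ K3) : False := by
  have n1 : K1.Normal := ⟨fun x hx g => i1 (MulAut.conj g) (hInn ⟨g, rfl⟩) x hx⟩
  have n2 : K2.Normal := ⟨fun x hx g => i2 (MulAut.conj g) (hInn ⟨g, rfl⟩) x hx⟩
  have n3 : K3.Normal := ⟨fun x hx g => i3 (MulAut.conj g) (hInn ⟨g, rfl⟩) x hx⟩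
  have i0 : ∀ β ∈ A, ∀ x ∈ (⊥ : Subgroup H), (β : MulAut H) x ∈ (⊥ : Subgroup H) := by
    intro β _ x hx
    rw [Subgroup.mem_bot] at hx ⊢
    rw [hx, map_one]
  have i4 : ∀ β ∈ A, ∀ x ∈ (⊤ : Subgroup H), (β : MulAut H) x ∈ (⊤ : Subgroup H) :=
    fun _ _ _ _ => Subgroup.mem_top _
  have m1 := CS_normal A ⊥ K1 i0 i1
  have m2 := CS_normal A K1 K2 i1 i2
  have m3 := CS_normal A K2 K3 i2 i3
  have m4 := CS_normal A K3 ⊤ i3 i4
  have hT : (CS A ⊥ K1 i0 i1 ⊓ CS A K1 K2 i1 i2 ⊓ CS A K2 K3 i2 i3 ⊓ CS A K3 ⊤ i3 i4).Normal :=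
    inferInstance
  have hpw : ∀ (K : Subgroup H) (m : ℕ), Nat.card K = m → ∀ k ∈ K, k ^ m = 1 := by
    intro K m hm k hk
    have := pow_card_eq_one' (x := (⟨k, hk⟩ : K))
    rw [hm] at this
    exact congrArg Subtype.val this
  have hTp : IsPGroup p
      ↥(CS A ⊥ K1 i0 i1 ⊓ CS A K1 K2 i1 i2 ⊓ CS A K2 K3 i2 i3 ⊓ CS A K3 ⊤ i3 i4) := by
    rintro ⟨τ, ⟨⟨t1, t2⟩, t3⟩, t4⟩
    refine ⟨6, Subtype.ext (Subtype.ext ?_)⟩
    show (τ : MulAut H) ^ (p ^ 6) = 1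
    have a1 : ∀ k ∈ K1, (τ : MulAut H) k = k := by
      intro k hk
      have := t1 k hk
      rw [Subgroup.mem_bot, inv_mul_eq_one] at this
      exact this.symm
    have a2 : ∀ k ∈ K2, ((τ : MulAut H) ^ p) k = k := pow_fix a1 t2 (hpw K1 p c1)
    have t3' : τ ^ p ∈ CS A K2 K3 i2 i3 := Subgroup.pow_mem _ t3 p
    have a3 : ∀ x ∈ K3, (((τ : MulAut H) ^ p) ^ (p ^ 2)) x = x := pow_fix a2 t3' (hpw K2 _ c2)
    have t4' : (τ ^ p) ^ (p ^ 2) ∈ CS A K3 ⊤ i3 i4 := Subgroup.pow_mem _ (Subgroup.pow_mem _ t4 p) _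
    have a4 : ∀ x ∈ (⊤ : Subgroup H), ((((τ : MulAut H) ^ p) ^ (p ^ 2)) ^ (p ^ 3)) x = x :=
      pow_fix a3 t4' (hpw K3 _ c3)
    ext x
    have := a4 x (Subgroup.mem_top x)
    rw [← pow_mul, ← pow_mul, show p * (p ^ 2 * p ^ 3) = p ^ 6 by ring] at this
    rw [this, MulAut.one_apply]
  have hmem : (⟨α, hαA⟩ : A) ∈
      CS A ⊥ K1 i0 i1 ⊓ CS A K1 K2 i1 i2 ⊓ CS A K2 K3 i2 i3 ⊓ CS A K3 ⊤ i3 i4 := by
    refine ⟨⟨⟨?_, ?_⟩, ?_⟩, ?_⟩
    · exact sec_trivial hαp bot_le (i0 α hαA) (i1 α hαA) (by rw [c1, Subgroup.card_bot, mul_one])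
    · exact sec_trivial hαp h12 (i1 α hαA) (i2 α hαA) (by rw [c1, c2, pow_two])
    · exact sec_trivial hαp h23 (i2 α hαA) (i3 α hαA) (by rw [c2, c3, pow_succ'])
    · exact sec_trivial hαp le_top (i3 α hαA) (i4 α hαA)
        (by rw [c3, Subgroup.card_top, hcard, pow_succ'])
  exact hαI (hcore _ hT hTp ⟨_, hmem, rfl⟩)

/-- the commutator map with an element of the second centre -/
theorem exists_kappa {w : H} (hw : ∀ y, w * y * w⁻¹ * y⁻¹ ∈ Subgroup.center H) :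
    ∃ κ : H →* H, ∀ y, κ y = w * y * w⁻¹ * y⁻¹ := by
  refine ⟨MonoidHom.mk' (fun y => w * y * w⁻¹ * y⁻¹) ?_, fun _ => rfl⟩
  intro y y'
  have h := Subgroup.mem_center_iff.1 (hw y') y
  calc w * (y * y') * w⁻¹ * (y * y')⁻¹
      = w * y * w⁻¹ * (w * y' * w⁻¹ * y'⁻¹) * y⁻¹ := by group
    _ = w * y * w⁻¹ * ((w * y' * w⁻¹ * y'⁻¹) * y⁻¹) := by group
    _ = w * y * w⁻¹ * (y⁻¹ * (w * y' * w⁻¹ * y'⁻¹)) := by
      rw [Subgroup.mem_center_iff.1 (hw y') y⁻¹]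
    _ = _ := by group

theorem idx_cent [Finite H] {w : H} (hw : ∀ y, w * y * w⁻¹ * y⁻¹ ∈ Subgroup.center H) :
    (Subgroup.centralizer ({w} : Set H)).index ≤ Nat.card (Subgroup.center H) := by
  obtain ⟨κ, hκ⟩ := exists_kappa hw
  have hker : κ.ker = Subgroup.centralizer ({w} : Set H) := by
    ext y
    rw [MonoidHom.mem_ker, hκ, Subgroup.mem_centralizer_singleton_iff, mul_inv_eq_one,
      mul_inv_eq_iff_eq_mul]
    exact eq_comm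
  rw [← hker, Subgroup.index_ker]
  apply Subgroup.card_le_of_le
  rintro _ ⟨y, rfl⟩
  rw [hκ]
  exact hw y

theorem comm_inv (β : MulAut H) : ∀ x ∈ commutator H, β x ∈ commutator H := by
  intro x hx
  exact (Subgroup.characteristic_iff_map_le.1 (inferInstance : (commutator H).Characteristic) β)
    ⟨x, hx, rfl⟩

end Cfsg.Agent.Lib.Helper27.PFo
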