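import Cfsg.Agent.Lib.Helper27.P4a

set_option autoImplicit false

namespace Cfsg.Agent.Lib.Helper27.PFo

open Cfsg Cfsg.Agent.Lib.Helper17 Cfsg.Agent.Lib.Helper27.PCu

variable {H : Type*} [Group H]

theorem lt_sup_zpowers {K : Subgroup H} {x : H} (hx : x ∉ K) : K < K ⊔ Subgroup.zpowers x :=
  lt_of_le_of_ne le_sup_left (fun e => hx (by
    rw [e]; exact (le_sup_right : Subgroup.zpowers x ≤ _) (Subgroup.mem_zpowers x)))

theorem exists_not_mem_of_card_lt [Finite H] {D K : Subgroup H} (h : Nat.card K < Nat.card D) :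
    ∃ d ∈ D, d ∉ K := by
  by_contra hcon
  push Not at hcon
  exact absurd (Subgroup.card_le_of_le (show D ≤ K from hcon)) (not_le_of_gt h)

theorem false_class2 [Finite H] {p : ℕ} [Fact p.Prime] (hcard : Nat.card H = p ^ 4)
    (hZ : Nat.card (Subgroup.center H) = p)
    (hc2 : ∀ x y : H, x * y * x⁻¹ * y⁻¹ ∈ Subgroup.center H) : False := by
  have hp1 := (Fact.out : p.Prime).one_lt
  have hp0 := (Fact.out : p.Prime).pos
  have hP : IsPGroup p H := IsPGroup.of_card hcard
  obtain ⟨a, -, ha⟩ : ∃ a ∈ (⊤ : Subgroup H), a ∉ Subgroup.center H :=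
    exists_not_mem_of_card_lt (by
      rw [hZ, Subgroup.card_top, hcard]
      calc p = p ^ 1 := (pow_one p).symm
        _ < p ^ 4 := Nat.pow_lt_pow_right hp1 (by norm_num))
  obtain ⟨x, hx⟩ : ∃ x, x ∉ Subgroup.centralizer ({a} : Set H) := by
    by_contra hcon
    push Not at hcon
    apply ha
    rw [Subgroup.mem_center_iff]
    intro g
    exact Subgroup.mem_centralizer_singleton_iff.1 (hcon g)
  have ia := idx_cent (hc2 a)
  have ix := idx_cent (hc2 x)
  rw [hZ] at ia ix
  have hD : p ^ 2 ≤ Nat.card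
      ↥(Subgroup.centralizer ({a} : Set H) ⊓ Subgroup.centralizer ({x} : Set H)) := by
    have h1 := Subgroup.card_mul_index
      (Subgroup.centralizer ({a} : Set H) ⊓ Subgroup.centralizer ({x} : Set H))
    have h2 := (Subgroup.index_inf_le (H := Subgroup.centralizer ({a} : Set H))
      (K := Subgroup.centralizer ({x} : Set H))).trans (Nat.mul_le_mul ia ix)
    rw [hcard] at h1
    by_contra hcon
    push Not at hcon
    have : p ^ 4 < p ^ 2 * (p * p) := by
      rw [← h1]
      exact Nat.mul_lt_mul_of_lt_of_le hcon h2 (by positivity)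
    have e : p ^ 2 * (p * p) = p ^ 4 := by ring
    omega
  obtain ⟨d, hdD, hdZ⟩ := exists_not_mem_of_card_lt (K := Subgroup.center H)
    (D := Subgroup.centralizer ({a} : Set H) ⊓ Subgroup.centralizer ({x} : Set H)) (by
      rw [hZ]
      calc p = p ^ 1 := (pow_one p).symm
        _ < p ^ 2 := Nat.pow_lt_pow_right hp1 (by norm_num)
        _ ≤ _ := hD)
  have hda : d * a = a * d := Subgroup.mem_centralizer_singleton_iff.1 hdD.1
  have hdx : d * x = x * d := Subgroup.mem_centralizer_singleton_iff.1 hdD.2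
  have hxa : ¬ x * a = a * x := fun h => hx (Subgroup.mem_centralizer_singleton_iff.2 h)
  have l1 : Subgroup.center H ⊔ Subgroup.zpowers d ≤
      Subgroup.centralizer ({a} : Set H) ⊓ Subgroup.centralizer ({x} : Set H) :=
    sup_le (le_inf (Subgroup.center_le_centralizer _) (Subgroup.center_le_centralizer _))
      (Subgroup.zpowers_le.2 hdD)
  have ha1 : a ∉ Subgroup.center H ⊔ Subgroup.zpowers d := by
    intro h
    exact hxa (Subgroup.mem_centralizer_singleton_iff.1 (l1 h).2).symm
  have l2 : Subgroup.center H ⊔ Subgroup.zpowers d ⊔ Subgroup.zpowers a ≤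
      Subgroup.centralizer ({a} : Set H) :=
    sup_le (l1.trans inf_le_left)
      (Subgroup.zpowers_le.2 (Subgroup.mem_centralizer_singleton_iff.2 rfl))
  have hx2 : x ∉ Subgroup.center H ⊔ Subgroup.zpowers d ⊔ Subgroup.zpowers a := fun h => hx (l2 h)
  have c1 := card_step hP (i := 1) (by rw [hZ, pow_one]) (lt_sup_zpowers hdZ)
  have c2 := card_step hP c1 (lt_sup_zpowers ha1)
  have c3 := card_step hP c2 (lt_sup_zpowers hx2)
  have htop := eq_top_of_card_ge (by rw [hcard]; exact c3)
  have l3 : Subgroup.center H ⊔ Subgroup.zpowers d ⊔ Subgroup.zpowers a ⊔ Subgroup.zpowers x ≤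
      Subgroup.centralizer ({d} : Set H) :=
    sup_le (sup_le (sup_le (Subgroup.center_le_centralizer _)
      (Subgroup.zpowers_le.2 (Subgroup.mem_centralizer_singleton_iff.2 rfl)))
      (Subgroup.zpowers_le.2 (Subgroup.mem_centralizer_singleton_iff.2 hda.symm)))
      (Subgroup.zpowers_le.2 (Subgroup.mem_centralizer_singleton_iff.2 hdx.symm))
  apply hdZ
  rw [Subgroup.mem_center_iff]
  intro g
  exact Subgroup.mem_centralizer_singleton_iff.1 (l3 (htop ▸ Subgroup.mem_top g))

theorem false_of_center_p [Finite H] {p : ℕ} [Fact p.Prime] (hcard : Nat.card H = p ^ 4)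
    (A : Subgroup (MulAut H)) (hInn : Inn H ≤ A)
    (hcore : ∀ N : Subgroup A, N.Normal → IsPGroup p N → N.map A.subtype ≤ Inn H)
    {α : MulAut H} (hαA : α ∈ A) (hαI : α ∉ Inn H) {n : ℕ} (hαp : α ^ (p ^ n) = 1)
    (hZ : Nat.card (Subgroup.center H) = p) : False := by
  have hp1 := (Fact.out : p.Prime).one_lt
  have hp0 := (Fact.out : p.Prime).pos
  have hP : IsPGroup p H := IsPGroup.of_card hcard
  by_cases hc2 : ∀ x y : H, x * y * x⁻¹ * y⁻¹ ∈ Subgroup.center H
  · exact false_class2 hcard hZ hc2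
  push Not at hc2
  obtain ⟨x0, y0, hxy⟩ := hc2
  have hcQ : Nat.card (H ⧸ Subgroup.center H) = p ^ 3 := by
    have hq := Subgroup.card_eq_card_quotient_mul_card_subgroup (Subgroup.center H)
    rw [hZ, hcard] at hq
    have : p ^ 3 * p = Nat.card (H ⧸ Subgroup.center H) * p := by rw [← hq]; ring
    exact (Nat.eq_of_mul_eq_mul_right hp0 this).symm
  have hnaQ : ¬ ∀ a b : H ⧸ Subgroup.center H, a * b = b * a := by
    intro h
    apply hxy
    rw [← QuotientGroup.eq_one_iff]
    simp only [QuotientGroup.mk_mul, QuotientGroup.mk_inv]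
    rw [h (x0 : H ⧸ Subgroup.center H), mul_inv_cancel_right, mul_inv_cancel]
  have naQ := na_of_card hcQ hnaQ
  obtain ⟨Z2, hZ2⟩ : ∃ Z2 : Subgroup H, Z2 =
      (Subgroup.center (H ⧸ Subgroup.center H)).comap (QuotientGroup.mk' (Subgroup.center H)) :=
    ⟨_, rfl⟩
  have hZ2mem : ∀ w, w ∈ Z2 ↔ ∀ y, w * y * w⁻¹ * y⁻¹ ∈ Subgroup.center H := by
    intro w
    rw [hZ2, Subgroup.mem_comap, Subgroup.mem_center_iff]
    constructor
    · intro h y
      rw [← QuotientGroup.eq_one_iff]
      simp only [QuotientGroup.mk_mul, QuotientGroup.mk_inv]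
      have := h (y : H ⧸ Subgroup.center H)
      rw [QuotientGroup.mk'_apply] at this
      rw [← this, mul_inv_cancel_right, mul_inv_cancel]
    · intro h q
      obtain ⟨y, rfl⟩ := QuotientGroup.mk_surjective q
      have := (QuotientGroup.eq_one_iff _).2 (h y)
      simp only [QuotientGroup.mk_mul, QuotientGroup.mk_inv] at this
      rw [mul_inv_eq_one, mul_inv_eq_iff_eq_mul] at this
      rw [QuotientGroup.mk'_apply]
      exact this.symm
  have hcZ2 : Nat.card Z2 = p ^ 2 := by
    have h1 : Z2.index = (Subgroup.center (H ⧸ Subgroup.center H)).index := by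
      rw [hZ2]
      exact Subgroup.index_comap_of_surjective _ (QuotientGroup.mk'_surjective _)
    have h2 := Subgroup.card_mul_index (Subgroup.center (H ⧸ Subgroup.center H))
    rw [naQ.cardZ, hcQ, ← h1] at h2
    have h3 : Z2.index = p ^ 2 := by
      have : p * Z2.index = p * p ^ 2 := by rw [h2]; ring
      exact Nat.eq_of_mul_eq_mul_left hp0 this
    have h4 := Subgroup.card_mul_index Z2
    rw [h3, hcard] at h4
    have : Nat.card Z2 * p ^ 2 = p ^ 2 * p ^ 2 := by rw [h4]; ring
    exact Nat.eq_of_mul_eq_mul_right (by positivity) this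
  have hZle : Subgroup.center H ≤ Z2 := by
    intro w hw
    rw [hZ2mem]
    intro y
    rw [← Subgroup.mem_center_iff.1 hw y, mul_inv_cancel_right, mul_inv_cancel]
    exact one_mem _
  obtain ⟨w, hwZ2, hwZ⟩ := exists_not_mem_of_card_lt (K := Subgroup.center H) (D := Z2) (by
    rw [hZ, hcZ2]
    calc p = p ^ 1 := (pow_one p).symm
      _ < p ^ 2 := Nat.pow_lt_pow_right hp1 (by norm_num))
  have iw := idx_cent ((hZ2mem w).1 hwZ2)
  rw [hZ] at iw
  have hCwne : Subgroup.centralizer ({w} : Set H) ≠ ⊤ := by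
    intro h
    apply hwZ
    rw [Subgroup.mem_center_iff]
    intro g
    exact Subgroup.mem_centralizer_singleton_iff.1 (h ▸ Subgroup.mem_top g)
  have hcCw : Nat.card (Subgroup.centralizer ({w} : Set H)) = p ^ 3 := by
    obtain ⟨j, hj⟩ := (hP.to_subgroup (Subgroup.centralizer ({w} : Set H))).exists_card_eq
    have h1 := Subgroup.card_mul_index (Subgroup.centralizer ({w} : Set H))
    have h2 := card_lt (lt_top_iff_ne_top.2 hCwne)
    rw [Subgroup.card_top, hcard, hj] at h2
    have h3 : j < 4 := (Nat.pow_lt_pow_iff_right hp1).1 h2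
    have h4 : p ^ 4 ≤ p ^ (j + 1) := by
      rw [pow_succ p j, ← hcard, ← h1, hj]
      exact Nat.mul_le_mul_left _ iw
    have h5 : 4 ≤ j + 1 := (Nat.pow_le_pow_iff_right hp1).1 h4
    rw [hj]
    congr 1
    omega
  have hZ2eq : Subgroup.center H ⊔ Subgroup.zpowers w = Z2 := by
    refine Subgroup.eq_of_le_of_card_ge (sup_le hZle (Subgroup.zpowers_le.2 hwZ2)) ?_
    rw [hcZ2]
    exact card_step hP (i := 1) (by rw [hZ, pow_one]) (lt_sup_zpowers hwZ)
  have hCeq : Subgroup.centralizer (Z2 : Set H) = Subgroup.centralizer ({w} : Set H) := by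
    apply le_antisymm
    · exact Subgroup.centralizer_le (by intro u hu; rw [Set.mem_singleton_iff.1 hu]; exact hwZ2)
    · intro x hx
      have hxw := Subgroup.mem_centralizer_singleton_iff.1 hx
      have h1 : Z2 ≤ Subgroup.centralizer ({x} : Set H) := by
        rw [← hZ2eq]
        exact sup_le (Subgroup.center_le_centralizer _)
          (Subgroup.zpowers_le.2 (Subgroup.mem_centralizer_singleton_iff.2 hxw.symm))
      rw [Subgroup.mem_centralizer_iff]
      intro u hu
      exact Subgroup.mem_centralizer_singleton_iff.1 (h1 hu)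
  have hZ2C : Z2 ≤ Subgroup.centralizer (Z2 : Set H) := by
    rw [hCeq, ← hZ2eq]
    exact sup_le (Subgroup.center_le_centralizer _)
      (Subgroup.zpowers_le.2 (Subgroup.mem_centralizer_singleton_iff.2 rfl))
  have i2 : ∀ β : MulAut H, ∀ x ∈ Z2, β x ∈ Z2 := by
    intro β x hx
    rw [hZ2mem] at hx ⊢
    intro y
    have := center_inv β _ (hx (β⁻¹ y))
    simpa using this
  refine no_chain4 hcard A hInn hcore hαA hαI hαp (Subgroup.center H) Z2
    (Subgroup.centralizer (Z2 : Set H)) hZle hZ2C hZ hcZ2 (by rw [hCeq, hcCw])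
    (fun β _ => center_inv β) (fun β _ => i2 β) ?_
  intro β _ x hx
  rw [Subgroup.mem_centralizer_iff] at hx ⊢
  intro u hu
  have := congrArg β (hx (β⁻¹ u) (i2 β⁻¹ u hu))
  simpa using this

end Cfsg.Agent.Lib.Helper27.PFo
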