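import Cfsg.Agent.Lib.Helper27.P4b
import Cfsg.Agent.Lib.Helper14.Class2

set_option autoImplicit false

namespace Cfsg.Agent.Lib.Helper27.PFo

open Cfsg Cfsg.Agent.Lib.Helper17 Cfsg.Agent.Lib.Helper27.PCu
open scoped commutatorElement

variable {H : Type*} [Group H]

theorem pow_card_sub {K : Subgroup H} {m : ℕ} (hm : Nat.card K = m) : ∀ k ∈ K, k ^ m = 1 := by
  intro k hk
  have := pow_card_eq_one' (x := (⟨k, hk⟩ : K))
  rw [hm] at this
  exact congrArg Subtype.val this

theorem quot_sq [Finite H] {p : ℕ} [Fact p.Prime]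
    (hcQ : Nat.card (H ⧸ Subgroup.center H) = p ^ 2) (hna : ¬ ∀ a b : H, a * b = b * a) :
    (∀ x y : H, x * y * x⁻¹ * y⁻¹ ∈ Subgroup.center H) ∧ ∀ x : H, x ^ p ∈ Subgroup.center H := by
  have hncyc : ¬ IsCyclic (H ⧸ Subgroup.center H) := by
    intro hc
    exact hna (commutative_of_cyclic_center_quotient (QuotientGroup.mk' (Subgroup.center H))
      (by rw [QuotientGroup.ker_mk']))
  have hQab : ∀ a b : H ⧸ Subgroup.center H, a * b = b * a :=
    IsPGroup.commutative_of_card_eq_prime_sq hcQ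
  refine ⟨fun x y => ?_, fun x => ?_⟩
  · rw [← QuotientGroup.eq_one_iff]
    simp only [QuotientGroup.mk_mul, QuotientGroup.mk_inv]
    rw [hQab (x : H ⧸ Subgroup.center H), mul_inv_cancel_right, mul_inv_cancel]
  · rw [← QuotientGroup.eq_one_iff, QuotientGroup.mk_pow]
    by_contra hx
    have h1 : orderOf (x : H ⧸ Subgroup.center H) ∣ p ^ 2 := hcQ ▸ orderOf_dvd_natCard _
    obtain ⟨k, hk, hk'⟩ := (Nat.dvd_prime_pow Fact.out).1 h1
    have h2 : orderOf (x : H ⧸ Subgroup.center H) = Nat.card (H ⧸ Subgroup.center H) := by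
      rw [hcQ]
      interval_cases k
      · exfalso; apply hx; rw [pow_zero, orderOf_eq_one_iff] at hk'; rw [hk', one_pow]
      · exfalso; apply hx; rw [pow_one] at hk'; rw [← hk', pow_orderOf_eq_one]
      · exact hk'
    exact hncyc (isCyclic_of_orderOf_eq_card _ h2)

theorem gen_top [Finite H] {p : ℕ} [Fact p.Prime] (hcard : Nat.card H = p ^ 4)
    (hZ : Nat.card (Subgroup.center H) = p ^ 2) {a b : H} (hab : ¬ b * a = a * b)
    (L : Subgroup H) (hL : Subgroup.center H ≤ L) (ha : a ∈ L) (hb : b ∈ L) : L = ⊤ := by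
  have hP : IsPGroup p H := IsPGroup.of_card hcard
  have haZ : a ∉ Subgroup.center H := fun h => hab (Subgroup.mem_center_iff.1 h b)
  have l1 : Subgroup.center H ⊔ Subgroup.zpowers a ≤ Subgroup.centralizer ({a} : Set H) :=
    sup_le (Subgroup.center_le_centralizer _)
      (Subgroup.zpowers_le.2 (Subgroup.mem_centralizer_singleton_iff.2 rfl))
  have hb1 : b ∉ Subgroup.center H ⊔ Subgroup.zpowers a :=
    fun h => hab (Subgroup.mem_centralizer_singleton_iff.1 (l1 h))
  have hlt : Subgroup.center H ⊔ Subgroup.zpowers a < L :=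
    lt_of_le_of_ne (sup_le hL (Subgroup.zpowers_le.2 ha)) (fun e => hb1 (e ▸ hb))
  have c1 := card_step hP (i := 2) hZ.ge (lt_sup_zpowers haZ)
  have c2 := card_step hP c1 hlt
  exact eq_top_of_card_ge (by rw [hcard]; exact c2)

theorem card_comm [Finite H] {p : ℕ} [Fact p.Prime] (hcard : Nat.card H = p ^ 4)
    (hZ : Nat.card (Subgroup.center H) = p ^ 2)
    (hc : ∀ x y : H, x * y * x⁻¹ * y⁻¹ ∈ Subgroup.center H)
    (hpw : ∀ x : H, x ^ p ∈ Subgroup.center H) (hna : ¬ ∀ a b : H, a * b = b * a) :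
    Nat.card (commutator H) = p := by
  push Not at hna
  obtain ⟨b, a, hab⟩ := hna
  obtain ⟨z0, hz0⟩ : ∃ z0, z0 = a * b * a⁻¹ * b⁻¹ := ⟨_, rfl⟩
  have hz1 : z0 ≠ 1 := by
    intro h
    apply hab
    rw [hz0, mul_inv_eq_one, mul_inv_eq_iff_eq_mul] at h
    exact h.symm
  obtain ⟨κa, hκa⟩ := exists_kappa (hc a)
  obtain ⟨κb, hκb⟩ := exists_kappa (hc b)
  have hkZ : ∀ (w z : H), z ∈ Subgroup.center H → w * z * w⁻¹ * z⁻¹ = 1 := by
    intro w z hz
    rw [Subgroup.mem_center_iff.1 hz w, mul_inv_cancel_right, mul_inv_cancel]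
  have hz0p : z0 ^ p = 1 := by
    rw [hz0, ← hκa, ← map_pow, hκa]
    exact hkZ a _ (hpw b)
  have hA : ∀ y, a * y * a⁻¹ * y⁻¹ ∈ Subgroup.zpowers z0 := by
    have := gen_top hcard hZ hab ((Subgroup.zpowers z0).comap κa)
      (fun z hz => by rw [Subgroup.mem_comap, hκa, hkZ a z hz]; exact one_mem _)
      (by rw [Subgroup.mem_comap, hκa, mul_inv_cancel_right, mul_inv_cancel]; exact one_mem _)
      (by rw [Subgroup.mem_comap, hκa, ← hz0]; exact Subgroup.mem_zpowers _)
    intro y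
    have h1 : y ∈ (Subgroup.zpowers z0).comap κa := this ▸ Subgroup.mem_top y
    rwa [Subgroup.mem_comap, hκa] at h1
  have hB : ∀ y, b * y * b⁻¹ * y⁻¹ ∈ Subgroup.zpowers z0 := by
    have := gen_top hcard hZ hab ((Subgroup.zpowers z0).comap κb)
      (fun z hz => by rw [Subgroup.mem_comap, hκb, hkZ b z hz]; exact one_mem _)
      (by
        rw [Subgroup.mem_comap, hκb]
        have : b * a * b⁻¹ * a⁻¹ = z0⁻¹ := by rw [hz0]; group
        rw [this]
        exact Subgroup.inv_mem _ (Subgroup.mem_zpowers _))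
      (by rw [Subgroup.mem_comap, hκb, mul_inv_cancel_right, mul_inv_cancel]; exact one_mem _)
    intro y
    have h1 : y ∈ (Subgroup.zpowers z0).comap κb := this ▸ Subgroup.mem_top y
    rwa [Subgroup.mem_comap, hκb] at h1
  have hall : ∀ y x, y * x * y⁻¹ * x⁻¹ ∈ Subgroup.zpowers z0 := by
    intro y
    obtain ⟨κy, hκy⟩ := exists_kappa (hc y)
    have := gen_top hcard hZ hab ((Subgroup.zpowers z0).comap κy)
      (fun z hz => by rw [Subgroup.mem_comap, hκy, hkZ y z hz]; exact one_mem _)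
      (by
        rw [Subgroup.mem_comap, hκy]
        have : y * a * y⁻¹ * a⁻¹ = (a * y * a⁻¹ * y⁻¹)⁻¹ := by group
        rw [this]
        exact Subgroup.inv_mem _ (hA y))
      (by
        rw [Subgroup.mem_comap, hκy]
        have : y * b * y⁻¹ * b⁻¹ = (b * y * b⁻¹ * y⁻¹)⁻¹ := by group
        rw [this]
        exact Subgroup.inv_mem _ (hB y))
    intro x
    have h1 : x ∈ (Subgroup.zpowers z0).comap κy := this ▸ Subgroup.mem_top x
    rwa [Subgroup.mem_comap, hκy] at h1
  have hle : commutator H ≤ Subgroup.zpowers z0 := by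
    rw [commutator_eq_closure, Subgroup.closure_le]
    rintro _ ⟨x, y, rfl⟩
    exact hall x y
  have hcN : Nat.card (Subgroup.zpowers z0) = p := by
    rw [Nat.card_zpowers]; exact orderOf_eq_prime hz0p hz1
  have h1 : Nat.card (commutator H) ∣ p := by
    rw [← hcN]
    exact Subgroup.card_dvd_of_le hle
  rcases (Nat.dvd_prime Fact.out).1 h1 with h | h
  · exfalso
    have h2 : commutator H = ⊥ := Subgroup.card_eq_one.1 h
    apply hz1
    have h3 : z0 ∈ commutator H := by
      rw [hz0]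
      exact Subgroup.commutator_mem_commutator (Subgroup.mem_top a) (Subgroup.mem_top b)
    rwa [h2, Subgroup.mem_bot] at h3
  · exact h

theorem comm_le_center (hc : ∀ x y : H, x * y * x⁻¹ * y⁻¹ ∈ Subgroup.center H) :
    commutator H ≤ Subgroup.center H := by
  rw [commutator_eq_closure, Subgroup.closure_le]
  rintro _ ⟨x, y, rfl⟩
  exact hc x y

section irr

variable [Finite H] {p : ℕ} [Fact p.Prime] (hcard : Nat.card H = p ^ 4)
  (A : Subgroup (MulAut H)) (hInn : Inn H ≤ A)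
  (hcore : ∀ N : Subgroup A, N.Normal → IsPGroup p N → N.map A.subtype ≤ Inn H)
  {α : MulAut H} (hαA : α ∈ A) (hαI : α ∉ Inn H) {n : ℕ} (hαp : α ^ (p ^ n) = 1)
  (hZ : Nat.card (Subgroup.center H) = p ^ 2)
  (hc : ∀ x y : H, x * y * x⁻¹ * y⁻¹ ∈ Subgroup.center H)
  (hK : Nat.card (commutator H) = p)

include hcard hInn hcore hαA hαI hαp hZ hc hK

theorem irrN1 (K : Subgroup H) (hKi : ∀ β ∈ A, ∀ x ∈ K, (β : MulAut H) x ∈ K)
    (hle : Subgroup.center H ≤ K) (hne : K ≠ Subgroup.center H) : K = ⊤ := by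
  by_contra hcon
  have hP : IsPGroup p H := IsPGroup.of_card hcard
  have c3 := card_between hP (i := 2) hZ (by rw [Subgroup.card_top, hcard])
    (lt_of_le_of_ne hle (Ne.symm hne)) (lt_top_iff_ne_top.2 hcon)
  exact no_chain4 hcard A hInn hcore hαA hαI hαp (commutator H) (Subgroup.center H) K
    (comm_le_center hc) hle hK hZ c3 (fun β _ => comm_inv β) (fun β _ => center_inv β) hKi

theorem irrN1_idx (K : Subgroup H) (hKi : ∀ β ∈ A, ∀ x ∈ K, (β : MulAut H) x ∈ K)
    (hle : Subgroup.center H ≤ K) (hidx : K.index ≤ p) : K = ⊤ := by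
  refine irrN1 hcard A hInn hcore hαA hαI hαp hZ hc hK K hKi hle ?_
  intro h
  have h1 := Subgroup.card_mul_index K
  rw [h, hZ, hcard] at h1
  rw [h] at hidx
  have hp1 := (Fact.out : p.Prime).one_lt
  have : p ^ 2 * (Subgroup.center H).index ≤ p ^ 2 * p := Nat.mul_le_mul_left _ hidx
  rw [h1] at this
  have h2 : p ^ 2 * p = p ^ 3 := by ring
  rw [h2] at this
  exact absurd ((Nat.pow_le_pow_iff_right hp1).1 this) (by norm_num)

theorem pow_mem_comm (hpw : ∀ x : H, x ^ p ∈ Subgroup.center H) :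
    ∀ x : H, x ^ p ∈ commutator H := by
  have hp0 := (Fact.out : p.Prime).pos
  obtain ⟨ψ, hψ⟩ : ∃ ψ : H →* Abelianization H, ∀ x, ψ x = Abelianization.of (x ^ p) :=
    ⟨(powMonoidHom p).comp Abelianization.of, fun x => by simp⟩
  obtain ⟨r, hr⟩ : ∃ r : Subgroup.center H →* Abelianization H,
      ∀ z, r z = Abelianization.of (z : H) :=
    ⟨Abelianization.of.comp (Subgroup.center H).subtype, fun z => rfl⟩
  have hof : ∀ x : H, Abelianization.of x = 1 ↔ x ∈ commutator H := by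
    intro x
    rw [← MonoidHom.mem_ker, Abelianization.ker_of]
  have hrker : r.ker = (commutator H).subgroupOf (Subgroup.center H) := by
    ext z
    rw [MonoidHom.mem_ker, hr, hof, Subgroup.mem_subgroupOf]
  have hcr : Nat.card r.range = p := by
    have h1 := Subgroup.card_mul_index r.ker
    rw [Subgroup.index_ker, hrker,
      Nat.card_congr (Subgroup.subgroupOfEquivOfLe (comm_le_center hc)).toEquiv, hK, hZ] at h1
    have : p * Nat.card r.range = p * p := by rw [h1]; ring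
    exact Nat.eq_of_mul_eq_mul_left hp0 this
  have hker : ∀ x, x ∈ ψ.ker ↔ x ^ p ∈ commutator H := by
    intro x
    rw [MonoidHom.mem_ker, hψ, hof]
  have htop : ψ.ker = ⊤ := by
    refine irrN1_idx hcard A hInn hcore hαA hαI hαp hZ hc hK ψ.ker ?_ ?_ ?_
    · intro β _ x hx
      rw [hker] at hx ⊢
      rw [← map_pow]
      exact comm_inv β _ hx
    · intro z hz
      rw [MonoidHom.mem_ker, hψ, map_pow]
      exact pow_card_sub hcr _ ⟨⟨z, hz⟩, hr _⟩
    · rw [Subgroup.index_ker, ← hcr]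
      apply Subgroup.card_le_of_le
      rintro _ ⟨x, rfl⟩
      exact ⟨⟨x ^ p, hpw x⟩, by rw [hr, hψ]⟩
  intro x
  exact (hker x).1 (htop ▸ Subgroup.mem_top x)

theorem exp_p_of_odd (hpw : ∀ x : H, x ^ p ∈ Subgroup.center H) (hp2 : p ≠ 2)
    (hZexp : ∀ z ∈ Subgroup.center H, z ^ p = 1) : ∀ x : H, x ^ p = 1 := by
  have hpc := pow_mem_comm hcard A hInn hcore hαA hαI hαp hZ hc hK hpw
  obtain ⟨π, hπ⟩ : ∃ π : H →* H, ∀ x, π x = x ^ p :=
    ⟨MonoidHom.mk' (fun x => x ^ p) (fun x y =>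
      Cfsg.Agent.Lib.Helper14.mul_pow_prime_class2 Fact.out hp2 x y (hc y x)
        (pow_card_sub hK _ (Subgroup.commutator_mem_commutator (Subgroup.mem_top y)
          (Subgroup.mem_top x)))), fun _ => rfl⟩
  have htop : π.ker = ⊤ := by
    refine irrN1_idx hcard A hInn hcore hαA hαI hαp hZ hc hK π.ker ?_ ?_ ?_
    · intro β _ x hx
      rw [MonoidHom.mem_ker, hπ] at hx ⊢
      rw [← map_pow, hx, map_one]
    · intro z hz
      rw [MonoidHom.mem_ker, hπ]
      exact hZexp z hz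
    · rw [Subgroup.index_ker, ← hK]
      apply Subgroup.card_le_of_le
      rintro _ ⟨x, rfl⟩
      rw [hπ]
      exact hpc x
  intro x
  have : x ∈ π.ker := htop ▸ Subgroup.mem_top x
  rwa [MonoidHom.mem_ker, hπ] at this

end irr

end Cfsg.Agent.Lib.Helper27.PFo
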