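import Cfsg.Agent.Lib.Helper27.P4c

set_option autoImplicit false

namespace Cfsg.Agent.Lib.Helper27.PFo

open Cfsg Cfsg.Agent.Lib.Helper17 Cfsg.Agent.Lib.Helper27.PCu
open scoped commutatorElement

variable {H : Type*} [Group H]

theorem exists_split [Finite H] {p : ℕ} [Fact p.Prime] (hcard : Nat.card H = p ^ 4)
    (hZ : Nat.card (Subgroup.center H) = p ^ 2)
    (hc : ∀ x y : H, x * y * x⁻¹ * y⁻¹ ∈ Subgroup.center H)
    (hK : Nat.card (commutator H) = p) (hpc : ∀ x : H, x ^ p ∈ commutator H)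
    (hZexp : ∀ z ∈ Subgroup.center H, z ^ p = 1) {a b : H} (hab : ¬ b * a = a * b) :
    ∃ E : Subgroup H, a ∈ E ∧ b ∈ E ∧ Nat.card E = p ^ 3 ∧
      Nonempty (H ≃* E × Multiplicative (ZMod p)) := by
  have hp1 := (Fact.out : p.Prime).one_lt
  have hP : IsPGroup p H := IsPGroup.of_card hcard
  have hKZ := comm_le_center hc
  obtain ⟨c, hcZ, hcK⟩ := exists_not_mem_of_card_lt (K := commutator H) (D := Subgroup.center H)
    (by
      rw [hZ, hK]
      calc p = p ^ 1 := (pow_one p).symm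
        _ < p ^ 2 := Nat.pow_lt_pow_right hp1 (by norm_num))
  have hcp : c ^ p = 1 := hZexp c hcZ
  have hc1 : c ≠ 1 := fun h => hcK (h ▸ one_mem _)
  have hof : ∀ x : H, Abelianization.of x = 1 ↔ x ∈ commutator H := by
    intro x
    rw [← MonoidHom.mem_ker, Abelianization.ker_of]
  obtain ⟨E, hE⟩ : ∃ E : Subgroup H, E = (Subgroup.zpowers (Abelianization.of a) ⊔
      Subgroup.zpowers (Abelianization.of b)).comap Abelianization.of := ⟨_, rfl⟩
  have haE : a ∈ E := by
    rw [hE, Subgroup.mem_comap]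
    exact (le_sup_left : Subgroup.zpowers (Abelianization.of a) ≤ _) (Subgroup.mem_zpowers _)
  have hbE : b ∈ E := by
    rw [hE, Subgroup.mem_comap]
    exact (le_sup_right : Subgroup.zpowers (Abelianization.of b) ≤ _) (Subgroup.mem_zpowers _)
  have hKE : commutator H ≤ E := by
    intro x hx
    rw [hE, Subgroup.mem_comap, (hof x).2 hx]
    exact one_mem _
  obtain ⟨κa, hκa⟩ := exists_kappa (hc a)
  obtain ⟨κb, hκb⟩ := exists_kappa (hc b)
  have hkZ : ∀ (w z : H), z ∈ Subgroup.center H → w * z * w⁻¹ * z⁻¹ = 1 := by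
    intro w z hz
    rw [Subgroup.mem_center_iff.1 hz w, mul_inv_cancel_right, mul_inv_cancel]
  have hself : ∀ w : H, w * w * w⁻¹ * w⁻¹ = 1 := by intro w; group
  have hord : ∀ x y : H, x * y * x⁻¹ * y⁻¹ ≠ 1 → orderOf (x * y * x⁻¹ * y⁻¹) = p := by
    intro x y h
    exact orderOf_eq_prime (pow_card_sub hK _ (Subgroup.commutator_mem_commutator
      (Subgroup.mem_top x) (Subgroup.mem_top y))) h
  have hab1 : a * b * a⁻¹ * b⁻¹ ≠ 1 := by
    intro h
    rw [mul_inv_eq_one, mul_inv_eq_iff_eq_mul] at h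
    exact hab h.symm
  have hba1 : b * a * b⁻¹ * a⁻¹ ≠ 1 := by
    intro h
    rw [mul_inv_eq_one, mul_inv_eq_iff_eq_mul] at h
    exact hab h
  have hzpK : ∀ (x : H) (i : ℤ), (p : ℤ) ∣ i → x ^ i ∈ commutator H := by
    rintro x _ ⟨m, rfl⟩
    rw [zpow_mul, zpow_natCast]
    exact Subgroup.zpow_mem _ (hpc x) m
  have hcE : c ∉ E := by
    intro h
    rw [hE, Subgroup.mem_comap] at h
    obtain ⟨y, hy, z, hz, hyz⟩ := Subgroup.mem_sup.1 h
    obtain ⟨i, rfl⟩ := Subgroup.mem_zpowers_iff.1 hy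
    obtain ⟨j, rfl⟩ := Subgroup.mem_zpowers_iff.1 hz
    have h1 : (a ^ i * b ^ j)⁻¹ * c ∈ commutator H := by
      rw [← hof, map_mul, map_inv, map_mul, map_zpow, map_zpow, hyz, inv_mul_cancel]
    have hu : a ^ i * b ^ j ∈ Subgroup.center H := by
      have h2 := mul_mem hcZ (Subgroup.inv_mem _ (hKZ h1))
      rwa [mul_inv_rev, inv_inv, mul_inv_cancel_left] at h2
    have e1 : (b * a * b⁻¹ * a⁻¹) ^ i = 1 := by
      have := hkZ b _ hu
      rw [← hκb, map_mul, map_zpow, map_zpow, hκb, hκb, hself, one_zpow, mul_one] at this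
      exact this
    have e2 : (a * b * a⁻¹ * b⁻¹) ^ j = 1 := by
      have := hkZ a _ hu
      rw [← hκa, map_mul, map_zpow, map_zpow, hκa, hκa, hself, one_zpow, one_mul] at this
      exact this
    have d1 : (p : ℤ) ∣ i := by
      rw [← hord b a hba1]; exact orderOf_dvd_iff_zpow_eq_one.2 e1
    have d2 : (p : ℤ) ∣ j := by
      rw [← hord a b hab1]; exact orderOf_dvd_iff_zpow_eq_one.2 e2
    apply hcK
    have h3 := mul_mem (mul_mem (hzpK a i d1) (hzpK b j d2)) h1
    rwa [mul_inv_cancel_left] at h3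
  have haK : a ∉ commutator H := fun h => hab (Subgroup.mem_center_iff.1 (hKZ h) b)
  have l1 : commutator H ⊔ Subgroup.zpowers a ≤ Subgroup.centralizer ({a} : Set H) :=
    sup_le (hKZ.trans (Subgroup.center_le_centralizer _))
      (Subgroup.zpowers_le.2 (Subgroup.mem_centralizer_singleton_iff.2 rfl))
  have hb1 : b ∉ commutator H ⊔ Subgroup.zpowers a :=
    fun h => hab (Subgroup.mem_centralizer_singleton_iff.1 (l1 h))
  have hcardE : Nat.card E = p ^ 3 := by
    have c1 := card_step hP (i := 1) (by rw [hK, pow_one]) (lt_sup_zpowers haK)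
    have c2 := card_step hP c1 (lt_of_le_of_ne (sup_le hKE (Subgroup.zpowers_le.2 haE))
      (fun e => hb1 (e ▸ hbE)))
    obtain ⟨j, hj⟩ := (hP.to_subgroup E).exists_card_eq
    have h2 := card_lt (lt_top_iff_ne_top.2 (fun e : E = ⊤ => hcE (by rw [e]; exact Subgroup.mem_top c)))
    rw [Subgroup.card_top, hcard, hj] at h2
    rw [hj] at c2
    have f1 := (Nat.pow_lt_pow_iff_right hp1).1 h2
    have f2 := (Nat.pow_le_pow_iff_right hp1).1 c2
    rw [hj]
    congr 1
    omega
  refine ⟨E, haE, hbE, hcardE, ?_⟩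
  have hcc : ∀ (m : ℕ) (x : H), x * c ^ m = c ^ m * x := fun m x =>
    Subgroup.mem_center_iff.1 (Subgroup.pow_mem _ hcZ m) x
  let g : E × Multiplicative (ZMod p) →* H :=
    MonoidHom.mk' (fun u => (u.1 : H) * c ^ (Multiplicative.toAdd u.2).val) (by
      intro u v
      show ((u.1 * v.1 : E) : H) *
        c ^ (Multiplicative.toAdd u.2 + Multiplicative.toAdd v.2).val = _
      rw [Cfsg.Agent.Lib.Helper4.SL2R.pow_val_add hcp, Subgroup.coe_mul]
      calc (u.1 : H) * v.1 * (c ^ (Multiplicative.toAdd u.2).val * c ^ (Multiplicative.toAdd v.2).val)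
          = (u.1 : H) * ((v.1 : H) * c ^ (Multiplicative.toAdd u.2).val) *
            c ^ (Multiplicative.toAdd v.2).val := by group
        _ = (u.1 : H) * (c ^ (Multiplicative.toAdd u.2).val * (v.1 : H)) *
            c ^ (Multiplicative.toAdd v.2).val := by rw [hcc _ (v.1 : H)]
        _ = _ := by group)
  have hg : ∀ u, g u = (u.1 : H) * c ^ (Multiplicative.toAdd u.2).val := fun _ => rfl
  have hinj : Function.Injective g := by
    rw [injective_iff_map_eq_one]
    rintro ⟨e, i⟩ hu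
    rw [hg] at hu
    have h1 : c ^ (Multiplicative.toAdd i).val ∈ E := by
      rw [eq_inv_of_mul_eq_one_right hu]
      exact Subgroup.inv_mem _ e.2
    have h2 : c ^ (Multiplicative.toAdd i).val = 1 := by
      by_contra hne
      have h3 := PSq.mem_zpowers_swap hcp (Subgroup.npow_mem_zpowers c _) hne
      exact hcE ((Subgroup.zpowers_le.2 h1) h3)
    have h4 := Cfsg.Agent.Lib.Helper4.SL2R.val_eq_zero_of_pow hcp hc1 _ h2
    simp only [h2, mul_one] at hu
    exact Prod.ext (Subtype.ext hu) h4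
  have hbij : Function.Bijective g :=
    (Nat.bijective_iff_injective_and_card g).2 ⟨hinj, by
      rw [Nat.card_prod, hcardE, hcard, show Nat.card (Multiplicative (ZMod p)) = p from
        Nat.card_zmod p]
      ring⟩
  exact ⟨(MulEquiv.ofBijective g hbij).symm⟩

theorem to_type0 (E : Type*) [Group E] [Finite E] :
    ∃ (E0 : Type) (_ : Group E0) (_ : Finite E0), Nonempty (E ≃* E0) := by
  let e : {i : ℕ // i < Nat.card E} ≃ E := ((Finite.equivFin E).trans Fin.equivSubtype).symm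
  letI : Group {i : ℕ // i < Nat.card E} := e.group
  exact ⟨{i : ℕ // i < Nat.card E}, inferInstance, Finite.of_equiv _ e.symm,
    ⟨(e.mulEquiv).symm⟩⟩

end Cfsg.Agent.Lib.Helper27.PFo
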