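import Cfsg.Agent.Lib.Helper27.P4d

set_option autoImplicit false

namespace Cfsg.Agent.Lib.Helper27.PFo

open Cfsg Cfsg.Agent.Lib.Helper17 Cfsg.Agent.Lib.Helper27.PCu
open scoped commutatorElement

variable {H : Type*} [Group H]

theorem comm_of_sq (h : ∀ x : H, x ^ 2 = 1) : ∀ x y : H, x * y = y * x := by
  intro x y
  have inv_eq : ∀ g : H, g⁻¹ = g := fun g =>
    inv_eq_of_mul_eq_one_left (by rw [← pow_two]; exact h g)
  calc x * y = (x * y)⁻¹ := (inv_eq _).symm
    _ = y⁻¹ * x⁻¹ := mul_inv_rev _ _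
    _ = y * x := by rw [inv_eq, inv_eq]

theorem q8_case [Finite H] (hcard : Nat.card H = 2 ^ 4)
    (A : Subgroup (MulAut H)) (hInn : Inn H ≤ A)
    (hcore : ∀ N : Subgroup A, N.Normal → IsPGroup 2 N → N.map A.subtype ≤ Inn H)
    {α : MulAut H} (hαA : α ∈ A) (hαI : α ∉ Inn H) {n : ℕ} (hαp : α ^ (2 ^ n) = 1)
    (hna : ¬ ∀ a b : H, a * b = b * a)
    (hZ : Nat.card (Subgroup.center H) = 2 ^ 2)
    (hc : ∀ x y : H, x * y * x⁻¹ * y⁻¹ ∈ Subgroup.center H)
    (hK : Nat.card (commutator H) = 2) (hpc : ∀ x : H, x ^ 2 ∈ commutator H)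
    (hZexp : ∀ z ∈ Subgroup.center H, z ^ 2 = 1) :
    Nonempty (H ≃* QuaternionGroup 2 × Multiplicative (ZMod 2)) := by
  have : Fact (Nat.Prime 2) := ⟨Nat.prime_two⟩
  obtain ⟨a, ha⟩ : ∃ a : H, a ^ 2 ≠ 1 := by
    by_contra hcon
    push Not at hcon
    exact hna (comm_of_sq hcon)
  have haZ : a ∉ Subgroup.center H := fun h => ha (hZexp a h)
  have htop : Subgroup.closure ({x : H | x ^ 2 ≠ 1} ∪ (Subgroup.center H : Set H)) = ⊤ := by
    refine irrN1 hcard A hInn hcore hαA hαI hαp hZ hc hK _ ?_ ?_ ?_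
    · intro β _ x hx
      induction hx using Subgroup.closure_induction with
      | mem y hy =>
        apply Subgroup.subset_closure
        rcases hy with hy | hy
        · left
          show (β y) ^ 2 ≠ 1
          intro h
          apply hy
          apply β.injective
          rw [map_pow, h, map_one]
        · right
          exact center_inv β y hy
      | one => rw [map_one]; exact one_mem _
      | mul y z _ _ ihy ihz => rw [map_mul]; exact mul_mem ihy ihz
      | inv y _ ih => rw [map_inv]; exact Subgroup.inv_mem _ ih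
    · intro z hz
      exact Subgroup.subset_closure (Or.inr hz)
    · intro h
      apply haZ
      rw [← h]
      exact Subgroup.subset_closure (Or.inl ha)
  obtain ⟨b, hb, hbC⟩ : ∃ b : H, b ^ 2 ≠ 1 ∧ b ∉ Subgroup.centralizer ({a} : Set H) := by
    by_contra hcon
    push Not at hcon
    have h1 : Subgroup.closure ({x : H | x ^ 2 ≠ 1} ∪ (Subgroup.center H : Set H)) ≤
        Subgroup.centralizer ({a} : Set H) := by
      rw [Subgroup.closure_le]
      rintro x (hx | hx)
      · exact hcon x hx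
      · exact Subgroup.center_le_centralizer _ hx
    rw [htop] at h1
    apply haZ
    rw [Subgroup.mem_center_iff]
    intro g
    exact Subgroup.mem_centralizer_singleton_iff.1 (h1 (Subgroup.mem_top g))
  have hab : ¬ b * a = a * b := fun h => hbC (Subgroup.mem_centralizer_singleton_iff.2 h)
  obtain ⟨E, haE, hbE, hcE, ⟨e1⟩⟩ := exists_split hcard hZ hc hK hpc hZexp hab
  have huniq : ∀ u ∈ commutator H, u ≠ 1 → u = a ^ 2 := by
    intro u hu hu1
    obtain ⟨y, -, hy⟩ := (Nat.card_eq_two_iff' (1 : commutator H)).1 hK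
    have f1 := hy ⟨u, hu⟩ (fun h => hu1 (congrArg Subtype.val h))
    have f2 := hy ⟨a ^ 2, hpc a⟩ (fun h => ha (congrArg Subtype.val h))
    exact congrArg Subtype.val (f1.trans f2.symm)
  have ha4 : a ^ 4 = 1 := by
    have := pow_card_sub hK _ (hpc a)
    rwa [← pow_mul] at this
  have hoa : orderOf a = 2 ^ 2 :=
    orderOf_eq_prime_pow (p := 2) (n := 1) (by rwa [pow_one]) (by norm_num; exact ha4)
  have hconj : b * a * b⁻¹ = a⁻¹ := by
    have h1 := huniq _ (Subgroup.commutator_mem_commutator (Subgroup.mem_top b)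
      (Subgroup.mem_top a)) (by
      intro h
      apply hab
      rw [commutatorElement_def, mul_inv_eq_one, mul_inv_eq_iff_eq_mul] at h
      exact h)
    rw [commutatorElement_def] at h1
    have h2 : a⁻¹ = a ^ 3 := by
      rw [inv_eq_iff_mul_eq_one, ← pow_succ', ha4]
    calc b * a * b⁻¹ = (b * a * b⁻¹ * a⁻¹) * a := by group
      _ = a ^ 3 := by rw [h1, ← pow_succ]
      _ = a⁻¹ := h2.symm
  obtain ⟨e2⟩ := Cfsg.Agent.Lib.Helper9.nonempty_mulEquiv_quaternion (G := E) 2 ⟨a, haE⟩ ⟨b, hbE⟩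
    (by rw [Subgroup.orderOf_mk, hoa]; norm_num)
    (by
      intro h
      obtain ⟨k, hk⟩ := Subgroup.mem_zpowers_iff.1 h
      have hk' : a ^ k = b := by
        have := congrArg Subtype.val hk
        simpa using this
      apply hab
      rw [← hk']
      exact ((Commute.refl a).zpow_left k).eq)
    (Subtype.ext (by
      show b * b = a ^ 2
      rw [← pow_two]
      exact huniq _ (hpc b) hb))
    (Subtype.ext hconj)
    (by rw [hcE]; norm_num)
  exact ⟨e1.trans (MulEquiv.prodCongr e2 (MulEquiv.refl _))⟩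

theorem nonabelian_case [Finite H] {p : ℕ} [Fact p.Prime] (hcard : Nat.card H = p ^ 4)
    (A : Subgroup (MulAut H)) (hInn : Inn H ≤ A)
    (hcore : ∀ N : Subgroup A, N.Normal → IsPGroup p N → N.map A.subtype ≤ Inn H)
    {α : MulAut H} (hαA : α ∈ A) (hαI : α ∉ Inn H) {n : ℕ} (hαp : α ^ (p ^ n) = 1)
    (hna : ¬ ∀ a b : H, a * b = b * a) :
    (Odd p ∧ ∃ (E : Type) (_ : Group E) (_ : Finite E), IsExtraspecial p E ∧ Nat.card E = p ^ 3 ∧
        (∀ x : E, x ^ p = 1) ∧ Nonempty (H ≃* E × Multiplicative (ZMod p))) ∨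
      (p = 2 ∧ Nonempty (H ≃* QuaternionGroup 2 × Multiplicative (ZMod 2))) ∨
      ((∀ x : H, x ^ (p ^ 2) = 1) ∧ IsCyclic (Subgroup.center H) ∧
        Nat.card (Subgroup.center H) = p ^ 2) := by
  have hp1 := (Fact.out : p.Prime).one_lt
  have hp0 := (Fact.out : p.Prime).pos
  have hP : IsPGroup p H := IsPGroup.of_card hcard
  have hnt : Nontrivial H := Finite.one_lt_card_iff_nontrivial.1 (by
    rw [hcard]; exact Nat.one_lt_pow (by norm_num) hp1)
  have hZnt : Nontrivial (Subgroup.center H) := hP.center_nontrivial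
  have hq := Subgroup.card_eq_card_quotient_mul_card_subgroup (Subgroup.center H)
  have hncyc : ¬ IsCyclic (H ⧸ Subgroup.center H) := by
    intro hc
    exact hna (commutative_of_cyclic_center_quotient (QuotientGroup.mk' (Subgroup.center H))
      (by rw [QuotientGroup.ker_mk']))
  obtain ⟨k, hk, hk'⟩ := (Nat.dvd_prime_pow Fact.out).1
    (hcard ▸ Subgroup.card_subgroup_dvd_card (Subgroup.center H))
  have hZ : Nat.card (Subgroup.center H) = p ^ 2 := by
    interval_cases k
    · exfalso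
      have := Finite.one_lt_card_iff_nontrivial.2 hZnt
      rw [hk'] at this
      simp at this
    · exfalso
      exact false_of_center_p hcard A hInn hcore hαA hαI hαp (by rw [hk', pow_one])
    · exact hk'
    · exfalso
      rw [hk', hcard] at hq
      have h1 : Nat.card (H ⧸ Subgroup.center H) = p := by
        have : p * p ^ 3 = Nat.card (H ⧸ Subgroup.center H) * p ^ 3 := by rw [← hq]; ring
        exact (Nat.eq_of_mul_eq_mul_right (by positivity) this).symm
      exact hncyc (isCyclic_of_prime_card h1)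
    · exfalso
      have h1 : Subgroup.center H = ⊤ := Subgroup.eq_top_of_card_eq _ (by rw [hk', hcard])
      apply hna
      intro a b
      have : b ∈ Subgroup.center H := h1 ▸ Subgroup.mem_top b
      exact (Subgroup.mem_center_iff.1 this a)
  have hcQ : Nat.card (H ⧸ Subgroup.center H) = p ^ 2 := by
    rw [hZ, hcard] at hq
    have : p ^ 2 * p ^ 2 = Nat.card (H ⧸ Subgroup.center H) * p ^ 2 := by rw [← hq]; ring
    exact (Nat.eq_of_mul_eq_mul_right (by positivity) this).symm
  obtain ⟨hc, hpw⟩ := quot_sq hcQ hna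
  have hK := card_comm hcard hZ hc hpw hna
  have hpc := pow_mem_comm hcard A hInn hcore hαA hαI hαp hZ hc hK hpw
  have hexp2 : ∀ x : H, x ^ (p ^ 2) = 1 := by
    intro x
    rw [pow_two, pow_mul]
    exact pow_card_sub hK _ (hpc x)
  by_cases hcyc : IsCyclic (Subgroup.center H)
  · exact Or.inr (Or.inr ⟨hexp2, hcyc, hZ⟩)
  have hZexp : ∀ z ∈ Subgroup.center H, z ^ p = 1 := by
    intro z hz
    by_contra hx
    have h1 : orderOf (⟨z, hz⟩ : Subgroup.center H) ∣ p ^ 2 := hZ ▸ orderOf_dvd_natCard _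
    obtain ⟨k, hk, hk'⟩ := (Nat.dvd_prime_pow Fact.out).1 h1
    rw [Subgroup.orderOf_mk] at hk'
    have h2 : orderOf (⟨z, hz⟩ : Subgroup.center H) = Nat.card (Subgroup.center H) := by
      rw [hZ, Subgroup.orderOf_mk]
      interval_cases k
      · exfalso; apply hx; rw [pow_zero, orderOf_eq_one_iff] at hk'; rw [hk', one_pow]
      · exfalso; apply hx; rw [pow_one] at hk'; rw [← hk', pow_orderOf_eq_one]
      · exact hk'
    exact hcyc (isCyclic_of_orderOf_eq_card _ h2)
  by_cases hp2 : p = 2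
  · subst hp2
    exact Or.inr (Or.inl ⟨rfl, q8_case hcard A hInn hcore hαA hαI hαp hna hZ hc hK hpc hZexp⟩)
  left
  refine ⟨(Fact.out : p.Prime).odd_of_ne_two hp2, ?_⟩
  have hexp := exp_p_of_odd hcard A hInn hcore hαA hαI hαp hZ hc hK hpw hp2 hZexp
  have hna' := hna
  push Not at hna'
  obtain ⟨b, a, hab⟩ := hna'
  obtain ⟨E, haE, hbE, hcE, ⟨e1⟩⟩ := exists_split hcard hZ hc hK hpc hZexp hab
  obtain ⟨E0, iG, iF, ⟨e0⟩⟩ := to_type0 E
  have hc0 : Nat.card E0 = p ^ 3 := by rw [← Nat.card_congr e0.toEquiv, hcE]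
  refine ⟨E0, iG, iF, extraspecial_of_na hc0 ?_, hc0, ?_,
    ⟨e1.trans (MulEquiv.prodCongr e0 (MulEquiv.refl _))⟩⟩
  · intro h
    apply hab
    have h1 := h (e0 ⟨b, hbE⟩) (e0 ⟨a, haE⟩)
    rw [← map_mul, ← map_mul] at h1
    exact congrArg Subtype.val (e0.injective h1)
  · intro x
    obtain ⟨y, rfl⟩ := e0.surjective x
    rw [← map_pow, show y ^ p = 1 from Subtype.ext (hexp y), map_one]

end Cfsg.Agent.Lib.Helper27.PFo
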