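import Cfsg.Agent.Lib.Helper27.RankTwo2

set_option autoImplicit false

namespace Cfsg.Agent.Lib.Helper27.RkT

open Cfsg Cfsg.Agent.Lib.Helper17 Cfsg.Agent.Lib.Helper27.PCu

variable {H : Type*} [CommGroup H]

theorem serre {p : ℕ} [Fact p.Prime] (hp5 : 5 ≤ p) {α : MulAut H} (hα : α ^ p = 1)
    (h2 : ∀ x, (x⁻¹ * α x)⁻¹ * α (x⁻¹ * α x) ∈ mho H p 1)
    (hom1 : ∀ x : H, x ^ p = 1 → x ∈ mho H p 1) : ∀ x, x⁻¹ * α x ∈ mho H p 1 := by
  intro x0
  obtain ⟨D, hD⟩ : ∃ D : H →* H, ∀ x, D x = x⁻¹ * α x :=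
    ⟨MonoidHom.mk' (fun x => x⁻¹ * α x) (by
      intro a b
      show (a * b)⁻¹ * α (a * b) = _
      rw [map_mul, mul_inv]
      ac_rfl), fun _ => rfl⟩
  have hαD : ∀ x, α x = x * D x := by intro x; rw [hD, mul_inv_cancel_left]
  have hDm : ∀ i, ∀ x ∈ mho H p i, D x ∈ mho H p i := by
    intro i x hx
    obtain ⟨y, rfl⟩ := mem_mho.1 hx
    exact mem_mho.2 ⟨D y, by rw [map_pow]⟩
  have h2' : ∀ x, D (D x) ∈ mho H p 1 := by
    intro x
    rw [hD (D x), hD x]
    exact h2 x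
  have h4 : ∀ x ∈ mho H p 1, D (D x) ∈ mho H p 2 := by
    intro x hx
    obtain ⟨y, rfl⟩ := mem_mho.1 hx
    rw [map_pow, map_pow, pow_one]
    exact pow_mem_mho_succ (h2' y)
  obtain ⟨x1, hx1⟩ : ∃ x1, x1 = D x0 := ⟨_, rfl⟩
  obtain ⟨x2, hx2⟩ : ∃ x2, x2 = D x1 := ⟨_, rfl⟩
  obtain ⟨x3, hx3⟩ : ∃ x3, x3 = D x2 := ⟨_, rfl⟩
  obtain ⟨x4, hx4⟩ : ∃ x4, x4 = D x3 := ⟨_, rfl⟩
  have a0 : α x0 = x0 * x1 := by rw [hx1]; exact hαD x0
  have a1 : α x1 = x1 * x2 := by rw [hx2]; exact hαD x1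
  have a2 : α x2 = x2 * x3 := by rw [hx3]; exact hαD x2
  have a3 : α x3 = x3 * x4 := by rw [hx4]; exact hαD x3
  have m2 : x2 ∈ mho H p 1 := by rw [hx2, hx1]; exact h2' x0
  have m3 : x3 ∈ mho H p 1 := by rw [hx3]; exact hDm 1 x2 m2
  have m4 : x4 ∈ mho H p 2 := by rw [hx4, hx3]; exact h4 x2 m2
  have key : ∀ j : ℕ, ∃ w ∈ mho H p 2,
      (α ^ j) x0 = x0 * x1 ^ j * x2 ^ (j.choose 2) * x3 ^ (j.choose 3) * w := by
    intro j
    induction j with
    | zero => exact ⟨1, one_mem _, by simp⟩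
    | succ j ih =>
      obtain ⟨w, hw, e⟩ := ih
      refine ⟨x4 ^ (j.choose 3) * α w, mul_mem (pow_mem m4 _) (mho_inv α w hw), ?_⟩
      have c2 : (j + 1).choose 2 = j + j.choose 2 := by
        rw [show 2 = 1 + 1 from rfl, Nat.choose_succ_succ, Nat.choose_one_right]
      have c3 : (j + 1).choose 3 = j.choose 2 + j.choose 3 := Nat.choose_succ_succ j 2
      rw [pow_succ', MulAut.mul_apply, e]
      simp only [map_mul, map_pow]
      rw [a0, a1, a2, a3, c2, c3, mul_pow, mul_pow, mul_pow, pow_add x2, pow_add x3, pow_succ x1]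
      ac_rfl
  obtain ⟨w, hw, e⟩ := key p
  rw [hα, MulAut.one_apply] at e
  have d2 : p ∣ p.choose 2 := (Fact.out : p.Prime).dvd_choose_self (by norm_num) (by omega)
  have d3 : p ∣ p.choose 3 := (Fact.out : p.Prime).dvd_choose_self (by norm_num) (by omega)
  have n2 : x2 ^ (p.choose 2) ∈ mho H p 2 := by
    obtain ⟨t, ht⟩ := d2
    rw [ht, pow_mul]
    exact pow_mem (pow_mem_mho_succ m2) t
  have n3 : x3 ^ (p.choose 3) ∈ mho H p 2 := by
    obtain ⟨t, ht⟩ := d3
    rw [ht, pow_mul]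
    exact pow_mem (pow_mem_mho_succ m3) t
  have e' : x1 ^ p * (x2 ^ (p.choose 2) * x3 ^ (p.choose 3) * w) = 1 := by
    apply mul_left_cancel (a := x0)
    calc x0 * (x1 ^ p * (x2 ^ (p.choose 2) * x3 ^ (p.choose 3) * w))
        = x0 * x1 ^ p * x2 ^ (p.choose 2) * x3 ^ (p.choose 3) * w := by ac_rfl
      _ = x0 := e.symm
      _ = x0 * 1 := (mul_one _).symm
  have hx1p : x1 ^ p ∈ mho H p 2 := by
    rw [eq_inv_of_mul_eq_one_left e']
    exact Subgroup.inv_mem _ (mul_mem (mul_mem n2 n3) hw)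
  obtain ⟨y, hy⟩ := mem_mho.1 hx1p
  have h5 : (x1 * (y ^ p)⁻¹) ^ p = 1 := by
    rw [mul_pow, inv_pow, ← pow_mul, ← pow_two, hy, mul_inv_cancel]
  have h6 := mul_mem (hom1 _ h5) (mem_mho.2 ⟨y, by rw [pow_one]⟩ : y ^ p ∈ mho H p 1)
  rw [inv_mul_cancel_right] at h6
  rw [← hD, ← hx1]
  exact h6

theorem main [Finite H] {p : ℕ} [Fact p.Prime] (hP : IsPGroup p H)
    (hrk : (frattini H).index ≤ p ^ 2) (A : Subgroup (MulAut H)) (hO : pCore p A = ⊥)
    {α : MulAut H} (hαA : α ∈ A) (hα1 : α ≠ 1) (hαp : α ^ p = 1) :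
    ((∀ x : H, x ^ p = 1) ∧ Nat.card H = p ^ 2) ∨
      (p ≤ 3 ∧ ∃ k : ℕ, Nonempty (H ≃* Multiplicative (ZMod (p ^ k) × ZMod (p ^ k)))) := by
  classical
  have hp1 := (Fact.out : p.Prime).one_lt
  obtain ⟨a, b, hgen⟩ := two_gen hP hrk
  have hαp' : α ^ (p ^ 1) = 1 := by rwa [pow_one]
  have hidx := idx_eq hP A hO hαA hα1 hαp' (idx_le a b hgen)
  obtain ⟨n, hn⟩ := hP.exists_card_eq
  have hex : ∃ k, ∀ x : H, x ^ (p ^ k) = 1 := ⟨n, fun x => by rw [← hn]; exact pow_card_eq_one'⟩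
  obtain ⟨k, hk, hmin⟩ : ∃ k, (∀ x : H, x ^ (p ^ k) = 1) ∧ ∀ m < k, ¬ ∀ x : H, x ^ (p ^ m) = 1 :=
    ⟨Nat.find hex, Nat.find_spec hex, fun m hm => Nat.find_min hex hm⟩
  have hk0 : k ≠ 0 := by
    rintro rfl
    apply hα1
    ext x
    have h1 := hk x
    have h2 := hk (α x)
    rw [pow_zero, pow_one] at h1 h2
    rw [h2, MulAut.one_apply, h1]
  have hom_eq : om H p (k - 1) = mho H p 1 := by
    refine irr hP A hO hαA hα1 hαp' hidx _ (fun γ _ => om_inv γ) ?_ ?_
    · intro x hx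
      obtain ⟨y, rfl⟩ := mem_mho.1 hx
      rw [mem_om, ← pow_mul, ← pow_add, show 1 + (k - 1) = k by omega]
      exact hk y
    · intro h
      apply hmin (k - 1) (by omega)
      intro x
      exact mem_om.1 (h ▸ Subgroup.mem_top x)
  have hom : ∀ x : H, ∀ m < k, x ^ (p ^ m) = 1 → x ∈ mho H p 1 := by
    intro x m hm hx
    rw [← hom_eq, mem_om, show k - 1 = m + (k - 1 - m) by omega, pow_add, pow_mul, hx, one_pow]
  have hiso := iso_of a b hgen hk hom (basis a b hgen hidx)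
  by_cases hp3 : p ≤ 3
  · exact Or.inr ⟨hp3, k, hiso⟩
  left
  have hp5 : 5 ≤ p := by
    have h4 : p ≠ 4 := by
      intro h
      have := (Fact.out : p.Prime)
      rw [h] at this
      exact absurd this (by norm_num)
    omega
  have hk1 : k = 1 := by
    by_contra hk1
    have hk2 : 2 ≤ k := by omega
    apply hα1
    refine T_trivial hP A hO α hαA (serre hp5 hαp ?_ ?_)
    · have cW : Nat.card (mho H p (k - 1)) = p ^ 2 := by
        have c1 := card_om_mul_mho (H := H) p (k - 1)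
        have c2 := Subgroup.card_mul_index (mho H p 1)
        rw [hom_eq] at c1
        rw [hidx, ← c1] at c2
        exact (Nat.eq_of_mul_eq_mul_left Nat.card_pos c2).symm
      have hpg : IsPGroup p (Subgroup.zpowers α) :=
        IsPGroup.of_card (n := 1) (by rw [Nat.card_zpowers, orderOf_eq_prime hαp hα1, pow_one])
      letI act : MulAction (Subgroup.zpowers α) (mho H p (k - 1)) :=
        { smul := fun g w => ⟨(g : MulAut H) w, mho_inv _ _ w.2⟩
          one_smul := fun w => Subtype.ext rfl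
          mul_smul := fun g h w => Subtype.ext rfl }
      obtain ⟨z, hz, hne⟩ := hpg.exists_fixed_point_of_prime_dvd_card_of_fixed_point
        (mho H p (k - 1)) (by rw [cW]; exact dvd_pow_self p two_ne_zero) (a := 1) (by
          intro g
          exact Subtype.ext (map_one (g : MulAut H)))
      have hzfix : α (z : H) = z :=
        congrArg Subtype.val (hz ⟨α, Subgroup.mem_zpowers α⟩)
      have hz1 : (z : H) ≠ 1 := fun h => hne (Subtype.ext h.symm)
      obtain ⟨y0, hy0⟩ := mem_mho.1 z.2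
      have hzp : (z : H) ^ p = 1 := by
        rw [← hy0, ← pow_mul, ← pow_succ, show k - 1 + 1 = k by omega]
        exact hk y0
      obtain ⟨M, hM⟩ : ∃ M : Subgroup H, ∀ x, x ∈ M ↔ x ^ (p ^ (k - 1)) ∈ Subgroup.zpowers (z : H) :=
        ⟨(Subgroup.zpowers (z : H)).comap (powMonoidHom (p ^ (k - 1))), fun x => Iff.rfl⟩
      have hMα : ∀ x ∈ M, α x ∈ M := by
        intro x hx
        rw [hM] at hx ⊢
        obtain ⟨c, hc⟩ := Subgroup.mem_zpowers_iff.1 hx
        rw [← map_pow, ← hc, map_zpow, hzfix]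
        exact Subgroup.zpow_mem_zpowers _ _
      have hle : mho H p 1 ≤ M := by
        intro x hx
        rw [← hom_eq, mem_om] at hx
        rw [hM, hx]
        exact one_mem _
      have hlt1 : mho H p 1 < M := by
        refine lt_of_le_of_ne hle ?_
        intro h
        have h1 : y0 ∈ M := by rw [hM, hy0]; exact Subgroup.mem_zpowers _
        rw [← h, ← hom_eq, mem_om, hy0] at h1
        exact hz1 h1
      have hlt2 : M < ⊤ := by
        rw [lt_top_iff_ne_top]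
        intro h
        have h1 : mho H p (k - 1) ≤ Subgroup.zpowers (z : H) := by
          intro w hw
          obtain ⟨y, rfl⟩ := mem_mho.1 hw
          exact (hM y).1 (h ▸ Subgroup.mem_top y)
        have h2 := Subgroup.card_le_of_le h1
        rw [cW, Nat.card_zpowers, orderOf_eq_prime hzp hz1] at h2
        nlinarith
      obtain ⟨c1, c2⟩ := mid hP hlt1 hlt2 hidx
      have n1 : (mho H p 1).Normal := inferInstance
      have n2 : M.Normal := inferInstance
      have s1 : ∀ x, x⁻¹ * α x ∈ M := fun x =>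
        sec_trivial hαp' le_top hMα (fun _ _ => Subgroup.mem_top _)
          (by rw [Subgroup.card_top, c2]) x (Subgroup.mem_top x)
      have s2 : ∀ u ∈ M, u⁻¹ * α u ∈ mho H p 1 := sec_trivial hαp' hle (mho_inv α) hMα c1
      exact fun x => s2 _ (s1 x)
    · intro x hx
      exact hom x 1 (by omega) (by rwa [pow_one])
  subst hk1
  refine ⟨fun x => by simpa using hk x, ?_⟩
  have hbot : mho H p 1 = ⊥ := by
    rw [eq_bot_iff]
    intro x hx
    obtain ⟨y, rfl⟩ := mem_mho.1 hx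
    exact Subgroup.mem_bot.2 (hk y)
  rw [hbot, Subgroup.index_bot] at hidx
  exact hidx

end Cfsg.Agent.Lib.Helper27.RkT
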