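import Cfsg.Agent.Lib.Helper27.P4e
import Cfsg.Agent.Lib.Helper27.RankTwo3

set_option autoImplicit false

namespace Cfsg.Agent.Lib.Helper27.PFo

open Cfsg Cfsg.Agent.Lib.Helper17 Cfsg.Agent.Lib.Helper27.PCu Cfsg.Agent.Lib.Helper27.RkT

variable {H : Type*} [CommGroup H]

theorem mho_le_frattini [Finite H] {p : ℕ} [Fact p.Prime] (hP : IsPGroup p H) :
    mho H p 1 ≤ frattini H := by
  rw [Cfsg.Agent.Lib.Helper1.le_frattini_iff]
  intro M hM
  obtain ⟨hn, hi⟩ := Cfsg.Agent.Lib.Helper1.pgroup_coatom hP M hM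
  intro x hx
  obtain ⟨y, rfl⟩ := mem_mho.1 hx
  rw [pow_one, ← hi]
  exact Subgroup.pow_index_mem M y

theorem pow_val_add' {N : ℕ} [NeZero N] {w : H} (hw : w ^ N = 1) (i j : ZMod N) :
    w ^ (i + j).val = w ^ i.val * w ^ j.val := by
  rw [ZMod.val_add, ← pow_add]
  conv_rhs => rw [← Nat.mod_add_div (i.val + j.val) N, pow_add, pow_mul, hw, one_pow, mul_one]

theorem iso211 [Finite H] {p : ℕ} [Fact p.Prime] (hcard : Nat.card H = p ^ 4)
    (hm : Nat.card (mho H p 1) = p) :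
    Nonempty (H ≃* Multiplicative (ZMod (p ^ 2) × ZMod p × ZMod p)) := by
  have hp1 := (Fact.out : p.Prime).one_lt
  have hp0 := (Fact.out : p.Prime).pos
  have hN : NeZero (p ^ 2) := ⟨pow_ne_zero _ (Fact.out : p.Prime).ne_zero⟩
  have hom1 : Nat.card (om H p 1) = p ^ 3 := by
    have h1 := card_om_mul_mho (H := H) p 1
    rw [hm, hcard] at h1
    have : Nat.card (om H p 1) * p = p ^ 3 * p := by rw [h1]; ring
    exact Nat.eq_of_mul_eq_mul_right hp0 this
  obtain ⟨a0, ha0⟩ : ∃ a0 : H, a0 ^ p ≠ 1 := by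
    by_contra hcon
    push Not at hcon
    have h1 : mho H p 1 = ⊥ := by
      rw [eq_bot_iff]
      intro x hx
      obtain ⟨y, rfl⟩ := mem_mho.1 hx
      rw [pow_one]
      exact Subgroup.mem_bot.2 (hcon y)
    rw [h1, Subgroup.card_bot] at hm
    omega
  obtain ⟨z, hz⟩ : ∃ z, z = a0 ^ p := ⟨_, rfl⟩
  have hz1 : z ≠ 1 := hz ▸ ha0
  have hzp : z ^ p = 1 := pow_card_sub hm z (mem_mho.2 ⟨a0, by rw [pow_one, hz]⟩)
  have ha0p : a0 ^ (p ^ 2) = 1 := by rw [pow_two, pow_mul, ← hz, hzp]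
  have hzO : z ∈ om H p 1 := mem_om.2 (by rw [pow_one, hzp])
  have hcz : Nat.card (Subgroup.zpowers z) = p := by
    rw [Nat.card_zpowers]; exact orderOf_eq_prime hzp hz1
  obtain ⟨b, hbO, hbz⟩ := exists_not_mem_of_card_lt (K := Subgroup.zpowers z) (D := om H p 1) (by
    rw [hcz, hom1]
    calc p = p ^ 1 := (pow_one p).symm
      _ < p ^ 3 := Nat.pow_lt_pow_right hp1 (by norm_num))
  have hbp : b ^ p = 1 := by have := mem_om.1 hbO; rwa [pow_one] at this
  have hb1 : b ≠ 1 := fun h => hbz (h ▸ one_mem _)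
  have hcB : Nat.card ↥(Subgroup.zpowers z ⊔ Subgroup.zpowers b) ≤ p ^ 2 := by
    let f : ZMod p × ZMod p → ↥(Subgroup.zpowers z ⊔ Subgroup.zpowers b) := fun u =>
      ⟨z ^ u.1.val * b ^ u.2.val, mul_mem
        ((le_sup_left : Subgroup.zpowers z ≤ _) (Subgroup.npow_mem_zpowers _ _))
        ((le_sup_right : Subgroup.zpowers b ≤ _) (Subgroup.npow_mem_zpowers _ _))⟩
    have hf : Function.Surjective f := by
      rintro ⟨x, hx⟩
      obtain ⟨y, hy, w, hw, rfl⟩ := Subgroup.mem_sup.1 hx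
      obtain ⟨i, rfl⟩ := Subgroup.mem_zpowers_iff.1 hy
      obtain ⟨j, rfl⟩ := Subgroup.mem_zpowers_iff.1 hw
      refine ⟨((i : ZMod p), (j : ZMod p)), Subtype.ext ?_⟩
      show z ^ ((i : ZMod p)).val * b ^ ((j : ZMod p)).val = _
      rw [← PSq.zpow_eq_pow_val hzp, ← PSq.zpow_eq_pow_val hbp]
    have := Nat.card_le_card_of_surjective f hf
    rwa [Nat.card_prod, Nat.card_zmod, ← pow_two] at this
  obtain ⟨c, hcO, hcB'⟩ := exists_not_mem_of_card_lt
    (K := Subgroup.zpowers z ⊔ Subgroup.zpowers b) (D := om H p 1) (by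
      rw [hom1]
      exact lt_of_le_of_lt hcB (Nat.pow_lt_pow_right hp1 (by norm_num)))
  have hcp : c ^ p = 1 := by have := mem_om.1 hcO; rwa [pow_one] at this
  have hc1 : c ≠ 1 := fun h => hcB' (h ▸ one_mem _)
  let f : Multiplicative (ZMod (p ^ 2) × ZMod p × ZMod p) →* H :=
    MonoidHom.mk' (fun u => a0 ^ (Multiplicative.toAdd u).1.val *
        b ^ (Multiplicative.toAdd u).2.1.val * c ^ (Multiplicative.toAdd u).2.2.val) (by
      intro u v
      show a0 ^ ((Multiplicative.toAdd u).1 + (Multiplicative.toAdd v).1).val *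
        b ^ ((Multiplicative.toAdd u).2.1 + (Multiplicative.toAdd v).2.1).val *
        c ^ ((Multiplicative.toAdd u).2.2 + (Multiplicative.toAdd v).2.2).val = _
      rw [pow_val_add' ha0p, pow_val_add' hbp, pow_val_add' hcp]
      ac_rfl)
  have hf : ∀ u, f u = a0 ^ (Multiplicative.toAdd u).1.val *
      b ^ (Multiplicative.toAdd u).2.1.val * c ^ (Multiplicative.toAdd u).2.2.val := fun _ => rfl
  have hinj : Function.Injective f := by
    rw [injective_iff_map_eq_one]
    intro u hu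
    rw [hf] at hu
    obtain ⟨i, hi⟩ : ∃ i, i = (Multiplicative.toAdd u).1.val := ⟨_, rfl⟩
    rw [← hi] at hu
    have h1 : z ^ i = 1 := by
      have := congrArg (· ^ p) hu
      simp only [mul_pow, one_pow] at this
      rw [← pow_mul b, ← pow_mul c, mul_comm _ p, mul_comm _ p, pow_mul b, pow_mul c, hbp, hcp,
        one_pow, one_pow, mul_one, mul_one, ← pow_mul, mul_comm, pow_mul, ← hz] at this
      exact this
    have hoz : orderOf z = p := orderOf_eq_prime hzp hz1
    obtain ⟨i', hi'⟩ : p ∣ i := by rw [← hoz]; exact orderOf_dvd_of_pow_eq_one h1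
    have h2 : a0 ^ i = z ^ i' := by rw [hi', pow_mul, ← hz]
    rw [h2] at hu
    have h3 : c ^ (Multiplicative.toAdd u).2.2.val = 1 := by
      by_contra hne
      have h4 : c ^ (Multiplicative.toAdd u).2.2.val ∈ Subgroup.zpowers z ⊔ Subgroup.zpowers b := by
        rw [eq_inv_of_mul_eq_one_right hu]
        exact Subgroup.inv_mem _ (mul_mem
          ((le_sup_left : Subgroup.zpowers z ≤ _) (Subgroup.npow_mem_zpowers _ _))
          ((le_sup_right : Subgroup.zpowers b ≤ _) (Subgroup.npow_mem_zpowers _ _)))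
      exact hcB' ((Subgroup.zpowers_le.2 h4)
        (PSq.mem_zpowers_swap hcp (Subgroup.npow_mem_zpowers c _) hne))
    rw [h3, mul_one] at hu
    have h5 : b ^ (Multiplicative.toAdd u).2.1.val = 1 := by
      by_contra hne
      have h4 : b ^ (Multiplicative.toAdd u).2.1.val ∈ Subgroup.zpowers z := by
        rw [eq_inv_of_mul_eq_one_right hu]
        exact Subgroup.inv_mem _ (Subgroup.npow_mem_zpowers _ _)
      exact hbz ((Subgroup.zpowers_le.2 h4)
        (PSq.mem_zpowers_swap hbp (Subgroup.npow_mem_zpowers b _) hne))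
    rw [h5, mul_one] at hu
    obtain ⟨i'', hi''⟩ : p ∣ i' := by rw [← hoz]; exact orderOf_dvd_of_pow_eq_one hu
    have h6 : i = 0 := by
      apply Nat.eq_zero_of_dvd_of_lt (a := p ^ 2)
      · exact ⟨i'', by rw [hi', hi'']; ring⟩
      · rw [hi]; exact ZMod.val_lt _
    have e1 : (Multiplicative.toAdd u).1 = 0 := (ZMod.val_eq_zero _).1 (hi ▸ h6)
    have e2 := Cfsg.Agent.Lib.Helper4.SL2R.val_eq_zero_of_pow hbp hb1 _ h5
    have e3 := Cfsg.Agent.Lib.Helper4.SL2R.val_eq_zero_of_pow hcp hc1 _ h3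
    have : Multiplicative.toAdd u = 0 := Prod.ext e1 (Prod.ext e2 e3)
    exact this
  have hbij : Function.Bijective f :=
    (Nat.bijective_iff_injective_and_card f).2 ⟨hinj, by
      rw [hcard, show Nat.card (Multiplicative (ZMod (p ^ 2) × ZMod p × ZMod p)) =
        Nat.card (ZMod (p ^ 2) × ZMod p × ZMod p) from rfl, Nat.card_prod, Nat.card_prod,
        Nat.card_zmod, Nat.card_zmod]
      ring⟩
  exact ⟨(MulEquiv.ofBijective f hbij).symm⟩

theorem abelian4 [Finite H] {p : ℕ} [Fact p.Prime] (hcard : Nat.card H = p ^ 4)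
    (A : Subgroup (MulAut H)) (hO : pCore p A = ⊥) {α : MulAut H} (hαA : α ∈ A) (hα1 : α ≠ 1)
    (hαp : α ^ p = 1) :
    (∀ x : H, x ^ p = 1) ∨ Nonempty (H ≃* Multiplicative (ZMod (p ^ 2) × ZMod p × ZMod p)) ∨
      ((p = 2 ∨ p = 3) ∧ Nonempty (H ≃* Multiplicative (ZMod (p ^ 2) × ZMod (p ^ 2)))) := by
  have hp1 := (Fact.out : p.Prime).one_lt
  have hP : IsPGroup p H := IsPGroup.of_card hcard
  obtain ⟨a, ha, ha'⟩ := (Nat.dvd_prime_pow Fact.out).1
    (hcard ▸ Subgroup.card_subgroup_dvd_card (mho H p 1))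
  by_cases h0 : a = 0
  · left
    subst h0
    rw [pow_zero] at ha'
    have h1 : mho H p 1 = ⊥ := Subgroup.card_eq_one.1 ha'
    intro x
    have : x ^ p ∈ mho H p 1 := mem_mho.2 ⟨x, by rw [pow_one]⟩
    rwa [h1, Subgroup.mem_bot] at this
  by_cases h1 : a = 1
  · right; left
    exact iso211 hcard (by rw [ha', h1, pow_one])
  right; right
  have hidx : (mho H p 1).index ≤ p ^ 2 := by
    have h2 := Subgroup.card_mul_index (mho H p 1)
    rw [ha', hcard] at h2
    have h3 : p ^ a * (mho H p 1).index = p ^ a * p ^ (4 - a) := by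
      rw [h2, ← pow_add]; congr 1; omega
    rw [Nat.eq_of_mul_eq_mul_left (by positivity) h3]
    exact Nat.pow_le_pow_right (by omega) (by omega)
  have hrk : (frattini H).index ≤ p ^ 2 :=
    (Subgroup.index_antitone (mho_le_frattini hP)).trans hidx
  rcases RkT.main hP hrk A hO hαA hα1 hαp with ⟨-, h2⟩ | ⟨h2, k, ⟨e⟩⟩
  · exfalso
    rw [hcard] at h2
    have := Nat.pow_right_injective hp1 h2
    omega
  · have hk : k = 2 := by
      have h3 := Nat.card_congr e.toEquiv
      rw [hcard, show Nat.card (Multiplicative (ZMod (p ^ k) × ZMod (p ^ k))) =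
        Nat.card (ZMod (p ^ k) × ZMod (p ^ k)) from rfl, Nat.card_prod, Nat.card_zmod,
        ← pow_add] at h3
      have := Nat.pow_right_injective hp1 h3
      omega
    subst hk
    exact ⟨by omega, ⟨e⟩⟩

end Cfsg.Agent.Lib.Helper27.PFo
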