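import Cfsg.Agent.Lib.Helper27.PSquare

set_option autoImplicit false

namespace Cfsg.Agent.Lib.Helper27.PCu

open Cfsg Cfsg.Agent.Lib.Helper17

variable {H : Type*} [Group H]

/-- elements of `A` acting trivially on the section `L/K` -/
def CS (A : Subgroup (MulAut H)) (K L : Subgroup H)
    (hK : ∀ α ∈ A, ∀ x ∈ K, (α : MulAut H) x ∈ K) (hL : ∀ α ∈ A, ∀ x ∈ L, (α : MulAut H) x ∈ L) :
    Subgroup A where
  carrier := {α | ∀ x ∈ L, x⁻¹ * (α : MulAut H) x ∈ K}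
  one_mem' := by
    intro x _
    show x⁻¹ * (1 : MulAut H) x ∈ K
    rw [MulAut.one_apply, inv_mul_cancel]
    exact one_mem _
  mul_mem' := by
    intro a b ha hb x hx
    have e : x⁻¹ * ((a : MulAut H) * (b : MulAut H)) x =
        (x⁻¹ * (a : MulAut H) x) * (a : MulAut H) (x⁻¹ * (b : MulAut H) x) := by
      rw [map_mul, map_inv, MulAut.mul_apply]
      group
    show x⁻¹ * ((a : MulAut H) * (b : MulAut H)) x ∈ K
    rw [e]
    exact mul_mem (ha x hx) (hK a a.2 _ (hb x hx))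
  inv_mem' := by
    intro a ha x hx
    have h1 := ha ((a : MulAut H)⁻¹ x) (hL _ (Subgroup.inv_mem _ a.2) x hx)
    rw [MulAut.apply_inv_self] at h1
    have h2 := Subgroup.inv_mem _ h1
    rw [mul_inv_rev, inv_inv] at h2
    exact h2

theorem CS_normal (A : Subgroup (MulAut H)) (K L : Subgroup H)
    (hK : ∀ α ∈ A, ∀ x ∈ K, (α : MulAut H) x ∈ K) (hL : ∀ α ∈ A, ∀ x ∈ L, (α : MulAut H) x ∈ L) :
    (CS A K L hK hL).Normal := by
  refine ⟨fun a ha g x hx => ?_⟩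
  have h1 := ha ((g : MulAut H)⁻¹ x) (hL _ (Subgroup.inv_mem _ g.2) x hx)
  have h2 := hK g g.2 _ h1
  have e : x⁻¹ * ((g : MulAut H) * (a : MulAut H) * (g : MulAut H)⁻¹) x =
      (g : MulAut H) (((g : MulAut H)⁻¹ x)⁻¹ * (a : MulAut H) ((g : MulAut H)⁻¹ x)) := by
    rw [map_mul, map_inv, MulAut.apply_inv_self, MulAut.mul_apply, MulAut.mul_apply]
  show x⁻¹ * ((g : MulAut H) * (a : MulAut H) * (g : MulAut H)⁻¹) x ∈ K
  rw [e]
  exact h2

theorem pow_fix {β : MulAut H} {K L : Subgroup H} (h1 : ∀ k ∈ K, β k = k)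
    (h2 : ∀ x ∈ L, x⁻¹ * β x ∈ K) {m : ℕ} (hm : ∀ k ∈ K, k ^ m = 1) :
    ∀ x ∈ L, (β ^ m) x = x := by
  intro x hx
  have h3 : ∀ n : ℕ, (β ^ n) x = x * (x⁻¹ * β x) ^ n := by
    intro n
    induction n with
    | zero => simp
    | succ n ih =>
      rw [pow_succ', MulAut.mul_apply, ih, map_mul, map_pow, h1 _ (h2 x hx), pow_succ',
        ← mul_assoc, mul_inv_cancel_left]
  rw [h3, hm _ (h2 x hx), mul_one]

theorem zpow_fermat {G : Type*} [Group G] {p : ℕ} [Fact p.Prime] {g : G} (hg : g ^ p = 1) (j : ℤ)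
    (n : ℕ) : g ^ (j ^ (p ^ n)) = g ^ j := by
  have h : ((j ^ (p ^ n) : ℤ) : ZMod p) = (j : ZMod p) := by
    push_cast
    exact ZMod.pow_card_pow _
  rw [ZMod.intCast_eq_intCast_iff] at h
  exact zpow_eq_zpow_iff_modEq.2
    (h.of_dvd (Int.natCast_dvd_natCast.2 (orderOf_dvd_of_pow_eq_one hg)))

theorem sec_trivial [Finite H] {p : ℕ} [Fact p.Prime] {α : MulAut H} {n : ℕ}
    (hα : α ^ (p ^ n) = 1) {K L : Subgroup H} [K.Normal] (hKL : K ≤ L)
    (hK : ∀ x ∈ K, α x ∈ K) (hL : ∀ x ∈ L, α x ∈ L) (hcard : Nat.card L = p * Nat.card K) :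
    ∀ x ∈ L, x⁻¹ * α x ∈ K := by
  obtain ⟨αL, hαL⟩ : ∃ αL : L →* L, ∀ x : L, ((αL x : L) : H) = α x :=
    ⟨(α.toMonoidHom.comp L.subtype).codRestrict L (fun x => hL x x.2), fun x => rfl⟩
  have hN : K.subgroupOf L ≤ (K.subgroupOf L).comap αL := by
    intro x hx
    rw [Subgroup.mem_comap, Subgroup.mem_subgroupOf, hαL]
    exact hK _ hx
  obtain ⟨σ, hσ⟩ : ∃ σ : L ⧸ K.subgroupOf L →* L ⧸ K.subgroupOf L,
      ∀ x : L, σ (QuotientGroup.mk x) = QuotientGroup.mk (αL x) :=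
    ⟨QuotientGroup.map _ _ αL hN, fun x => rfl⟩
  have hcardQ : Nat.card (L ⧸ K.subgroupOf L) = p := by
    have h1 := Subgroup.card_eq_card_quotient_mul_card_subgroup (K.subgroupOf L)
    rw [Nat.card_congr (Subgroup.subgroupOfEquivOfLe hKL).toEquiv, hcard] at h1
    exact (Nat.eq_of_mul_eq_mul_right Nat.card_pos h1).symm
  have hcyc : IsCyclic (L ⧸ K.subgroupOf L) := isCyclic_of_prime_card hcardQ
  obtain ⟨j, hj⟩ := MonoidHom.map_cyclic σ
  have hit1 : ∀ (m : ℕ) (g : L ⧸ K.subgroupOf L), σ^[m] g = g ^ (j ^ m) := by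
    intro m g
    induction m with
    | zero => simp
    | succ m ih => rw [Function.iterate_succ_apply', ih, hj, ← zpow_mul, pow_succ]
  have hit2 : ∀ (m : ℕ) (x : L), ((αL^[m] x : L) : H) = (α ^ m) x := by
    intro m x
    induction m with
    | zero => simp
    | succ m ih => rw [Function.iterate_succ_apply', hαL, ih, pow_succ', MulAut.mul_apply]
  have hit3 : ∀ (m : ℕ) (x : L), σ^[m] (QuotientGroup.mk x) = QuotientGroup.mk (αL^[m] x) := by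
    intro m x
    induction m with
    | zero => simp
    | succ m ih => rw [Function.iterate_succ_apply', ih, hσ, Function.iterate_succ_apply']
  intro x hx
  have h1 : αL^[p ^ n] ⟨x, hx⟩ = ⟨x, hx⟩ := by
    apply Subtype.ext
    rw [hit2, hα, MulAut.one_apply]
  have h2 := hit3 (p ^ n) ⟨x, hx⟩
  rw [h1, hit1, zpow_fermat (by rw [← hcardQ]; exact pow_card_eq_one'), ← hj, hσ] at h2
  have h3 := QuotientGroup.eq.1 h2.symm
  rw [Subgroup.mem_subgroupOf] at h3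
  simpa [hαL] using h3

theorem no_chain [Finite H] {p : ℕ} [Fact p.Prime] (hcard : Nat.card H = p ^ 3)
    (A : Subgroup (MulAut H)) (hInn : Inn H ≤ A)
    (hcore : ∀ N : Subgroup A, N.Normal → IsPGroup p N → N.map A.subtype ≤ Inn H)
    {α : MulAut H} (hαA : α ∈ A) (hαI : α ∉ Inn H) {n : ℕ} (hαp : α ^ (p ^ n) = 1)
    (K1 K2 : Subgroup H) (h12 : K1 ≤ K2) (c1 : Nat.card K1 = p) (c2 : Nat.card K2 = p ^ 2)
    (i1 : ∀ β ∈ A, ∀ x ∈ K1, (β : MulAut H) x ∈ K1)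
    (i2 : ∀ β ∈ A, ∀ x ∈ K2, (β : MulAut H) x ∈ K2) : False := by
  have n1 : K1.Normal := ⟨fun x hx g => i1 (MulAut.conj g) (hInn ⟨g, rfl⟩) x hx⟩
  have n2 : K2.Normal := ⟨fun x hx g => i2 (MulAut.conj g) (hInn ⟨g, rfl⟩) x hx⟩
  have i0 : ∀ β ∈ A, ∀ x ∈ (⊥ : Subgroup H), (β : MulAut H) x ∈ (⊥ : Subgroup H) := by
    intro β _ x hx
    rw [Subgroup.mem_bot] at hx ⊢
    rw [hx, map_one]
  have i3 : ∀ β ∈ A, ∀ x ∈ (⊤ : Subgroup H), (β : MulAut H) x ∈ (⊤ : Subgroup H) :=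
    fun _ _ _ _ => Subgroup.mem_top _
  have m1 := CS_normal A ⊥ K1 i0 i1
  have m2 := CS_normal A K1 K2 i1 i2
  have m3 := CS_normal A K2 ⊤ i2 i3
  have hT : (CS A ⊥ K1 i0 i1 ⊓ CS A K1 K2 i1 i2 ⊓ CS A K2 ⊤ i2 i3).Normal := inferInstance
  have hTp : IsPGroup p ↥(CS A ⊥ K1 i0 i1 ⊓ CS A K1 K2 i1 i2 ⊓ CS A K2 ⊤ i2 i3) := by
    rintro ⟨τ, ⟨t1, t2⟩, t3⟩
    refine ⟨3, Subtype.ext (Subtype.ext ?_)⟩
    show (τ : MulAut H) ^ (p ^ 3) = 1
    have a1 : ∀ k ∈ K1, (τ : MulAut H) k = k := by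
      intro k hk
      have := t1 k hk
      rw [Subgroup.mem_bot, inv_mul_eq_one] at this
      exact this.symm
    have a2 : ∀ k ∈ K2, ((τ : MulAut H) ^ p) k = k := by
      refine pow_fix a1 t2 ?_
      intro k hk
      have := pow_card_eq_one' (x := (⟨k, hk⟩ : K1))
      rw [c1] at this
      exact congrArg Subtype.val this
    have t3' : τ ^ p ∈ CS A K2 ⊤ i2 i3 := Subgroup.pow_mem _ t3 p
    have a3 : ∀ x ∈ (⊤ : Subgroup H), (((τ : MulAut H) ^ p) ^ (p ^ 2)) x = x := by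
      refine pow_fix a2 t3' ?_
      intro k hk
      have := pow_card_eq_one' (x := (⟨k, hk⟩ : K2))
      rw [c2] at this
      exact congrArg Subtype.val this
    ext x
    have := a3 x (Subgroup.mem_top x)
    rw [← pow_mul, ← pow_succ'] at this
    rw [this, MulAut.one_apply]
  have hmem : (⟨α, hαA⟩ : A) ∈ CS A ⊥ K1 i0 i1 ⊓ CS A K1 K2 i1 i2 ⊓ CS A K2 ⊤ i2 i3 := by
    refine ⟨⟨?_, ?_⟩, ?_⟩
    · exact sec_trivial hαp bot_le (i0 α hαA) (i1 α hαA) (by rw [c1, Subgroup.card_bot, mul_one])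
    · exact sec_trivial hαp h12 (i1 α hαA) (i2 α hαA) (by rw [c1, c2, pow_two])
    · exact sec_trivial hαp le_top (i2 α hαA) (i3 α hαA)
        (by rw [c2, Subgroup.card_top, hcard, pow_succ'])
  exact hαI (hcore _ hT hTp ⟨_, hmem, rfl⟩)

end Cfsg.Agent.Lib.Helper27.PCu
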