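import Cfsg.Agent.Lib.Helper27.PCube
import Cfsg.Agent.Lib.Helper1.Frattini

set_option autoImplicit false

namespace Cfsg.Agent.Lib.Helper27.PCu

open Cfsg Cfsg.Agent.Lib.Helper17

variable {H : Type*} [Group H]

theorem eq_top_of_lt [Finite H] {p : ℕ} [Fact p.Prime] (hcard : Nat.card H = p ^ 3)
    {C D : Subgroup H} (hC : Nat.card C = p ^ 2) (hlt : C < D) : D = ⊤ := by
  obtain ⟨k, hk, hk'⟩ := (Nat.dvd_prime_pow Fact.out).1 (hcard ▸ Subgroup.card_subgroup_dvd_card D)
  have h1 : Nat.card C < Nat.card D := by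
    by_contra hcon
    push Not at hcon
    exact hlt.ne (Subgroup.eq_of_le_of_card_ge hlt.le hcon)
  rw [hC, hk'] at h1
  have h2 : 2 < k := (Nat.pow_lt_pow_iff_right (Fact.out : p.Prime).one_lt).1 h1
  have h3 : k = 3 := by omega
  apply Subgroup.eq_top_of_card_eq
  rw [hk', h3, hcard]

theorem comm_of_zpowers_top {x : H} (h : Subgroup.zpowers x = ⊤) : ∀ a b : H, a * b = b * a := by
  intro a b
  obtain ⟨i, rfl⟩ := Subgroup.mem_zpowers_iff.1 (h ▸ Subgroup.mem_top a : a ∈ Subgroup.zpowers x)
  obtain ⟨j, rfl⟩ := Subgroup.mem_zpowers_iff.1 (h ▸ Subgroup.mem_top b : b ∈ Subgroup.zpowers x)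
  rw [← zpow_add, ← zpow_add, add_comm]

theorem comm_of_cyclic (h : IsCyclic H) : ∀ a b : H, a * b = b * a := by
  obtain ⟨x, hx⟩ := h
  exact comm_of_zpowers_top (by rw [eq_top_iff]; intro y _; exact hx y)

structure NA (p : ℕ) (H : Type*) [Group H] : Prop where
  cardZ : Nat.card (Subgroup.center H) = p
  comm : ∀ x y : H, x * y * x⁻¹ * y⁻¹ ∈ Subgroup.center H
  pow : ∀ x : H, x ^ p ∈ Subgroup.center H

theorem na_of_card [Finite H] {p : ℕ} [Fact p.Prime] (hcard : Nat.card H = p ^ 3)
    (hna : ¬ ∀ a b : H, a * b = b * a) : NA p H := by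
  have hp1 := (Fact.out : p.Prime).one_lt
  have hG : IsPGroup p H := IsPGroup.of_card hcard
  have hnt : Nontrivial H := Finite.one_lt_card_iff_nontrivial.1 (by
    rw [hcard]; exact Nat.one_lt_pow (by norm_num) hp1)
  have hZnt : Nontrivial (Subgroup.center H) := hG.center_nontrivial
  have hq := Subgroup.card_eq_card_quotient_mul_card_subgroup (Subgroup.center H)
  have hncyc : ¬ IsCyclic (H ⧸ Subgroup.center H) := by
    intro hc
    exact hna (commutative_of_cyclic_center_quotient (QuotientGroup.mk' (Subgroup.center H))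
      (by rw [QuotientGroup.ker_mk']))
  obtain ⟨k, hk, hk'⟩ := (Nat.dvd_prime_pow Fact.out).1
    (hcard ▸ Subgroup.card_subgroup_dvd_card (Subgroup.center H))
  have hcZ : Nat.card (Subgroup.center H) = p := by
    interval_cases k
    · exfalso
      have := Finite.one_lt_card_iff_nontrivial.2 hZnt
      rw [hk'] at this
      simp at this
    · rw [hk', pow_one]
    · exfalso
      rw [hk', hcard] at hq
      have h1 : Nat.card (H ⧸ Subgroup.center H) = p := by
        have : p * p ^ 2 = Nat.card (H ⧸ Subgroup.center H) * p ^ 2 := by rw [← hq]; ring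
        exact (Nat.eq_of_mul_eq_mul_right (by positivity) this).symm
      exact hncyc (isCyclic_of_prime_card h1)
    · exfalso
      have h1 : Subgroup.center H = ⊤ := Subgroup.eq_top_of_card_eq _ (by rw [hk', hcard])
      apply hna
      intro a b
      have : b ∈ Subgroup.center H := h1 ▸ Subgroup.mem_top b
      exact (Subgroup.mem_center_iff.1 this a)
  have hcQ : Nat.card (H ⧸ Subgroup.center H) = p ^ 2 := by
    rw [hcZ, hcard] at hq
    have : p ^ 2 * p = Nat.card (H ⧸ Subgroup.center H) * p := by rw [← hq]; ring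
    exact (Nat.eq_of_mul_eq_mul_right (by positivity) this).symm
  have hQab : ∀ a b : H ⧸ Subgroup.center H, a * b = b * a :=
    IsPGroup.commutative_of_card_eq_prime_sq hcQ
  refine ⟨hcZ, fun x y => ?_, fun x => ?_⟩
  · rw [← QuotientGroup.eq_one_iff]
    simp only [QuotientGroup.mk_mul, QuotientGroup.mk_inv]
    rw [hQab (x : H ⧸ Subgroup.center H), mul_inv_cancel_right, mul_inv_cancel]
  · rw [← QuotientGroup.eq_one_iff, QuotientGroup.mk_pow]
    by_contra hx
    have h1 : orderOf (x : H ⧸ Subgroup.center H) ∣ p ^ 2 := hcQ ▸ orderOf_dvd_natCard _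
    obtain ⟨k, hk, hk'⟩ := (Nat.dvd_prime_pow Fact.out).1 h1
    have h2 : orderOf (x : H ⧸ Subgroup.center H) = Nat.card (H ⧸ Subgroup.center H) := by
      rw [hcQ]
      interval_cases k
      · exfalso; apply hx; rw [pow_zero, orderOf_eq_one_iff] at hk'; rw [hk', one_pow]
      · exfalso; apply hx; rw [pow_one] at hk'; rw [← hk', pow_orderOf_eq_one]
      · exact hk'
    exact hncyc (isCyclic_of_orderOf_eq_card _ h2)

theorem extraspecial_of_na [Finite H] {p : ℕ} [Fact p.Prime] (hcard : Nat.card H = p ^ 3)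
    (hna : ¬ ∀ a b : H, a * b = b * a) : IsExtraspecial p H := by
  have hp1 := (Fact.out : p.Prime).one_lt
  have na := na_of_card hcard hna
  have hG : IsPGroup p H := IsPGroup.of_card hcard
  have hnt : Nontrivial H := Finite.one_lt_card_iff_nontrivial.1 (by
    rw [hcard]; exact Nat.one_lt_pow (by norm_num) hp1)
  have hcomm : commutator H = Subgroup.center H := by
    have hle : commutator H ≤ Subgroup.center H := by
      rw [commutator_eq_closure, Subgroup.closure_le]
      rintro _ ⟨x, y, rfl⟩
      exact na.comm x y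
    refine Subgroup.eq_of_le_of_card_ge hle ?_
    rw [na.cardZ]
    have h1 : Nat.card (commutator H) ∣ p := by
      rw [← na.cardZ]
      exact Subgroup.card_dvd_of_le hle
    rcases (Nat.dvd_prime Fact.out).1 h1 with h | h
    · exfalso
      have h2 : commutator H = ⊥ := Subgroup.card_eq_one.1 h
      rw [commutator_eq_bot_iff_center_eq_top] at h2
      apply hna
      intro a b
      have : b ∈ Subgroup.center H := h2 ▸ Subgroup.mem_top b
      exact (Subgroup.mem_center_iff.1 this a)
    · exact h.ge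
  have hge : Subgroup.center H ≤ frattini H := by
    rw [← hcomm]
    exact Cfsg.Agent.Lib.Helper1.pgroup_commutator_le_frattini hG
  refine ⟨⟨hG, ?_, hcomm⟩, na.cardZ⟩
  obtain ⟨k, hk, hk'⟩ := (Nat.dvd_prime_pow Fact.out).1
    (hcard ▸ Subgroup.card_subgroup_dvd_card (frattini H))
  symm
  refine Subgroup.eq_of_le_of_card_ge hge ?_
  rw [na.cardZ, hk']
  have hk3 : k ≠ 3 := by
    rintro rfl
    have h1 : frattini H = ⊤ := Subgroup.eq_top_of_card_eq _ (by rw [hk', hcard])
    have h2 : (⊥ : Subgroup H) = ⊤ := frattini_nongenerating (by rw [h1, bot_sup_eq])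
    exact bot_ne_top h2
  have hk2 : k ≠ 2 := by
    rintro rfl
    obtain ⟨x, hx⟩ : ∃ x, x ∉ frattini H := by
      by_contra hcon
      push Not at hcon
      have h1 : frattini H = ⊤ := by rw [eq_top_iff]; intro y _; exact hcon y
      rw [h1, Subgroup.card_top, hcard] at hk'
      have := Nat.pow_right_injective hp1 hk'
      omega
    have h1 : Subgroup.zpowers x ⊔ frattini H = ⊤ := by
      refine eq_top_of_lt hcard hk' (lt_of_le_of_ne le_sup_right ?_)
      intro h
      apply hx
      rw [h]
      exact (le_sup_left : Subgroup.zpowers x ≤ _) (Subgroup.mem_zpowers x)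
    exact hna (comm_of_zpowers_top (frattini_nongenerating h1))
  have : k ≤ 1 := by omega
  calc p ^ k ≤ p ^ 1 := Nat.pow_le_pow_right (by omega) this
    _ = p := pow_one p

end Cfsg.Agent.Lib.Helper27.PCu
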