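import Cfsg.Agent.Lib.Helper27.PCube2
import Cfsg.Agent.Lib.Helper9.QuatRec
import Cfsg.Agent.S0097

set_option autoImplicit false

namespace Cfsg.Agent.Lib.Helper27.PCu

open Cfsg Cfsg.Agent.Lib.Helper17

variable {H : Type*} [Group H]

theorem center_inv (β : MulAut H) : ∀ x ∈ Subgroup.center H, β x ∈ Subgroup.center H := by
  intro x hx
  rw [Subgroup.mem_center_iff] at hx ⊢
  intro g
  have := congrArg β (hx (β⁻¹ g))
  rwa [map_mul, map_mul, MulAut.apply_inv_self] at this

theorem abelian_case [Finite H] {p : ℕ} [Fact p.Prime] (hcard : Nat.card H = p ^ 3)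
    (A : Subgroup (MulAut H)) (hInn : Inn H ≤ A)
    (hcore : ∀ N : Subgroup A, N.Normal → IsPGroup p N → N.map A.subtype ≤ Inn H)
    {α : MulAut H} (hαA : α ∈ A) (hαI : α ∉ Inn H) {n : ℕ} (hαp : α ^ (p ^ n) = 1)
    (hab : ∀ a b : H, a * b = b * a) : ∀ x : H, x ^ p = 1 := by
  have hp1 := (Fact.out : p.Prime).one_lt
  by_contra hcon
  push Not at hcon
  obtain ⟨x0, hx0⟩ := hcon
  by_cases hcyc : IsCyclic H
  · have hcomm : ∀ a b : MulAut H, a * b = b * a := by
      intro a b
      apply (IsCyclic.mulAutMulEquiv H).injective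
      rw [map_mul, map_mul, mul_comm]
    have hn : (Subgroup.zpowers (⟨α, hαA⟩ : A)).Normal := by
      refine ⟨fun y hy g => ?_⟩
      have : g * y * g⁻¹ = y := by
        apply Subtype.ext
        simp only [Subgroup.coe_mul, Subgroup.coe_inv]
        rw [hcomm (g : MulAut H), mul_inv_cancel_right]
      rwa [this]
    have hpg : IsPGroup p (Subgroup.zpowers (⟨α, hαA⟩ : A)) := by
      rintro ⟨y, hy⟩
      obtain ⟨k, rfl⟩ := Subgroup.mem_zpowers_iff.1 hy
      refine ⟨n, Subtype.ext (Subtype.ext ?_)⟩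
      show (α ^ k) ^ (p ^ n) = 1
      rw [← zpow_natCast, ← zpow_mul, mul_comm, zpow_mul, zpow_natCast, hαp, one_zpow]
    exact hαI (hcore _ hn hpg ⟨_, Subgroup.mem_zpowers _, rfl⟩)
  · have hexp2 : ∀ x : H, x ^ (p ^ 2) = 1 := by
      intro x
      have h1 : orderOf x ∣ p ^ 3 := hcard ▸ orderOf_dvd_natCard x
      obtain ⟨k, hk, hk'⟩ := (Nat.dvd_prime_pow Fact.out).1 h1
      by_cases hk3 : k = 3
      · exfalso
        exact hcyc (isCyclic_of_orderOf_eq_card x (by rw [hk', hk3, hcard]))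
      · apply orderOf_dvd_iff_pow_eq_one.1
        rw [hk']
        exact pow_dvd_pow p (by omega)
    obtain ⟨f, hf⟩ : ∃ f : H →* H, ∀ x, f x = x ^ p :=
      ⟨MonoidHom.mk' (fun x => x ^ p) (fun a b => (show Commute a b from hab a b).mul_pow p),
        fun x => rfl⟩
    have hle : f.range ≤ f.ker := by
      rintro _ ⟨x, rfl⟩
      rw [MonoidHom.mem_ker, hf, hf, ← pow_mul, ← pow_two]
      exact hexp2 x
    have hmul : Nat.card f.ker * Nat.card f.range = p ^ 3 := by
      rw [← hcard, ← Subgroup.index_ker, Subgroup.card_mul_index]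
    obtain ⟨a, ha, ha'⟩ := (Nat.dvd_prime_pow Fact.out).1
      (hcard ▸ Subgroup.card_subgroup_dvd_card f.range)
    obtain ⟨b, hb, hb'⟩ := (Nat.dvd_prime_pow Fact.out).1
      (hcard ▸ Subgroup.card_subgroup_dvd_card f.ker)
    have h1 : b + a = 3 := by
      rw [ha', hb', ← pow_add] at hmul
      exact Nat.pow_right_injective hp1 hmul
    have h2 : a ≤ b := by
      have := Subgroup.card_le_of_le hle
      rw [ha', hb'] at this
      exact (Nat.pow_le_pow_iff_right hp1).1 this
    have h3 : a ≠ 0 := by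
      rintro rfl
      rw [pow_zero] at ha'
      have h4 : f.range = ⊥ := Subgroup.card_eq_one.1 ha'
      have h5 : f x0 ∈ f.range := ⟨x0, rfl⟩
      rw [h4, Subgroup.mem_bot, hf] at h5
      exact hx0 h5
    have ha1 : a = 1 := by omega
    have hb2 : b = 2 := by omega
    refine no_chain hcard A hInn hcore hαA hαI hαp f.range f.ker hle (by rw [ha', ha1, pow_one])
      (by rw [hb', hb2]) ?_ ?_
    · rintro β _ _ ⟨x, rfl⟩
      exact ⟨β x, by rw [hf, hf, map_pow]⟩
    · intro β _ x hx
      rw [MonoidHom.mem_ker, hf] at hx ⊢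
      rw [← map_pow, hx, map_one]

theorem odd_case [Finite H] {p : ℕ} [Fact p.Prime] (hcard : Nat.card H = p ^ 3)
    (A : Subgroup (MulAut H)) (hInn : Inn H ≤ A)
    (hcore : ∀ N : Subgroup A, N.Normal → IsPGroup p N → N.map A.subtype ≤ Inn H)
    {α : MulAut H} (hαA : α ∈ A) (hαI : α ∉ Inn H) {n : ℕ} (hαp : α ^ (p ^ n) = 1)
    (hna : ¬ ∀ a b : H, a * b = b * a) (hp2 : p ≠ 2) : ∀ x : H, x ^ p = 1 := by
  have hp1 := (Fact.out : p.Prime).one_lt
  have na := na_of_card hcard hna
  obtain ⟨h1, h2⟩ := Cfsg.Agent.S0097.result hp2 (extraspecial_of_na hcard hna)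
  by_cases htop : Subgroup.closure {x : H | x ^ p = 1} = ⊤
  · intro x
    exact h2 x (htop ▸ Subgroup.mem_top x)
  exfalso
  have hmul := Subgroup.card_mul_index (Subgroup.closure {x : H | x ^ p = 1})
  rw [hcard] at hmul
  obtain ⟨k, hk, hk'⟩ := (Nat.dvd_prime_pow Fact.out).1 (Dvd.intro_left _ hmul)
  have hk0 : k ≠ 0 := by
    rintro rfl
    rw [pow_zero] at hk'
    exact htop (Subgroup.index_eq_one.1 hk')
  have hk1 : k ≤ 1 := by
    rw [hk'] at h1
    exact (Nat.pow_le_pow_iff_right hp1).1 (by rwa [pow_one])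
  have hk1' : k = 1 := by omega
  rw [hk', hk1', pow_one] at hmul
  have hc2 : Nat.card (Subgroup.closure {x : H | x ^ p = 1}) = p ^ 2 := by
    have : Nat.card (Subgroup.closure {x : H | x ^ p = 1}) * p = p ^ 2 * p := by rw [hmul]; ring
    exact Nat.eq_of_mul_eq_mul_right (by positivity) this
  refine no_chain hcard A hInn hcore hαA hαI hαp (Subgroup.center H) _ ?_ na.cardZ hc2
    (fun β _ => center_inv β) ?_
  · intro z hz
    apply Subgroup.subset_closure
    have := pow_card_eq_one' (x := (⟨z, hz⟩ : Subgroup.center H))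
    rw [na.cardZ] at this
    exact congrArg Subtype.val this
  · intro β _ x hx
    induction hx using Subgroup.closure_induction with
    | mem y hy =>
      apply Subgroup.subset_closure
      show (β y) ^ p = 1
      rw [← map_pow, show y ^ p = 1 from hy, map_one]
    | one => rw [map_one]; exact one_mem _
    | mul y z _ _ ihy ihz => rw [map_mul]; exact mul_mem ihy ihz
    | inv y _ ih => rw [map_inv]; exact Subgroup.inv_mem _ ih

theorem two_case [Finite H] (hcard : Nat.card H = 2 ^ 3)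
    (A : Subgroup (MulAut H)) (hInn : Inn H ≤ A)
    (hcore : ∀ N : Subgroup A, N.Normal → IsPGroup 2 N → N.map A.subtype ≤ Inn H)
    {α : MulAut H} (hαA : α ∈ A) (hαI : α ∉ Inn H) {n : ℕ} (hαp : α ^ (2 ^ n) = 1)
    (hna : ¬ ∀ a b : H, a * b = b * a) : Nonempty (H ≃* QuaternionGroup 2) := by
  have : Fact (Nat.Prime 2) := ⟨Nat.prime_two⟩
  have na := na_of_card hcard hna
  obtain ⟨a, ha⟩ : ∃ a : H, a ^ 2 ≠ 1 := by
    by_contra hcon
    push Not at hcon
    apply hna
    intro x y
    have inv_eq : ∀ g : H, g⁻¹ = g := fun g =>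
      inv_eq_of_mul_eq_one_left (by rw [← pow_two]; exact hcon g)
    calc x * y = (x * y)⁻¹ := (inv_eq _).symm
      _ = y⁻¹ * x⁻¹ := mul_inv_rev _ _
      _ = y * x := by rw [inv_eq, inv_eq]
  have hZ2 : ∀ c ∈ Subgroup.center H, c ^ 2 = 1 := by
    intro c hc
    have := pow_card_eq_one' (x := (⟨c, hc⟩ : Subgroup.center H))
    rw [na.cardZ] at this
    exact congrArg Subtype.val this
  have hZ : ∀ c ∈ Subgroup.center H, c ≠ 1 → c = a ^ 2 := by
    intro c hc hc1
    obtain ⟨y, -, hy⟩ := (Nat.card_eq_two_iff' (1 : Subgroup.center H)).1 na.cardZ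
    have e1 := hy ⟨c, hc⟩ (fun h => hc1 (congrArg Subtype.val h))
    have e2 := hy ⟨a ^ 2, na.pow a⟩ (fun h => ha (congrArg Subtype.val h))
    exact congrArg Subtype.val (e1.trans e2.symm)
  have ha4 : a ^ 4 = 1 := by
    have := hZ2 _ (na.pow a)
    rwa [← pow_mul] at this
  have hoa : orderOf a = 2 ^ 2 :=
    orderOf_eq_prime_pow (p := 2) (n := 1) (by rwa [pow_one]) (by norm_num; exact ha4)
  have hcC : Nat.card (Subgroup.zpowers a) = 2 ^ 2 := by rw [Nat.card_zpowers, hoa]
  have hnc : ∀ b ∉ Subgroup.zpowers a, b * a ≠ a * b := by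
    intro b hb hcomm
    have hlt : Subgroup.zpowers a < Subgroup.centralizer {a} := by
      refine lt_of_le_of_ne ?_ ?_
      · rw [Subgroup.zpowers_le, Subgroup.mem_centralizer_singleton_iff]
      · intro h
        apply hb
        rw [h, Subgroup.mem_centralizer_singleton_iff]
        exact hcomm
    have htop := eq_top_of_lt hcard hcC hlt
    have hac : a ∈ Subgroup.center H := by
      rw [Subgroup.mem_center_iff]
      intro g
      have : g ∈ Subgroup.centralizer {a} := htop ▸ Subgroup.mem_top g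
      rw [Subgroup.mem_centralizer_singleton_iff] at this
      exact this
    exact ha (hZ2 a hac)
  have hconj : ∀ b ∉ Subgroup.zpowers a, b * a * b⁻¹ = a⁻¹ := by
    intro b hb
    have h1 := hZ _ (na.comm b a) (by
      intro h
      apply hnc b hb
      calc b * a = (b * a * b⁻¹ * a⁻¹) * (a * b) := by group
        _ = a * b := by rw [h, one_mul])
    have h2 : a⁻¹ = a ^ 3 := by
      rw [inv_eq_iff_mul_eq_one, ← pow_succ', ha4]
    calc b * a * b⁻¹ = (b * a * b⁻¹ * a⁻¹) * a := by group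
      _ = a ^ 3 := by rw [h1, ← pow_succ]
      _ = a⁻¹ := h2.symm
  by_cases hb : ∃ b, b ∉ Subgroup.zpowers a ∧ b ^ 2 ≠ 1
  · obtain ⟨b, hbC, hb2⟩ := hb
    exact Cfsg.Agent.Lib.Helper9.nonempty_mulEquiv_quaternion 2 a b (by rw [hoa]; norm_num) hbC
      (by rw [← pow_two]; exact hZ _ (na.pow b) hb2) (hconj b hbC) (by rw [hcard]; norm_num)
  · exfalso
    push Not at hb
    have hK2 : Subgroup.closure {x : H | x ^ 2 ≠ 1} = Subgroup.zpowers a := by
      apply le_antisymm
      · rw [Subgroup.closure_le]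
        intro x hx
        by_contra hxC
        exact hx (hb x hxC)
      · rw [Subgroup.zpowers_le]
        exact Subgroup.subset_closure ha
    refine no_chain hcard A hInn hcore hαA hαI hαp (Subgroup.center H)
      (Subgroup.closure {x : H | x ^ 2 ≠ 1}) ?_ na.cardZ (by rw [hK2, hcC])
      (fun β _ => center_inv β) ?_
    · intro c hc
      rw [hK2]
      by_cases hc1 : c = 1
      · rw [hc1]; exact one_mem _
      · rw [hZ c hc hc1]
        exact Subgroup.npow_mem_zpowers _ _
    · intro β _ x hx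
      induction hx using Subgroup.closure_induction with
      | mem y hy =>
        apply Subgroup.subset_closure
        show (β y) ^ 2 ≠ 1
        intro h
        apply hy
        apply β.injective
        rw [map_pow, h, map_one]
      | one => rw [map_one]; exact one_mem _
      | mul y z _ _ ihy ihz => rw [map_mul]; exact mul_mem ihy ihz
      | inv y _ ih => rw [map_inv]; exact Subgroup.inv_mem _ ih

theorem main [Finite H] {p : ℕ} [Fact p.Prime] (hcard : Nat.card H = p ^ 3)
    (A : Subgroup (MulAut H)) (hInn : Inn H ≤ A)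
    (hcore : ∀ N : Subgroup A, N.Normal → IsPGroup p N → N.map A.subtype ≤ Inn H)
    {α : MulAut H} (hαA : α ∈ A) (hαI : α ∉ Inn H) {n : ℕ} (hαp : α ^ (p ^ n) = 1) :
    ((∀ a b : H, a * b = b * a) ∧ ∀ x : H, x ^ p = 1) ∨
      (Odd p ∧ IsExtraspecial p H ∧ ∀ x : H, x ^ p = 1) ∨
      (p = 2 ∧ Nonempty (H ≃* QuaternionGroup 2)) := by
  by_cases hab : ∀ a b : H, a * b = b * a
  · exact Or.inl ⟨hab, abelian_case hcard A hInn hcore hαA hαI hαp hab⟩
  by_cases hp2 : p = 2
  · subst hp2
    exact Or.inr (Or.inr ⟨rfl, two_case hcard A hInn hcore hαA hαI hαp hab⟩)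
  · exact Or.inr (Or.inl ⟨(Fact.out : p.Prime).odd_of_ne_two hp2, extraspecial_of_na hcard hab,
      odd_case hcard A hInn hcore hαA hαI hαp hab hp2⟩)

end Cfsg.Agent.Lib.Helper27.PCu
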