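import Cfsg.Agent.Lib.Helper27.SpeTransv2
import Cfsg.Agent.Lib.Helper4.SL2Rec

set_option autoImplicit false

namespace Cfsg.Agent.Lib.Helper27.PSq

open Cfsg Cfsg.Agent.Lib.Helper17 Cfsg.Agent.Lib.Helper27.SpeT Cfsg.Agent.Lib.Helper4.SL2R

variable {H : Type*} [Group H]

theorem mem_zpowers_swap {p : ℕ} [Fact p.Prime] {e x : H} (he : e ^ p = 1)
    (hx : x ∈ Subgroup.zpowers e) (hx1 : x ≠ 1) : e ∈ Subgroup.zpowers x := by
  have he1 : e ≠ 1 := by
    rintro rfl
    rw [Subgroup.zpowers_one_eq_bot, Subgroup.mem_bot] at hx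
    exact hx1 hx
  have hcardz : Nat.card (Subgroup.zpowers e) = p := by
    rw [Nat.card_zpowers]; exact orderOf_eq_prime he he1
  obtain ⟨n, hn⟩ := Subgroup.mem_zpowers_iff.1 (mem_zpowers_of_prime_card
    (g := (⟨_, hx⟩ : Subgroup.zpowers e)) (g' := ⟨e, Subgroup.mem_zpowers e⟩) hcardz
    (fun h => hx1 (congrArg Subtype.val h)))
  exact Subgroup.mem_zpowers_iff.2 ⟨n, congrArg Subtype.val hn⟩

theorem coord_top {p : ℕ} [Fact p.Prime] (hcard : Nat.card H = p ^ 2)
    (hab : ∀ a b : H, a * b = b * a) (hexp : ∀ x : H, x ^ p = 1) {z e : H} (hz : z ≠ 1)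
    (he : e ∉ Subgroup.zpowers z) : Coord p (⊤ : Subgroup H) z e where
  h1 := Subgroup.mem_top _
  h2 := Subgroup.mem_top _
  comm := hab _ _
  p1 := hexp _
  p2 := hexp _
  ne1 := hz
  ne2 := fun h => he (h ▸ one_mem _)
  ind := by
    rw [eq_bot_iff]
    rintro x ⟨h1, h2⟩
    rw [Subgroup.mem_bot]
    by_contra hx
    have h3 := mem_zpowers_swap (hexp e) h2 hx
    exact he ((Subgroup.zpowers_le.2 h1) h3)
  card := by rw [Subgroup.card_top, hcard]

theorem mem_TV_of_pow {p : ℕ} [Fact p.Prime] [Finite H] (hcard : Nat.card H = p ^ 2)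
    (hab : ∀ a b : H, a * b = b * a) (hexp : ∀ x : H, x ^ p = 1)
    {X : Type*} [Group X] (ρ : X →* MulAut H) {γ : X} (hγ : γ ^ p = 1) {z : H} (hz : z ≠ 1)
    (hfix : ρ γ z = z) : γ ∈ TV ρ z := by
  refine ⟨hfix, fun e => ?_⟩
  by_cases he : e ∈ Subgroup.zpowers z
  · obtain ⟨k, rfl⟩ := Subgroup.mem_zpowers_iff.1 he
    exact ⟨0, by rw [map_zpow, hfix, zpow_zero, mul_one]⟩
  have C := coord_top hcard hab hexp hz he
  obtain ⟨⟨i, j⟩, hij⟩ := exists_phi C (Subgroup.mem_top (ρ γ e))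
  have hij' : ρ γ e = z ^ i.val * e ^ j.val := hij.symm
  have hind : ∀ n : ℕ, ∃ s : ℕ, ρ (γ ^ n) e = z ^ s * e ^ (j.val ^ n) := by
    intro n
    induction n with
    | zero => exact ⟨0, by simp⟩
    | succ n ih =>
      obtain ⟨s, hs⟩ := ih
      refine ⟨s + i.val * j.val ^ n, ?_⟩
      rw [pow_succ', map_mul, MulAut.mul_apply, hs, map_mul, map_pow, map_pow, hfix, hij',
        (show Commute (z ^ i.val) (e ^ j.val) from hab _ _).mul_pow, ← pow_mul, ← pow_mul,
        pow_add, mul_assoc, pow_succ']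
  obtain ⟨s, hs⟩ := hind p
  rw [hγ, map_one, MulAut.one_apply] at hs
  have h1 : e ^ (j.val ^ p) = e ^ j.val := by
    rw [pow_eq_pow_iff_modEq, orderOf_eq_prime (hexp e) C.ne2, ← ZMod.natCast_eq_natCast_iff]
    push_cast
    rw [ZMod.natCast_zmod_val, ZMod.pow_card]
  have h2 : e ^ j.val * e⁻¹ ∈ Subgroup.zpowers z ⊓ Subgroup.zpowers e := by
    refine ⟨?_, mul_mem (Subgroup.npow_mem_zpowers _ _)
      (Subgroup.inv_mem _ (Subgroup.mem_zpowers e))⟩
    have : e ^ j.val * e⁻¹ = (z ^ s)⁻¹ := by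
      rw [← h1]
      nth_rewrite 2 [hs]
      rw [mul_inv_rev, mul_inv_cancel_left]
    rw [this]
    exact Subgroup.inv_mem _ (Subgroup.npow_mem_zpowers _ _)
  rw [C.ind, Subgroup.mem_bot, mul_inv_eq_one] at h2
  exact ⟨i.val, by rw [hij', h2, zpow_natCast, hab]⟩

theorem exp_of_core [Finite H] {p : ℕ} [Fact p.Prime] (hcard : Nat.card H = p ^ 2)
    (A : Subgroup (MulAut H)) (hO : pCore p A = ⊥) {α : A} (hα : orderOf α = p) :
    ∀ x : H, x ^ p = 1 := by
  by_contra hcon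
  push Not at hcon
  obtain ⟨x, hx⟩ := hcon
  have h1 : orderOf x ∣ p ^ 2 := hcard ▸ orderOf_dvd_natCard x
  obtain ⟨k, hk, hk'⟩ := (Nat.dvd_prime_pow Fact.out).1 h1
  have h2 : orderOf x = Nat.card H := by
    rw [hcard]
    interval_cases k
    · exfalso; apply hx; rw [pow_zero, orderOf_eq_one_iff] at hk'; rw [hk', one_pow]
    · exfalso; apply hx; rw [pow_one] at hk'; rw [← hk', pow_orderOf_eq_one]
    · exact hk'
  have hcyc : IsCyclic H := isCyclic_of_orderOf_eq_card x h2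
  have hcomm : ∀ a b : MulAut H, a * b = b * a := by
    intro a b
    apply (IsCyclic.mulAutMulEquiv H).injective
    rw [map_mul, map_mul, mul_comm]
  have hn : (Subgroup.zpowers α).Normal := by
    refine ⟨fun y hy g => ?_⟩
    have : g * y * g⁻¹ = y := by
      apply Subtype.ext
      simp only [Subgroup.coe_mul, Subgroup.coe_inv]
      rw [hcomm (g : MulAut H), mul_inv_cancel_right]
    rwa [this]
  have hpg : IsPGroup p (Subgroup.zpowers α) :=
    IsPGroup.of_card (n := 1) (by rw [Nat.card_zpowers, hα, pow_one])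
  have h3 := le_pCore hn hpg (Subgroup.mem_zpowers α)
  rw [hO, Subgroup.mem_bot] at h3
  rw [h3, orderOf_one] at hα
  exact (Fact.out : p.Prime).one_lt.ne hα

theorem zpow_eq_pow_val {p : ℕ} [Fact p.Prime] {z : H} (hz : z ^ p = 1) (k : ℤ) :
    z ^ k = z ^ ((k : ZMod p).val) := by
  rw [← zpow_natCast, ZMod.val_intCast]
  exact zpow_eq_zpow_emod k (by rw [zpow_natCast]; exact hz)

theorem eq_one_of_fix [Finite H] {p : ℕ} [Fact p.Prime] {z w : H}
    (C : Coord p (⊤ : Subgroup H) z w) (γ : MulAut H) (h1 : γ z = z) (h2 : γ w = w) : γ = 1 := by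
  ext x
  obtain ⟨u, rfl⟩ := exists_phi C (Subgroup.mem_top x)
  unfold phi
  rw [map_mul, map_pow, map_pow, h1, h2, MulAut.one_apply]

theorem sl2_of_pair [Finite H] {p : ℕ} [Fact p.Prime] {z w : H}
    (C : Coord p (⊤ : Subgroup H) z w) (A : Subgroup (MulAut H)) (α β : A) {a b : ZMod p}
    (ha : a ≠ 0) (hb : b ≠ 0)
    (a1 : (α : MulAut H) z = z) (a2 : (α : MulAut H) w = z ^ a.val * w)
    (b1 : (β : MulAut H) z = z * w ^ b.val) (b2 : (β : MulAut H) w = w) :
    Nonempty (Subgroup.closure ({α, β} : Set A) ≃*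
      Matrix.SpecialLinearGroup (Fin 2) (ZMod p)) := by
  have hfin : Finite (H ⋊[MonoidHom.id (MulAut H)] MulAut H) :=
    Finite.of_equiv _ SemidirectProduct.equivProd.symm
  obtain ⟨il, hil⟩ : ∃ il : H →* H ⋊[MonoidHom.id (MulAut H)] MulAut H,
      il = SemidirectProduct.inl := ⟨_, rfl⟩
  obtain ⟨ir, hir⟩ : ∃ ir : MulAut H →* H ⋊[MonoidHom.id (MulAut H)] MulAut H,
      ir = SemidirectProduct.inr := ⟨_, rfl⟩
  have hili : Function.Injective il := hil ▸ SemidirectProduct.inl_injective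
  have hiri : Function.Injective ir := hir ▸ SemidirectProduct.inr_injective
  have hconj : ∀ (γ : MulAut H) (h : H), ir γ * il h * (ir γ)⁻¹ = il (γ h) := by
    intro γ h
    rw [← map_inv, hil, hir]
    exact (SemidirectProduct.inl_aut γ h).symm
  have hone : (1 : ZMod p).val = 1 := ZMod.val_one'' (Fact.out : p.Prime).ne_one
  have C' : Coord p il.range (il z) (il w) :=
    { h1 := ⟨_, rfl⟩
      h2 := ⟨_, rfl⟩
      comm := by rw [← map_mul, ← map_mul, C.comm]
      p1 := by rw [← map_pow, C.p1, map_one]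
      p2 := by rw [← map_pow, C.p2, map_one]
      ne1 := fun h => C.ne1 (hili (by rw [h, map_one]))
      ne2 := fun h => C.ne2 (hili (by rw [h, map_one]))
      ind := by
        rw [eq_bot_iff]
        rintro x ⟨h1, h2⟩
        obtain ⟨i, rfl⟩ := Subgroup.mem_zpowers_iff.1 h1
        obtain ⟨j, hj⟩ := Subgroup.mem_zpowers_iff.1 h2
        rw [← map_zpow, ← map_zpow] at hj
        have h3 : z ^ i ∈ Subgroup.zpowers z ⊓ Subgroup.zpowers w :=
          ⟨Subgroup.zpow_mem_zpowers _ _, by rw [← hili hj]; exact Subgroup.zpow_mem_zpowers _ _⟩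
        rw [C.ind, Subgroup.mem_bot] at h3
        rw [Subgroup.mem_bot, ← map_zpow, h3, map_one]
      card := by
        rw [← Nat.card_congr (MonoidHom.ofInjective hili).toEquiv, ← C.card, Subgroup.card_top] }
  have hnorm : ∀ γ : MulAut H, ir γ ∈ Subgroup.normalizer (il.range : Set _) := by
    intro γ
    rw [Subgroup.mem_normalizer_iff]
    intro x
    constructor
    · rintro ⟨h, rfl⟩
      exact ⟨_, (hconj γ h).symm⟩
    · rintro ⟨h, hh⟩
      refine ⟨γ⁻¹ h, ?_⟩
      rw [← hconj, hh, map_inv]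
      group
  obtain ⟨e, -⟩ := Cfsg.Agent.Lib.Helper4.SL2R.main C' (hnorm α) (hnorm β) ha hb
    (by rw [hconj, a1])
    (by rw [hconj, a2]; unfold phi; rw [map_mul, map_pow, hone, pow_one])
    (by rw [hconj, b1]; unfold phi; rw [map_mul, map_pow, hone, pow_one])
    (by rw [hconj, b2])
    (by
      rw [eq_bot_iff]
      rintro x ⟨h1, h2⟩
      have h3 : Subgroup.closure ({ir α, ir β} : Set _) ≤ ir.range := by
        rw [Subgroup.closure_le]
        rintro y (rfl | rfl)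
        exacts [⟨_, rfl⟩, ⟨_, rfl⟩]
      obtain ⟨γ, rfl⟩ := h3 h1
      have h4 : γ = 1 := by
        ext h
        apply hili
        rw [← hconj, MulAut.one_apply]
        have := (Subgroup.mem_centralizer_iff.1 h2) (il h) ⟨_, rfl⟩
        rw [← this, mul_inv_cancel_right]
      rw [h4, map_one]
      exact one_mem _)
  have hf : Function.Injective (ir.comp A.subtype) := hiri.comp (Subgroup.subtype_injective _)
  have hmap : (Subgroup.closure ({α, β} : Set A)).map (ir.comp A.subtype) =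
      Subgroup.closure ({ir α, ir β} : Set _) := by
    rw [MonoidHom.map_closure, Set.image_pair]
    rfl
  exact ⟨((Subgroup.equivMapOfInjective _ _ hf).trans (MulEquiv.subgroupCongr hmap)).trans e⟩

theorem main [Finite H] {p : ℕ} [Fact p.Prime] (hcard : Nat.card H = p ^ 2)
    (A : Subgroup (MulAut H)) (hp : p ∣ Nat.card A) (hO : pCore p A = ⊥) :
    (∀ x : H, x ^ p = 1) ∧
      ∃ K : Subgroup A, Nonempty (K ≃* Matrix.SpecialLinearGroup (Fin 2) (ZMod p)) := by
  classical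
  have hab : ∀ a b : H, a * b = b * a := IsPGroup.commutative_of_card_eq_prime_sq hcard
  obtain ⟨α, hα⟩ := exists_prime_orderOf_dvd_card' p hp
  have hexp := exp_of_core hcard A hO hα
  refine ⟨hexp, ?_⟩
  have hαp : α ^ p = 1 := by rw [← hα, pow_orderOf_eq_one]
  have hα1 : α ≠ 1 := by
    rintro rfl
    rw [orderOf_one] at hα
    exact (Fact.out : p.Prime).one_lt.ne hα
  obtain ⟨z, hz, hfix⟩ : ∃ z : H, z ≠ 1 ∧ (α : MulAut H) z = z := by
    have hpg : IsPGroup p (Subgroup.zpowers (α : MulAut H)) :=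
      IsPGroup.of_card (n := 1) (by rw [Nat.card_zpowers, Subgroup.orderOf_coe, hα, pow_one])
    obtain ⟨b, hb, hne⟩ := hpg.exists_fixed_point_of_prime_dvd_card_of_fixed_point H
      (by rw [hcard]; exact dvd_pow_self p two_ne_zero) (a := 1) (by
        intro g
        show (g : MulAut H) 1 = 1
        exact map_one _)
    exact ⟨b, hne.symm, hb ⟨_, Subgroup.mem_zpowers _⟩⟩
  have hαTV : α ∈ TV A.subtype z := mem_TV_of_pow hcard hab hexp A.subtype hαp hz hfix
  obtain ⟨g, hg⟩ : ∃ g : A, (g : MulAut H) z ∉ Subgroup.zpowers z := by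
    by_contra hcon
    push Not at hcon
    have hnormal : (TV A.subtype z).Normal := by
      refine ⟨fun y hy g => ?_⟩
      refine TV_le (hcon g) ?_ (TV_conj hy g)
      obtain ⟨i, hi⟩ := Subgroup.mem_zpowers_iff.1 (hcon g⁻¹)
      refine Subgroup.mem_zpowers_iff.2 ⟨i, ?_⟩
      show ((g : MulAut H) z) ^ i = z
      rw [← map_zpow, hi, Subgroup.coe_inv, MulAut.apply_inv_self]
    have h3 := le_pCore hnormal (TV_isPGroup (Subgroup.subtype_injective _) (hexp z)) hαTV
    rw [hO, Subgroup.mem_bot] at h3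
    exact hα1 h3
  obtain ⟨w, hw⟩ : ∃ w, w = (g : MulAut H) z := ⟨_, rfl⟩
  obtain ⟨β, hβ⟩ : ∃ β, β = g * α * g⁻¹ := ⟨_, rfl⟩
  have hβTV : β ∈ TV A.subtype w := by rw [hβ, hw]; exact TV_conj hαTV g
  have hβ1 : β ≠ 1 := by
    rw [hβ]
    intro h
    exact hα1 (conj_eq_one_iff.1 h)
  rw [← hw] at hg
  have C := coord_top hcard hab hexp hz hg
  obtain ⟨k, hk⟩ := hαTV.2 w
  obtain ⟨l, hl⟩ := hβTV.2 z
  have hk' : (α : MulAut H) w = z ^ ((k : ZMod p).val) * w := by
    rw [← zpow_eq_pow_val (hexp z), hab]; exact hk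
  have hl' : (β : MulAut H) z = z * w ^ ((l : ZMod p).val) := by
    rw [← zpow_eq_pow_val (hexp w)]; exact hl
  refine ⟨Subgroup.closure {α, β}, sl2_of_pair C A α β (a := (k : ZMod p)) (b := (l : ZMod p))
    ?_ ?_ hfix hk' hl' hβTV.1⟩
  · intro h0
    rw [h0, ZMod.val_zero, pow_zero, one_mul] at hk'
    exact hα1 (Subtype.ext (eq_one_of_fix C _ hfix hk'))
  · intro h0
    rw [h0, ZMod.val_zero, pow_zero, mul_one] at hl'
    exact hβ1 (Subtype.ext (eq_one_of_fix C _ hl' hβTV.1))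

end Cfsg.Agent.Lib.Helper27.PSq
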