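import Cfsg.Agent.Lib.Helper27.PCube

set_option autoImplicit false

namespace Cfsg.Agent.Lib.Helper27.RkT

open Cfsg Cfsg.Agent.Lib.Helper17 Cfsg.Agent.Lib.Helper27.PCu

variable {H : Type*} [CommGroup H]

/-- the subgroup of `p^i`-th powers -/
def mho (H : Type*) [CommGroup H] (p i : ℕ) : Subgroup H := (powMonoidHom (p ^ i) : H →* H).range

/-- the subgroup of elements killed by `p^i` -/
def om (H : Type*) [CommGroup H] (p i : ℕ) : Subgroup H := (powMonoidHom (p ^ i) : H →* H).ker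

theorem mem_mho {p i : ℕ} {x : H} : x ∈ mho H p i ↔ ∃ y : H, y ^ (p ^ i) = x := Iff.rfl

theorem mem_om {p i : ℕ} {x : H} : x ∈ om H p i ↔ x ^ (p ^ i) = 1 := Iff.rfl

theorem mho_inv {p i : ℕ} (β : MulAut H) : ∀ x ∈ mho H p i, β x ∈ mho H p i := by
  rintro _ ⟨y, rfl⟩
  exact ⟨β y, by simp⟩

theorem om_inv {p i : ℕ} (β : MulAut H) : ∀ x ∈ om H p i, β x ∈ om H p i := by
  intro x hx
  rw [mem_om] at hx ⊢
  rw [← map_pow, hx, map_one]

theorem card_om_mul_mho [Finite H] (p i : ℕ) :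
    Nat.card (om H p i) * Nat.card (mho H p i) = Nat.card H := by
  unfold om mho
  rw [← Subgroup.index_ker, Subgroup.card_mul_index]

theorem pow_mem_mho_succ {p i : ℕ} {x : H} (hx : x ∈ mho H p i) : x ^ p ∈ mho H p (i + 1) := by
  obtain ⟨y, rfl⟩ := mem_mho.1 hx
  exact mem_mho.2 ⟨y, by rw [pow_succ, pow_mul]⟩

theorem mho_le_one {p i : ℕ} (hi : 1 ≤ i) : mho H p i ≤ mho H p 1 := by
  intro x hx
  obtain ⟨y, rfl⟩ := mem_mho.1 hx
  refine mem_mho.2 ⟨y ^ (p ^ (i - 1)), ?_⟩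
  rw [← pow_mul, ← pow_add]
  congr 2
  omega

theorem pow_step {p : ℕ} {β : MulAut H} {K L : Subgroup H} (hK : ∀ x ∈ K, β x ∈ K)
    (h1 : ∀ x, x⁻¹ * β x ∈ L) (h2 : ∀ u ∈ L, u⁻¹ * β u ∈ K) (h3 : ∀ u ∈ L, u ^ p ∈ K) :
    ∀ x, x⁻¹ * (β ^ p) x ∈ K := by
  intro x
  obtain ⟨u, hu⟩ : ∃ u, u = x⁻¹ * β x := ⟨_, rfl⟩
  obtain ⟨v, hv⟩ : ∃ v, v = u⁻¹ * β u := ⟨_, rfl⟩
  have huL : u ∈ L := hu ▸ h1 x
  have hvK : v ∈ K := hv ▸ h2 u huL
  have hbx : β x = x * u := by rw [hu, mul_inv_cancel_left]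
  have hbu : β u = u * v := by rw [hv, mul_inv_cancel_left]
  have key : ∀ j : ℕ, ∃ w ∈ K, (β ^ j) x = x * u ^ j * w := by
    intro j
    induction j with
    | zero => exact ⟨1, one_mem _, by simp⟩
    | succ j ih =>
      obtain ⟨w, hw, e⟩ := ih
      refine ⟨v ^ j * β w, mul_mem (pow_mem hvK j) (hK w hw), ?_⟩
      rw [pow_succ', MulAut.mul_apply, e, map_mul, map_mul, map_pow, hbx, hbu, mul_pow, pow_succ]
      ac_rfl
  obtain ⟨w, hw, e⟩ := key p
  rw [e, mul_assoc, inv_mul_cancel_left]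
  exact mul_mem (h3 u huL) hw

theorem mho_pow_step {p i : ℕ} (hi : 1 ≤ i) {β : MulAut H} (h : ∀ x, x⁻¹ * β x ∈ mho H p i) :
    ∀ x, x⁻¹ * (β ^ p) x ∈ mho H p (i + 1) := by
  refine pow_step (mho_inv β) h ?_ (fun u hu => pow_mem_mho_succ hu)
  intro u hu
  obtain ⟨y, rfl⟩ := mem_mho.1 hu
  obtain ⟨v, hv⟩ := mem_mho.1 (mho_le_one hi (h y))
  refine mem_mho.2 ⟨v, ?_⟩
  rw [map_pow, ← inv_pow, ← mul_pow, ← hv, ← pow_mul, ← pow_add, add_comm]

theorem mho_pow_iter {p : ℕ} {β : MulAut H} (h : ∀ x, x⁻¹ * β x ∈ mho H p 1) (m : ℕ) :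
    ∀ x, x⁻¹ * (β ^ (p ^ m)) x ∈ mho H p (m + 1) := by
  induction m with
  | zero => simpa using h
  | succ m ih =>
    rw [pow_succ, pow_mul]
    exact mho_pow_step (by omega) ih

theorem idx_step [Finite H] {p : ℕ} [Fact p.Prime] (hP : IsPGroup p H) {K K' : Subgroup H}
    (h : K < K') : p * K'.index ≤ K.index := by
  rw [← Subgroup.relIndex_mul_index h.le]
  apply Nat.mul_le_mul_right
  obtain ⟨j, hj⟩ := (hP.to_subgroup K').index (K.subgroupOf K')
  have hj' : K.relIndex K' = p ^ j := hj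
  rw [hj']
  have hj0 : j ≠ 0 := by
    rintro rfl
    rw [pow_zero, Subgroup.relIndex_eq_one] at hj'
    exact absurd hj' (not_le_of_gt h)
  calc p = p ^ 1 := (pow_one p).symm
    _ ≤ p ^ j := Nat.pow_le_pow_right (Fact.out : p.Prime).pos (by omega)

theorem two_gen [Finite H] {p : ℕ} [Fact p.Prime] (hP : IsPGroup p H)
    (hrk : (frattini H).index ≤ p ^ 2) : ∃ a b : H, ∀ x : H, ∃ i j : ℕ, x = a ^ i * b ^ j := by
  have hp0 := (Fact.out : p.Prime).pos
  obtain ⟨a, ha⟩ : ∃ a : H, (Subgroup.zpowers a ⊔ frattini H).index ≤ p := by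
    by_cases h : ∃ a, a ∉ frattini H
    · obtain ⟨a, ha⟩ := h
      refine ⟨a, ?_⟩
      have hlt : frattini H < Subgroup.zpowers a ⊔ frattini H :=
        lt_of_le_of_ne le_sup_right (fun e => ha (by
          rw [e]; exact (le_sup_left : Subgroup.zpowers a ≤ _) (Subgroup.mem_zpowers a)))
      have h1 := (idx_step hP hlt).trans hrk
      rw [pow_two] at h1
      exact Nat.le_of_mul_le_mul_left h1 hp0
    · push Not at h
      refine ⟨1, ?_⟩
      have : frattini H = ⊤ := by rw [eq_top_iff]; intro y _; exact h y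
      rw [this, sup_top_eq, Subgroup.index_top]
      exact hp0
  obtain ⟨b, hb⟩ : ∃ b : H, Subgroup.zpowers b ⊔ (Subgroup.zpowers a ⊔ frattini H) = ⊤ := by
    by_cases h : ∃ b, b ∉ Subgroup.zpowers a ⊔ frattini H
    · obtain ⟨b, hb⟩ := h
      refine ⟨b, ?_⟩
      have hlt : Subgroup.zpowers a ⊔ frattini H <
          Subgroup.zpowers b ⊔ (Subgroup.zpowers a ⊔ frattini H) :=
        lt_of_le_of_ne le_sup_right (fun e => hb (by
          rw [e]; exact (le_sup_left : Subgroup.zpowers b ≤ _) (Subgroup.mem_zpowers b)))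
      have h1 := (idx_step hP hlt).trans ha
      have h2 : (Subgroup.zpowers b ⊔ (Subgroup.zpowers a ⊔ frattini H)).index ≤ 1 :=
        Nat.le_of_mul_le_mul_left (by rwa [mul_one]) hp0
      have h3 : (Subgroup.zpowers b ⊔ (Subgroup.zpowers a ⊔ frattini H)).index ≠ 0 :=
        Subgroup.index_ne_zero_of_finite
      exact Subgroup.index_eq_one.1 (by omega)
    · push Not at h
      refine ⟨1, ?_⟩
      have : Subgroup.zpowers a ⊔ frattini H = ⊤ := by rw [eq_top_iff]; intro y _; exact h y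
      rw [this, sup_top_eq]
  have htop : Subgroup.zpowers a ⊔ Subgroup.zpowers b = ⊤ := by
    apply frattini_nongenerating
    rw [← hb, sup_comm (Subgroup.zpowers a) (Subgroup.zpowers b), sup_assoc]
  refine ⟨a, b, fun x => ?_⟩
  have hx : x ∈ Subgroup.zpowers a ⊔ Subgroup.zpowers b := htop ▸ Subgroup.mem_top x
  obtain ⟨y, hy, z, hz, rfl⟩ := Subgroup.mem_sup.1 hx
  obtain ⟨i, rfl⟩ := Submonoid.mem_powers_iff _ _ |>.1 (mem_powers_iff_mem_zpowers.2 hy)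
  obtain ⟨j, rfl⟩ := Submonoid.mem_powers_iff _ _ |>.1 (mem_powers_iff_mem_zpowers.2 hz)
  exact ⟨i, j, rfl⟩

end Cfsg.Agent.Lib.Helper27.RkT
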