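import Cfsg.Agent.Lib.Helper27.RankTwo

set_option autoImplicit false

namespace Cfsg.Agent.Lib.Helper27.RkT

open Cfsg Cfsg.Agent.Lib.Helper17 Cfsg.Agent.Lib.Helper27.PCu

variable {H : Type*} [CommGroup H]

theorem T_trivial [Finite H] {p : ℕ} [Fact p.Prime] (hP : IsPGroup p H) (A : Subgroup (MulAut H))
    (hO : pCore p A = ⊥) : ∀ β ∈ A, (∀ x, x⁻¹ * (β : MulAut H) x ∈ mho H p 1) → β = 1 := by
  intro β hβ h
  obtain ⟨n, hn⟩ := hP.exists_card_eq
  have i1 : ∀ γ ∈ A, ∀ x ∈ mho H p 1, (γ : MulAut H) x ∈ mho H p 1 := fun γ _ => mho_inv γ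
  have i3 : ∀ γ ∈ A, ∀ x ∈ (⊤ : Subgroup H), (γ : MulAut H) x ∈ (⊤ : Subgroup H) :=
    fun _ _ _ _ => Subgroup.mem_top _
  have hN := CS_normal A (mho H p 1) ⊤ i1 i3
  have hTp : IsPGroup p (CS A (mho H p 1) ⊤ i1 i3) := by
    rintro ⟨τ, hτ⟩
    refine ⟨n, Subtype.ext (Subtype.ext ?_)⟩
    show (τ : MulAut H) ^ (p ^ n) = 1
    ext x
    have h1 := mho_pow_iter (fun x => hτ x (Subgroup.mem_top x)) n x
    obtain ⟨y, hy⟩ := mem_mho.1 h1
    have hy1 : y ^ (p ^ (n + 1)) = 1 := by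
      rw [pow_succ, pow_mul, ← hn, pow_card_eq_one', one_pow]
    rw [hy1] at hy
    rw [MulAut.one_apply]
    exact (inv_mul_eq_one.1 hy.symm).symm
  have h3 := le_pCore hN hTp (show (⟨β, hβ⟩ : A) ∈ CS A (mho H p 1) ⊤ i1 i3 from fun x _ => h x)
  rw [hO, Subgroup.mem_bot] at h3
  exact congrArg Subtype.val h3

theorem chain2_trivial [Finite H] {p : ℕ} [Fact p.Prime] (hP : IsPGroup p H)
    (A : Subgroup (MulAut H)) (hO : pCore p A = ⊥) (M : Subgroup H)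
    (hM : ∀ γ ∈ A, ∀ x ∈ M, (γ : MulAut H) x ∈ M) :
    ∀ β ∈ A, (∀ x, x⁻¹ * (β : MulAut H) x ∈ M) → (∀ u ∈ M, u⁻¹ * (β : MulAut H) u ∈ mho H p 1) →
      β = 1 := by
  intro β hβ h1 h2
  have i1 : ∀ γ ∈ A, ∀ x ∈ mho H p 1, (γ : MulAut H) x ∈ mho H p 1 := fun γ _ => mho_inv γ
  have i3 : ∀ γ ∈ A, ∀ x ∈ (⊤ : Subgroup H), (γ : MulAut H) x ∈ (⊤ : Subgroup H) :=
    fun _ _ _ _ => Subgroup.mem_top _
  have m1 := CS_normal A M ⊤ hM i3
  have m2 := CS_normal A (mho H p 1) M i1 hM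
  have hN : (CS A M ⊤ hM i3 ⊓ CS A (mho H p 1) M i1 hM).Normal := inferInstance
  have hTp : IsPGroup p ↥(CS A M ⊤ hM i3 ⊓ CS A (mho H p 1) M i1 hM) := by
    rintro ⟨τ, t1, t2⟩
    refine ⟨1, Subtype.ext (Subtype.ext ?_)⟩
    show (τ : MulAut H) ^ (p ^ 1) = 1
    rw [pow_one]
    refine T_trivial hP A hO _ (Subgroup.pow_mem _ τ.2 p) ?_
    exact pow_step (mho_inv _) (fun x => t1 x (Subgroup.mem_top x)) t2
      (fun u _ => mem_mho.2 ⟨u, by rw [pow_one]⟩)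
  have h3 := le_pCore hN hTp
    (show (⟨β, hβ⟩ : A) ∈ CS A M ⊤ hM i3 ⊓ CS A (mho H p 1) M i1 hM from ⟨fun x _ => h1 x, h2⟩)
  rw [hO, Subgroup.mem_bot] at h3
  exact congrArg Subtype.val h3

theorem idx_eq [Finite H] {p : ℕ} [Fact p.Prime] (hP : IsPGroup p H) (A : Subgroup (MulAut H))
    (hO : pCore p A = ⊥) {α : MulAut H} (hαA : α ∈ A) (hα1 : α ≠ 1) {n : ℕ}
    (hαp : α ^ (p ^ n) = 1) (hle : (mho H p 1).index ≤ p ^ 2) : (mho H p 1).index = p ^ 2 := by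
  have hp1 := (Fact.out : p.Prime).one_lt
  obtain ⟨j, hj⟩ := hP.index (mho H p 1)
  have hj2 : j ≤ 2 := by
    rw [hj] at hle
    exact (Nat.pow_le_pow_iff_right hp1).1 hle
  have hc := Subgroup.card_mul_index (mho H p 1)
  interval_cases j
  · exfalso
    rw [pow_zero, Subgroup.index_eq_one] at hj
    exact hα1 (T_trivial hP A hO α hαA (fun x => hj ▸ Subgroup.mem_top _))
  · exfalso
    rw [pow_one] at hj
    have hn : (mho H p 1).Normal := inferInstance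
    exact hα1 (T_trivial hP A hO α hαA (fun x => sec_trivial hαp le_top (mho_inv α)
      (fun _ _ => Subgroup.mem_top _) (by rw [Subgroup.card_top, ← hc, hj, mul_comm]) x
      (Subgroup.mem_top x)))
  · exact hj

theorem mid [Finite H] {p : ℕ} [Fact p.Prime] (hP : IsPGroup p H) {M : Subgroup H}
    (h1 : mho H p 1 < M) (h2 : M < ⊤) (hidx : (mho H p 1).index = p ^ 2) :
    Nat.card M = p * Nat.card (mho H p 1) ∧ Nat.card H = p * Nat.card M := by
  have hp0 := (Fact.out : p.Prime).pos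
  have e1 := idx_step hP h1
  have e2 := idx_step hP h2
  rw [hidx, pow_two] at e1
  rw [Subgroup.index_top, mul_one] at e2
  have e3 : M.index = p := le_antisymm (Nat.le_of_mul_le_mul_left e1 hp0) e2
  have c1 := Subgroup.card_mul_index M
  have c2 := Subgroup.card_mul_index (mho H p 1)
  rw [e3] at c1
  rw [hidx] at c2
  refine ⟨?_, by rw [← c1, mul_comm]⟩
  have : Nat.card M * p = (p * Nat.card (mho H p 1)) * p := by rw [c1, ← c2]; ring
  exact Nat.eq_of_mul_eq_mul_right hp0 this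

theorem irr [Finite H] {p : ℕ} [Fact p.Prime] (hP : IsPGroup p H) (A : Subgroup (MulAut H))
    (hO : pCore p A = ⊥) {α : MulAut H} (hαA : α ∈ A) (hα1 : α ≠ 1) {n : ℕ}
    (hαp : α ^ (p ^ n) = 1) (hidx : (mho H p 1).index = p ^ 2) (M : Subgroup H)
    (hM : ∀ γ ∈ A, ∀ x ∈ M, (γ : MulAut H) x ∈ M) (hle : mho H p 1 ≤ M) (hne : M ≠ ⊤) :
    M = mho H p 1 := by
  by_contra hcon
  obtain ⟨c1, c2⟩ := mid hP (lt_of_le_of_ne hle (Ne.symm hcon)) (lt_top_iff_ne_top.2 hne) hidx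
  have n1 : (mho H p 1).Normal := inferInstance
  have n2 : M.Normal := inferInstance
  apply hα1
  refine chain2_trivial hP A hO M hM α hαA ?_ ?_
  · intro x
    exact sec_trivial hαp le_top (hM α hαA) (fun _ _ => Subgroup.mem_top _)
      (by rw [Subgroup.card_top, c2]) x (Subgroup.mem_top x)
  · exact sec_trivial hαp hle (mho_inv α) (hM α hαA) c1

section basis

variable {p : ℕ} [Fact p.Prime] (a b : H)

/-- coordinates modulo `p`-th powers -/
def psi (p : ℕ) (a b : H) (u : ZMod p × ZMod p) : H ⧸ mho H p 1 :=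
  QuotientGroup.mk (a ^ u.1.val * b ^ u.2.val)

theorem pow_mod_mho (c : H) (i : ℕ) : ∃ w ∈ mho H p 1, c ^ i = c ^ (i % p) * w :=
  ⟨(c ^ (i / p)) ^ (p ^ 1), mem_mho.2 ⟨_, rfl⟩, by
    rw [pow_one, ← pow_mul, ← pow_add, mul_comm (i / p) p, Nat.mod_add_div]⟩

theorem psi_natCast (i j : ℕ) :
    psi p a b ((i : ZMod p), (j : ZMod p)) = QuotientGroup.mk (a ^ i * b ^ j) := by
  unfold psi
  rw [QuotientGroup.eq, ZMod.val_natCast, ZMod.val_natCast]
  obtain ⟨w1, hw1, e1⟩ := pow_mod_mho (p := p) a i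
  obtain ⟨w2, hw2, e2⟩ := pow_mod_mho (p := p) b j
  rw [e1, e2]
  have : (a ^ (i % p) * b ^ (j % p))⁻¹ * (a ^ (i % p) * w1 * (b ^ (j % p) * w2)) = w1 * w2 := by
    calc (a ^ (i % p) * b ^ (j % p))⁻¹ * (a ^ (i % p) * w1 * (b ^ (j % p) * w2))
        = (a ^ (i % p) * b ^ (j % p))⁻¹ * ((a ^ (i % p) * b ^ (j % p)) * (w1 * w2)) := by
          congr 1; ac_rfl
      _ = w1 * w2 := inv_mul_cancel_left _ _
  rw [this]
  exact mul_mem hw1 hw2

theorem psi_surj (hgen : ∀ x : H, ∃ i j : ℕ, x = a ^ i * b ^ j) :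
    Function.Surjective (psi p a b) := by
  intro q
  obtain ⟨x, rfl⟩ := QuotientGroup.mk_surjective q
  obtain ⟨i, j, rfl⟩ := hgen x
  exact ⟨_, psi_natCast a b i j⟩

theorem idx_le (hgen : ∀ x : H, ∃ i j : ℕ, x = a ^ i * b ^ j) : (mho H p 1).index ≤ p ^ 2 := by
  rw [Subgroup.index_eq_card]
  have := Nat.card_le_card_of_surjective _ (psi_surj (p := p) a b hgen)
  rwa [Nat.card_prod, Nat.card_zmod, ← pow_two] at this

theorem basis (hgen : ∀ x : H, ∃ i j : ℕ, x = a ^ i * b ^ j)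
    (hidx : (mho H p 1).index = p ^ 2) :
    ∀ i j : ℕ, a ^ i * b ^ j ∈ mho H p 1 → p ∣ i ∧ p ∣ j := by
  intro i j h
  have hbij : Function.Bijective (psi p a b) :=
    (Nat.bijective_iff_surjective_and_card _).2 ⟨psi_surj a b hgen, by
      rw [Nat.card_prod, Nat.card_zmod, ← pow_two, ← hidx, Subgroup.index_eq_card]⟩
  have e1 : psi p a b ((i : ZMod p), (j : ZMod p)) = psi p a b (((0 : ℕ) : ZMod p), ((0 : ℕ) : ZMod p)) := by
    rw [psi_natCast, psi_natCast, pow_zero, pow_zero, mul_one, QuotientGroup.mk_one,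
      QuotientGroup.eq_one_iff]
    exact h
  have e2 := hbij.1 e1
  rw [Prod.mk.injEq, Nat.cast_zero] at e2
  exact ⟨(ZMod.natCast_eq_zero_iff i p).1 e2.1, (ZMod.natCast_eq_zero_iff j p).1 e2.2⟩

theorem iso_of {k : ℕ} (hgen : ∀ x : H, ∃ i j : ℕ, x = a ^ i * b ^ j)
    (hk : ∀ x : H, x ^ (p ^ k) = 1)
    (hom : ∀ x : H, ∀ m < k, x ^ (p ^ m) = 1 → x ∈ mho H p 1)
    (hbasis : ∀ i j : ℕ, a ^ i * b ^ j ∈ mho H p 1 → p ∣ i ∧ p ∣ j) :
    Nonempty (H ≃* Multiplicative (ZMod (p ^ k) × ZMod (p ^ k))) := by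
  have hN : NeZero (p ^ k) := ⟨pow_ne_zero _ (Fact.out : p.Prime).ne_zero⟩
  have hpm : ∀ (c : H) (m : ℕ), c ^ (m % p ^ k) = c ^ m := by
    intro c m
    conv_rhs => rw [← Nat.mod_add_div m (p ^ k), pow_add, pow_mul, hk, one_pow, mul_one]
  let f : Multiplicative (ZMod (p ^ k) × ZMod (p ^ k)) →* H :=
    MonoidHom.mk' (fun u => a ^ (Multiplicative.toAdd u).1.val * b ^ (Multiplicative.toAdd u).2.val)
      (by
        intro u v
        show a ^ ((Multiplicative.toAdd u).1 + (Multiplicative.toAdd v).1).val *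
          b ^ ((Multiplicative.toAdd u).2 + (Multiplicative.toAdd v).2).val = _
        rw [ZMod.val_add, ZMod.val_add, hpm, hpm, pow_add, pow_add]
        ac_rfl)
  have hf : ∀ u, f u = a ^ (Multiplicative.toAdd u).1.val * b ^ (Multiplicative.toAdd u).2.val :=
    fun u => rfl
  have hdiv : ∀ i j : ℕ, a ^ i * b ^ j = 1 → ∀ m ≤ k, p ^ m ∣ i ∧ p ^ m ∣ j := by
    intro i j h m
    induction m with
    | zero => intro _; simp
    | succ m ih =>
      intro hm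
      obtain ⟨⟨i', rfl⟩, ⟨j', rfl⟩⟩ := ih (by omega)
      have h1 : (a ^ i' * b ^ j') ^ (p ^ m) = 1 := by
        rw [mul_pow, ← pow_mul, ← pow_mul, mul_comm i', mul_comm j']
        exact h
      obtain ⟨d1, d2⟩ := hbasis i' j' (hom _ m (by omega) h1)
      rw [pow_succ]
      exact ⟨Nat.mul_dvd_mul_left _ d1, Nat.mul_dvd_mul_left _ d2⟩
  have hinj : Function.Injective f := by
    rw [injective_iff_map_eq_one]
    intro u hu
    rw [hf] at hu
    obtain ⟨d1, d2⟩ := hdiv _ _ hu k le_rfl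
    have z1 : (Multiplicative.toAdd u).1.val = 0 :=
      Nat.eq_zero_of_dvd_of_lt d1 (ZMod.val_lt _)
    have z2 : (Multiplicative.toAdd u).2.val = 0 :=
      Nat.eq_zero_of_dvd_of_lt d2 (ZMod.val_lt _)
    have : Multiplicative.toAdd u = 0 :=
      Prod.ext ((ZMod.val_eq_zero _).1 z1) ((ZMod.val_eq_zero _).1 z2)
    exact this
  have hsurj : Function.Surjective f := by
    intro x
    obtain ⟨i, j, rfl⟩ := hgen x
    refine ⟨Multiplicative.ofAdd ((i : ZMod (p ^ k)), (j : ZMod (p ^ k))), ?_⟩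
    rw [hf]
    show a ^ ((i : ZMod (p ^ k))).val * b ^ ((j : ZMod (p ^ k))).val = _
    rw [ZMod.val_natCast, ZMod.val_natCast, hpm, hpm]
  exact ⟨(MulEquiv.ofBijective f ⟨hinj, hsurj⟩).symm⟩

end basis

end Cfsg.Agent.Lib.Helper27.RkT
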