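import Cfsg.Agent.Lib.Helper27.IsoTransport
import Cfsg.Agent.Lib.Helper27.NormalSubgroupFS

/-!
A realizable simple fusion system is realized by a simple group.
-/

set_option autoImplicit false

namespace Cfsg.Agent.Lib.Helper27

open Cfsg Cfsg.FusionSystem
open Cfsg.Agent.Lib.Helper26 (IsMap img autFun FacData FacMap toFun₂ mem_preimageAlong
  mem_imageAlong indFun SylIn cj)

universe u

variable {Ω : Type u} [Group Ω] {S : Subgroup Ω}

/-- quotient by a normal subgroup meeting the Sylow subgroup trivially -/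
theorem realizedBy_quotient {p : ℕ} [Fact p.Prime] {F : FusionSystem S} {G : Type*} [Group G]
    [Finite G] {ι : S →* G} (hι : F.IsRealizedBy ι) (P₀ : Sylow p G)
    (hP₀ : (P₀ : Subgroup G) = ι.range) (N : Subgroup G) [hN : N.Normal]
    (hNP : (P₀ : Subgroup G) ⊓ N = ⊥) :
    F.IsRealizedBy ((QuotientGroup.mk' N).comp ι) ∧
      ∃ T : Sylow p (G ⧸ N), (T : Subgroup (G ⧸ N)) = ((QuotientGroup.mk' N).comp ι).range := by
  have hmemP : ∀ s : S, ι s ∈ (P₀ : Subgroup G) := fun s => by rw [hP₀]; exact ⟨s, rfl⟩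
  have htriv : ∀ g : G, g ∈ (P₀ : Subgroup G) → g ∈ N → g = 1 := by
    intro g h1 h2
    have : g ∈ (P₀ : Subgroup G) ⊓ N := ⟨h1, h2⟩
    rwa [hNP, Subgroup.mem_bot] at this
  refine ⟨⟨?_, fun P hP φ hφ => ?_⟩, ?_⟩
  · intro a b hab
    have h1 : (ι a)⁻¹ * ι b ∈ N := by
      rw [← QuotientGroup.eq]
      exact hab
    have h2 := htriv _ (Subgroup.mul_mem _ (Subgroup.inv_mem _ (hmemP a)) (hmemP b)) h1
    exact hι.1 (inv_mul_eq_one.mp h2)
  · rw [hι.2 P hP φ hφ]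
    constructor
    · rintro ⟨g, hg⟩
      refine ⟨QuotientGroup.mk' N g, fun x => ?_⟩
      show QuotientGroup.mk' N (ι _) = _
      rw [hg x, map_mul, map_mul, map_inv]
      rfl
    · rintro ⟨gb, hg⟩
      obtain ⟨g, rfl⟩ := QuotientGroup.mk'_surjective N gb
      have hmod : ∀ x : P, (g * ι ⟨x, hP x.2⟩ * g⁻¹)⁻¹ * ι ⟨φ x, hφ x⟩ ∈ N := by
        intro x
        rw [← QuotientGroup.eq]
        have := hg x
        show (QuotientGroup.mk' N) _ = (QuotientGroup.mk' N) _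
        rw [map_mul, map_mul, map_inv]
        exact this.symm
      -- the p-subgroup A' = g ι(P) g⁻¹
      let A : Subgroup G := cj g ((P.subgroupOf S).map ι)
      have hAmem : ∀ x : P, g * ι ⟨x, hP x.2⟩ * g⁻¹ ∈ A := fun x =>
        Helper26.conj_mem_cj ⟨⟨x, hP x.2⟩, Subgroup.mem_subgroupOf.mpr x.2, rfl⟩
      have hAp : IsPGroup p A := by
        have h1 : (P.subgroupOf S).map ι ≤ (P₀ : Subgroup G) := by
          rintro _ ⟨s, -, rfl⟩
          exact hmemP s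
        exact (P₀.isPGroup'.to_le h1).map _
      have hAH : A ≤ (P₀ : Subgroup G) ⊔ N := by
        rintro _ ⟨_, ⟨s, hs, rfl⟩, rfl⟩
        have hsP : (s : Ω) ∈ P := Subgroup.mem_subgroupOf.mp hs
        have h1 := hmod ⟨s, hsP⟩
        have h2 : g * ι s * g⁻¹ = ι ⟨φ ⟨s, hsP⟩, hφ _⟩ *
            ((g * ι s * g⁻¹)⁻¹ * ι ⟨φ ⟨s, hsP⟩, hφ _⟩)⁻¹ := by group
        show g * ι s * g⁻¹ ∈ _
        rw [h2]
        exact Subgroup.mul_mem _ (le_sup_left (a := (P₀ : Subgroup G)) (hmemP _))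
          (le_sup_right (a := (P₀ : Subgroup G)) (Subgroup.inv_mem _ h1))
      have hsyl : SylIn p (P₀ : Subgroup G) ((P₀ : Subgroup G) ⊔ N) :=
        (Helper26.sylIn_top_of_sylow P₀).of_le le_top le_sup_left le_top
      obtain ⟨h, hh, hhA⟩ := hsyl.exists_conj_le hAH hAp
      obtain ⟨s, hs, k, hk, rfl⟩ := Subgroup.mem_sup_of_normal_right.mp hh
      have hkA : ∀ a ∈ A, k * a * k⁻¹ ∈ (P₀ : Subgroup G) := by
        intro a ha
        have h1 : (s * k) * a * (s * k)⁻¹ ∈ (P₀ : Subgroup G) := hhA (Helper26.conj_mem_cj ha)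
        have h2 : k * a * k⁻¹ = s⁻¹ * ((s * k) * a * (s * k)⁻¹) * s := by group
        rw [h2]
        exact Subgroup.mul_mem _ (Subgroup.mul_mem _ (Subgroup.inv_mem _ hs) h1) hs
      refine ⟨k * g, fun x => ?_⟩
      have h1 := hkA _ (hAmem x)
      have h2 : (k * (g * ι ⟨x, hP x.2⟩ * g⁻¹) * k⁻¹)⁻¹ * ι ⟨φ x, hφ x⟩ ∈ N := by
        obtain ⟨a, ha⟩ : ∃ a, a = g * ι ⟨x, hP x.2⟩ * g⁻¹ := ⟨_, rfl⟩
        have h3 := hmod x
        rw [← ha] at h3 ⊢
        have e : (k * a * k⁻¹)⁻¹ * ι ⟨φ x, hφ x⟩ =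
            k * (a⁻¹ * k⁻¹ * a) * (a⁻¹ * ι ⟨φ x, hφ x⟩) := by group
        rw [e]
        refine N.mul_mem (N.mul_mem hk ?_) h3
        have := hN.conj_mem k⁻¹ (N.inv_mem hk) a⁻¹
        rwa [inv_inv] at this
      have h3 := htriv _ (Subgroup.mul_mem _ (Subgroup.inv_mem _ h1) (hmemP _)) h2
      rw [inv_mul_eq_one] at h3
      rw [← h3]
      group
  · refine ⟨P₀.mapSurjective (QuotientGroup.mk'_surjective N), ?_⟩
    rw [Sylow.coe_mapSurjective, hP₀, MonoidHom.range_comp]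

theorem exists_simple_realization [Finite S] {p : ℕ} [Fact p.Prime] (hS : IsPGroup p S)
    {F : FusionSystem S} (hsimple : F.IsSimple p) (hreal : F.IsRealizable p) :
    ∃ (G : Type u) (_ : Group G) (_ : Finite G) (_ : IsSimpleGroup G) (ι : ↥S →* G),
      F.IsRealizedBy ι ∧ ∃ T : Sylow p G, (T : Subgroup G) = ι.range := by
  classical
  obtain ⟨G₀, iG₀, iF₀, ι₀, h₀, T₀, hT₀⟩ := hreal
  let R : ℕ → Prop := fun n => ∃ (G : Type u) (_ : Group G) (_ : Finite G) (ι : S →* G),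
    Nat.card G = n ∧ F.IsRealizedBy ι ∧ ∃ T : Sylow p G, (T : Subgroup G) = ι.range
  have hR : ∃ n, R n := ⟨_, G₀, iG₀, iF₀, ι₀, rfl, h₀, T₀, hT₀⟩
  obtain ⟨G, iG, iF, ι, hcard, hι, P₀, hP₀⟩ := Nat.find_spec hR
  have hmin : ∀ (G' : Type u) [Group G'] [Finite G'] (ι' : S →* G'), F.IsRealizedBy ι' →
      (∃ T : Sylow p G', (T : Subgroup G') = ι'.range) → Nat.card G ≤ Nat.card G' := by
    intro G' _ _ ι' h1 h2
    rw [hcard]
    exact Nat.find_min' hR ⟨G', inferInstance, inferInstance, ι', rfl, h1, h2⟩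
  refine ⟨G, iG, iF, ?_, ι, hι, P₀, hP₀⟩
  obtain ⟨θ, h1, h2, d, hF⟩ := Helper26.realized_facData hι hP₀
  have hnt : Nontrivial G := by
    obtain ⟨x, hx, hx1⟩ : ∃ x ∈ S, x ≠ 1 := by
      by_contra hcon
      push Not at hcon
      exact hsimple.2.1 ((Subgroup.eq_bot_iff_forall S).mpr hcon)
    refine ⟨ι ⟨x, hx⟩, 1, fun h => hx1 ?_⟩
    have := hι.1 (h.trans (map_one ι).symm)
    exact congrArg Subtype.val this
  refine { exists_pair_ne := hnt.exists_pair_ne, eq_bot_or_eq_top_of_normal := ?_ }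
  intro N hN
  have hE₁ := subFS_isNormalIn P₀ N
  have hTle : (P₀ : Subgroup G) ⊓ N ≤ (P₀ : Subgroup G) := inf_le_left
  obtain ⟨E₂, hE₂n, hE₂⟩ := exists_normal_transport P₀.isPGroup' hS d hF hTle hE₁
  rcases hsimple.2.2 _ E₂ hE₂n with hbot | ⟨htop, hhom⟩
  · left
    have hNP : (P₀ : Subgroup G) ⊓ N = ⊥ := by
      rw [eq_bot_iff]
      intro t ht
      have h3 : toFun₂ θ t ∈ imageAlong θ ((P₀ : Subgroup G) ⊓ N) :=
        mem_imageAlong.mpr ⟨t, ht, ht.1, rfl⟩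
      rw [hbot, Subgroup.mem_bot] at h3
      exact (d.ker' ht.1).mp h3
    obtain ⟨h3, h4⟩ := realizedBy_quotient hι P₀ hP₀ N hNP
    have h5 := hmin (G ⧸ N) _ h3 h4
    have h6 := Subgroup.card_eq_card_quotient_mul_card_subgroup N
    have h7 : 0 < Nat.card (G ⧸ N) := Nat.card_pos
    have h8 : Nat.card N = 1 := by
      have h9 : 0 < Nat.card N := Nat.card_pos
      by_contra hne
      have : 2 ≤ Nat.card N := by omega
      nlinarith
    exact Subgroup.card_eq_one.mp h8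
  · right
    have hPN : (P₀ : Subgroup G) ≤ N := by
      intro t ht
      have h3 : toFun₂ θ t ∈ imageAlong θ ((P₀ : Subgroup G) ⊓ N) := by
        rw [htop]; exact (h2 t ht).1
      obtain ⟨t', ht', ht'P, he⟩ := mem_imageAlong.mp h3
      have := FacData.inj_of_bot d ht'P ht he
      rw [← this]
      exact ht'.2
    have hιN : ∀ s : S, ι s ∈ N := fun s => hPN (by rw [hP₀]; exact ⟨s, rfl⟩)
    let ιN : S →* N := ι.codRestrict N hιN
    have hreal : F.IsRealizedBy ιN := by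
      refine ⟨fun a b hab => hι.1 (congrArg Subtype.val hab), fun P hP φ hφ => ?_⟩
      constructor
      · intro hφF
        rw [← hhom P] at hφF
        obtain ⟨-, f₁, hf₁, hff⟩ := (hE₂ P _).mp (Helper26.isMap_toFun hφF)
        obtain ⟨-, -, n, hn, hfn⟩ := Helper26.isMap_subFS.mp hf₁
        refine ⟨⟨n, hn⟩, fun x => ?_⟩
        apply Subtype.ext
        show ι ⟨φ x, hφ x⟩ = n * ι ⟨x, hP x.2⟩ * n⁻¹
        obtain ⟨hm, hθι⟩ := h1 x (hP x.2)
        have hmT : toFun₂ ι (x : Ω) ∈ (P₀ : Subgroup G) ⊓ N := ⟨hm, hPN hm⟩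
        have hpre : toFun₂ ι (x : Ω) ∈ preimageAlong (resHom θ hTle) P := by
          refine mem_preimageAlong.mpr ⟨hmT, ?_⟩
          rw [toFun₂_resHom θ hTle hmT, hθι]
          exact x.2
        have h3 := hff _ hpre
        rw [toFun₂_resHom θ hTle hmT, hθι, toFun₂_resHom θ hTle (hf₁.mem_S hpre),
          Helper26.toFun_apply, hfn _ hpre] at h3
        have h4 := (h2 _ (hf₁.mem_S hpre).1).2
        rw [hfn _ hpre, ← h3, Helper26.toFun₂_of_mem ι (hφ x),
          Helper26.toFun₂_of_mem ι (hP x.2)] at h4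
        exact h4
      · rintro ⟨n, hn⟩
        rw [hι.2 P hP φ hφ]
        exact ⟨n, fun x => congrArg Subtype.val (hn x)⟩
    have hsyl : ∃ T : Sylow p N, (T : Subgroup N) = ιN.range := by
      refine ⟨P₀.subtype hPN, ?_⟩
      rw [Sylow.coe_subtype]
      ext ⟨y, hy⟩
      rw [Subgroup.mem_subgroupOf, hP₀]
      constructor
      · rintro ⟨s, hs⟩
        exact ⟨s, Subtype.ext hs⟩
      · rintro ⟨s, hs⟩
        exact ⟨s, congrArg Subtype.val hs⟩
    have h5 := hmin N ιN hreal hsyl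
    exact Subgroup.eq_top_of_card_eq N (le_antisymm (Subgroup.card_le_card_group N) h5)

end Cfsg.Agent.Lib.Helper27
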