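import Cfsg.Agent.Lib.Helper26.PPowerIndex
import Cfsg.Agent.Lib.Helper27.FactorAut
import Cfsg.Agent.Lib.Helper27.FusionEssential
import Cfsg.Prelude.Def_FusionReduction

/-!
Residual limits of fusion systems: determinism, and invariance under passing to a normal
subsystem of `p`-power index.
-/

set_option autoImplicit false

namespace Cfsg.Agent.Lib.Helper27

open Cfsg Cfsg.FusionSystem
open Cfsg.Agent.Lib.Helper26 (IsMap img autFun)

universe u

variable {Ω : Type u} [Group Ω]

/-- two fusion systems over possibly different (but equal) subgroups with the same maps -/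
def Same {S₁ S₂ : Subgroup Ω} (F₁ : FusionSystem S₁) (F₂ : FusionSystem S₂) : Prop :=
  S₁ = S₂ ∧ ∀ P, F₁.Hom P = F₂.Hom P

theorem Same.refl {S : Subgroup Ω} (F : FusionSystem S) : Same F F := ⟨rfl, fun _ => rfl⟩

theorem Same.symm {S₁ S₂ : Subgroup Ω} {F₁ : FusionSystem S₁} {F₂ : FusionSystem S₂}
    (h : Same F₁ F₂) : Same F₂ F₁ := ⟨h.1.symm, fun P => (h.2 P).symm⟩

theorem Same.trans {S₁ S₂ S₃ : Subgroup Ω} {F₁ : FusionSystem S₁} {F₂ : FusionSystem S₂}
    {F₃ : FusionSystem S₃} (h : Same F₁ F₂) (h' : Same F₂ F₃) : Same F₁ F₃ :=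
  ⟨h.1.trans h'.1, fun P => (h.2 P).trans (h'.2 P)⟩

theorem Same.transport {S₁ S₂ : Subgroup Ω} {F₁ : FusionSystem S₁} {F₂ : FusionSystem S₂}
    (h : Same F₁ F₂) (Q : ∀ S : Subgroup Ω, FusionSystem S → Prop) (h1 : Q S₁ F₁) : Q S₂ F₂ := by
  obtain ⟨rfl, h'⟩ := h
  have := fusionSystem_ext h'
  subst this
  exact h1

theorem pPrimeResidual_same {S₁ S₂ : Subgroup Ω} {F₁ : FusionSystem S₁} {F₂ : FusionSystem S₂}
    (h : Same F₁ F₂) {p : ℕ} {D₁ : FusionSystem S₁} {D₂ : FusionSystem S₂}
    (h₁ : F₁.IsPPrimeResidual p D₁) (h₂ : F₂.IsPPrimeResidual p D₂) : Same D₁ D₂ := by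
  obtain ⟨rfl, h'⟩ := h
  have := fusionSystem_ext h'
  subst this
  exact ⟨rfl, fun P => Set.Subset.antisymm (h₁.2.2 D₂ h₂.1 h₂.2.1 P) (h₂.2.2 D₁ h₁.1 h₁.2.1 P)⟩

theorem hyperfocal_le_top {S : Subgroup Ω} (F : FusionSystem S) (p : ℕ) :
    F.hyperfocalSubgroup p ≤ S := by
  apply (Subgroup.closure_le _).mpr
  rintro _ ⟨P, α, x, hP, -, rfl⟩
  exact S.mul_mem (S.inv_mem (hP x.2)) (hP (Subtype.mem _))

theorem pResidual_same {p : ℕ} [Fact p.Prime] {S₁ S₂ : Subgroup Ω} {F₁ : FusionSystem S₁}
    {F₂ : FusionSystem S₂} (h : Same F₁ F₂) [Finite S₁] (hS : IsPGroup p S₁)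
    {D₁ : FusionSystem (F₁.hyperfocalSubgroup p)} {D₂ : FusionSystem (F₂.hyperfocalSubgroup p)}
    (h₁ : F₁.IsPResidual p D₁) (h₂ : F₂.IsPResidual p D₂) : Same D₁ D₂ := by
  obtain ⟨rfl, h'⟩ := h
  have := fusionSystem_ext h'
  subst this
  have hle := hyperfocal_le_top F₁ p
  have : Finite (F₁.hyperfocalSubgroup p) := Helper26.finite_of_le hle
  exact ⟨rfl, fun P => Helper26.pPowerIndex_unique rfl (hS.to_le hle) hle D₁ D₂ h₁.1 h₂.1 h₁.2 h₂.2 P⟩

theorem hasPPowerIndexIn_self {S : Subgroup Ω} (F : FusionSystem S) (p : ℕ) :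
    F.HasPPowerIndexIn F p := by
  refine ⟨fun _ _ h => h, hyperfocal_le_top F p, fun P _ => ?_⟩
  rintro _ ⟨α, -, rfl⟩
  exact α.2

theorem same_of_stable : ∀ {T S : Subgroup Ω} {E : FusionSystem T} {F : FusionSystem S} {p : ℕ},
    IsResidualLimitOf E F p → p.Prime → Finite S → IsPGroup p S →
    F.hyperfocalSubgroup p = S → F.IsPPrimeResidual p F → Same E F := by
  intro T S E F p h
  induction h with
  | stable F p h1 h2 => intro _ _ _ _ _; exact Same.refl F
  | step F p D D' hD hD' hlim ih =>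
    intro hp hfin hS hhyp hres
    have := Fact.mk hp
    have hle := hyperfocal_le_top F p
    have hfin' : Finite (F.hyperfocalSubgroup p) := Helper26.finite_of_le hle
    have hS' : IsPGroup p (F.hyperfocalSubgroup p) := hS.to_le hle
    have hDF : Same D F := ⟨hhyp, fun P => Helper26.pPowerIndex_unique hhyp hS' hle D F hD.1 hres.1
      hD.2 (hasPPowerIndexIn_self F p) P⟩
    have hDD : D.IsPPrimeResidual p D :=
      hDF.symm.transport (fun _ X => X.IsPPrimeResidual p X) hres
    have hD'D : Same D' D := pPrimeResidual_same (Same.refl D) hD' hDD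
    have hFD' : Same F D' := (hD'D.trans hDF).symm
    have hprops := hFD'.transport
      (fun S X => X.hyperfocalSubgroup p = S ∧ X.IsPPrimeResidual p X) ⟨hhyp, hres⟩
    exact (ih hp hfin' hS' hprops.1 hprops.2).trans hFD'.symm

theorem limit_unique : ∀ {T₁ S : Subgroup Ω} {E₁ : FusionSystem T₁} {F : FusionSystem S} {p : ℕ},
    IsResidualLimitOf E₁ F p → p.Prime → Finite S → IsPGroup p S →
    ∀ {T₂ : Subgroup Ω} {E₂ : FusionSystem T₂}, IsResidualLimitOf E₂ F p → Same E₁ E₂ := by
  intro T₁ S E₁ F p h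
  induction h with
  | stable F p h1 h2 =>
    intro hp hfin hS T₂ E₂ h₂
    exact (same_of_stable h₂ hp hfin hS h1 h2).symm
  | step F p D D' hD hD' hlim ih =>
    intro hp hfin hS T₂ E₂ h₂
    have := Fact.mk hp
    have hle := hyperfocal_le_top F p
    have hfin' : Finite (F.hyperfocalSubgroup p) := Helper26.finite_of_le hle
    have hS' : IsPGroup p (F.hyperfocalSubgroup p) := hS.to_le hle
    cases h₂ with
    | stable _ _ h1 h2 =>
      exact same_of_stable (IsResidualLimitOf.step F p D D' hD hD' hlim) hp hfin hS h1 h2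
    | step _ _ D₂ D₂' hD₂ hD₂' hlim₂ =>
      have h3 : Same D D₂ := pResidual_same (Same.refl F) hS hD hD₂
      have h4 : Same D' D₂' := pPrimeResidual_same h3 hD' hD₂'
      have h5 := h4.symm.transport (fun _ X => IsResidualLimitOf E₂ X p) hlim₂
      exact ih hp hfin' hS' h5

theorem pRes_map_le {M : Type*} [Group M] {p : ℕ} {A B : Subgroup M}
    (h : (pResidual p A).map A.subtype ≤ B) :
    (pResidual p A).map A.subtype ≤ (pResidual p B).map B.subtype := by
  rw [Subgroup.map_le_iff_le_comap]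
  apply (Subgroup.closure_le _).mpr
  intro α hα
  have hα' : Nat.Coprime (orderOf α) p := hα
  have hB : (α : M) ∈ B := h ⟨α, Subgroup.subset_closure hα, rfl⟩
  refine ⟨⟨α, hB⟩, Subgroup.subset_closure ?_, rfl⟩
  show Nat.Coprime (orderOf (⟨α, hB⟩ : B)) p
  rw [Subgroup.orderOf_mk, Subgroup.orderOf_coe]
  exact hα'

theorem mem_of_pow_mem_of_coprime {M : Type*} [Group M] {H : Subgroup M} {c : M} {m n : ℕ}
    (hm : c ^ m ∈ H) (hn : c ^ n ∈ H) (hc : Nat.Coprime m n) : c ∈ H := by
  obtain ⟨a, b, hab⟩ := (Nat.isCoprime_iff_coprime.mpr hc)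
  have e : c = (c ^ m) ^ a * (c ^ n) ^ b := by
    rw [← zpow_natCast c m, ← zpow_natCast c n, ← zpow_mul, ← zpow_mul, ← zpow_add,
      mul_comm (m : ℤ) a, mul_comm (n : ℤ) b, hab, zpow_one]
  rw [e]
  exact H.mul_mem (H.zpow_mem hm a) (H.zpow_mem hn b)

theorem hyperfocal_eq_of_pPowerIndex {p : ℕ} [Fact p.Prime] {S : Subgroup Ω} [Finite S]
    (hS : IsPGroup p S) {F : FusionSystem S} {T : Subgroup Ω} {E : FusionSystem T}
    (hT : F.StronglyClosed T) (hidx : E.HasPPowerIndexIn F p) :
    E.hyperfocalSubgroup p = F.hyperfocalSubgroup p := by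
  have hTS := hT.1
  apply le_antisymm
  · apply (Subgroup.closure_le _).mpr
    rintro _ ⟨P, α, x, hPT, hα, rfl⟩
    have hle := Helper26.autGroup_le_of_subsystem hidx.1 hPT (hPT.trans hTS)
    exact Subgroup.subset_closure ⟨P, Subgroup.inclusion hle α, x, hPT.trans hTS,
      map_mem_pResidual' (Subgroup.inclusion hle) hα, rfl⟩
  · apply (Subgroup.closure_le _).mpr
    rintro _ ⟨P, α, x, hPS, hα, rfl⟩
    have key : ∀ α ∈ pResidual p (F.autGroup P), ∀ x : P,
        (x : Ω)⁻¹ * (((α : MulAut P) x : P) : Ω) ∈ E.hyperfocalSubgroup p := by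
      intro α hα
      change α ∈ Subgroup.closure {g : F.autGroup P | Nat.Coprime (orderOf g) p} at hα
      induction hα using Subgroup.closure_induction with
      | mem α hα =>
        have hα' : Nat.Coprime (orderOf α) p := hα
        have hf : IsMap F P (autFun (α : MulAut P)) := (Helper26.mem_autGroup_iff hPS).mp α.2
        have hf₀ : IsMap F (P ⊓ T) (autFun (α : MulAut P)) := hf.mono inf_le_left
        have himg : img (P ⊓ T) (autFun (α : MulAut P)) = P ⊓ T := by
          apply Helper26.img_eq_of_le_of_finite hf₀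
          intro y hy
          obtain ⟨w, hw, rfl⟩ := hf₀.mem_img.mp hy
          exact ⟨Helper26.autFun_mem _ hw.1, Helper26.stronglyClosed_map_mem hT hf hw.1 hw.2⟩
        obtain ⟨α₀, hα₀, hα₀f⟩ := hf₀.exists_aut himg
        have hpow : ∀ (k : ℕ) (y : (P ⊓ T : Subgroup Ω)),
            (((α₀ ^ k) y : (P ⊓ T : Subgroup Ω)) : Ω) =
              ((((α : MulAut P) ^ k) ⟨y, y.2.1⟩ : P) : Ω) := by
          intro k
          induction k with
          | zero => intro y; rfl
          | succ k ih =>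
            intro y
            rw [pow_succ', pow_succ', MulAut.mul_apply, MulAut.mul_apply, hα₀f, ih,
              Helper26.autFun_apply]
        have hord : α₀ ^ orderOf α = 1 := by
          ext y
          rw [hpow]
          have : (α : MulAut P) ^ orderOf α = 1 := by
            rw [← Subgroup.coe_pow, pow_orderOf_eq_one]; rfl
          rw [this]
          rfl
        have hcop : Nat.Coprime (orderOf α₀) p :=
          Nat.Coprime.coprime_dvd_left (orderOf_dvd_of_pow_eq_one hord) hα'
        have hα₀E : α₀ ∈ E.autGroup (P ⊓ T) := by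
          apply hidx.2.2 (P ⊓ T) inf_le_right
          refine ⟨⟨α₀, hα₀⟩, Subgroup.subset_closure ?_, rfl⟩
          show Nat.Coprime (orderOf (⟨α₀, hα₀⟩ : F.autGroup (P ⊓ T))) p
          rw [Subgroup.orderOf_mk]; exact hcop
        have hsmall : ∀ y ∈ P ⊓ T, y⁻¹ * autFun (α : MulAut P) y ∈ E.hyperfocalSubgroup p := by
          intro y hy
          refine Subgroup.subset_closure ⟨P ⊓ T, ⟨α₀, hα₀E⟩, ⟨y, hy⟩, inf_le_right,
            Subgroup.subset_closure ?_, ?_⟩
          · show Nat.Coprime (orderOf (⟨α₀, hα₀E⟩ : E.autGroup (P ⊓ T))) p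
            rw [Subgroup.orderOf_mk]; exact hcop
          · show _ = y⁻¹ * ((α₀ ⟨y, hy⟩ : (P ⊓ T : Subgroup Ω)) : Ω)
            rw [hα₀f]
        intro x
        obtain ⟨c, hc⟩ : ∃ c, c = (x : Ω)⁻¹ * (((α : MulAut P) x : P) : Ω) := ⟨_, rfl⟩
        rw [← hc]
        have hcP : c ∈ P := by rw [hc]; exact P.mul_mem (P.inv_mem x.2) (Subtype.mem _)
        have hcT : c ∈ T := by
          apply hidx.2.1
          rw [hc]
          exact Subgroup.subset_closure ⟨P, α, x, hPS, Subgroup.subset_closure hα, rfl⟩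
        have hstep : ∀ k : ℕ, (x : Ω)⁻¹ * ((((α : MulAut P) ^ k) x : P) : Ω) ∈ P ⊓ T ∧
            ∃ h ∈ E.hyperfocalSubgroup p,
              (x : Ω)⁻¹ * ((((α : MulAut P) ^ k) x : P) : Ω) = c ^ k * h := by
          intro k
          induction k with
          | zero => exact ⟨by simp [Subgroup.one_mem], 1, Subgroup.one_mem _, by simp⟩
          | succ k ih =>
            obtain ⟨hw, h, hh, hwk⟩ := ih
            obtain ⟨w, hwdef⟩ : ∃ w, w = (x : Ω)⁻¹ * ((((α : MulAut P) ^ k) x : P) : Ω) :=
              ⟨_, rfl⟩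
            rw [← hwdef] at hw hwk
            have e1 : ((((α : MulAut P) ^ k) x : P) : Ω) = x * w := by
              rw [hwdef, mul_inv_cancel_left]
            have e2 : ((((α : MulAut P) ^ (k + 1)) x : P) : Ω) =
                autFun (α : MulAut P) x * autFun (α : MulAut P) w := by
              rw [pow_succ', MulAut.mul_apply, ← Helper26.autFun_apply, e1, hf.map_mul x.2 hw.1]
            have e3 : (x : Ω)⁻¹ * ((((α : MulAut P) ^ (k + 1)) x : P) : Ω) =
                c * autFun (α : MulAut P) w := by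
              rw [e2, hc, Helper26.autFun_apply, mul_assoc]
            have hfw : autFun (α : MulAut P) w ∈ P ⊓ T :=
              ⟨Helper26.autFun_mem _ hw.1, Helper26.stronglyClosed_map_mem hT hf hw.1 hw.2⟩
            refine ⟨by rw [e3]; exact Subgroup.mul_mem _ ⟨hcP, hcT⟩ hfw,
              h * (w⁻¹ * autFun (α : MulAut P) w), Subgroup.mul_mem _ hh (hsmall w hw), ?_⟩
            rw [e3, pow_succ', mul_assoc, ← mul_assoc (c ^ k), ← hwk, mul_inv_cancel_left]
        obtain ⟨-, h, hh, hfin⟩ := hstep (orderOf α)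
        have h1 : (α : MulAut P) ^ orderOf α = 1 := by
          rw [← Subgroup.coe_pow, pow_orderOf_eq_one]; rfl
        rw [h1] at hfin
        have h2 : c ^ orderOf α = h⁻¹ := by
          have : (1 : Ω) = c ^ orderOf α * h := by
            rw [← hfin]; simp
          exact eq_inv_of_mul_eq_one_left this.symm
        obtain ⟨j, hj⟩ := hS ⟨c, hPS hcP⟩
        have h3 : c ^ p ^ j = 1 := by
          have := congrArg Subtype.val hj
          simpa using this
        exact mem_of_pow_mem_of_coprime (by rw [h2]; exact Subgroup.inv_mem _ hh)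
          (by rw [h3]; exact Subgroup.one_mem _) (Nat.Coprime.pow_right j hα')
      | one => intro x; simp [Subgroup.one_mem]
      | mul a b _ _ ha hb =>
        intro x
        have e : (x : Ω)⁻¹ * ((((a * b : F.autGroup P) : MulAut P) x : P) : Ω) =
            ((x : Ω)⁻¹ * (((b : MulAut P) x : P) : Ω)) *
              ((((b : MulAut P) x : P) : Ω)⁻¹ * (((a : MulAut P) ((b : MulAut P) x) : P) : Ω)) := by
          rw [mul_assoc, mul_inv_cancel_left]
          rfl
        rw [e]
        exact Subgroup.mul_mem _ (hb x) (ha _)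
      | inv a _ ha =>
        intro x
        have h1 := ha ((a : MulAut P)⁻¹ x)
        rw [MulAut.apply_inv_self] at h1
        have e : (x : Ω)⁻¹ * ((((a⁻¹ : F.autGroup P) : MulAut P) x : P) : Ω) =
            ((((a : MulAut P)⁻¹ x : P) : Ω)⁻¹ * (x : Ω))⁻¹ := by
          rw [mul_inv_rev, inv_inv]
          rfl
        rw [e]
        exact Subgroup.inv_mem _ h1
    exact key α hα x

theorem residualLimit_eq_of_pPowerIndex {p : ℕ} [hp : Fact p.Prime] {S : Subgroup Ω} [Finite S]
    (hS : IsPGroup p S) {F : FusionSystem S} (hF : F.IsSaturated p) {T : Subgroup Ω}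
    {E : FusionSystem T} (hEs : E.IsSaturated p) (hT : F.StronglyClosed T)
    (hidx : E.HasPPowerIndexIn F p) {U V : Subgroup Ω} {Finf : FusionSystem U}
    (hFinf : Finf.IsResidualLimitOf F p) {Einf : FusionSystem V}
    (hEinf : Einf.IsResidualLimitOf E p) : Same Finf Einf := by
  have hTS := hT.1
  have hfinT : Finite T := Helper26.finite_of_le hTS
  have hpT : IsPGroup p T := hS.to_le hTS
  have hhyp := hyperfocal_eq_of_pPowerIndex hS hT hidx
  have hle := hyperfocal_le_top F p
  have hfin' : Finite (F.hyperfocalSubgroup p) := Helper26.finite_of_le hle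
  have hS' : IsPGroup p (F.hyperfocalSubgroup p) := hS.to_le hle
  cases hFinf with
  | stable _ _ h1 h2 =>
    have hTeq : T = S := le_antisymm hTS (by rw [← h1]; exact hidx.2.1)
    have hEF : Same E F := ⟨hTeq, fun P => Helper26.pPowerIndex_unique hTeq hpT hTS E F hEs hF hidx
      (hasPPowerIndexIn_self F p) P⟩
    have h3 := hEF.transport (fun _ X => IsResidualLimitOf Einf X p) hEinf
    exact (same_of_stable h3 hp.out inferInstance hS h1 h2).symm
  | step _ _ D D' hD hD' hlim =>
    cases hEinf with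
    | stable _ _ h1 h2 =>
      have hb : F.hyperfocalSubgroup p = T := by rw [← hhyp]; exact h1
      have hDE : Same D E := ⟨hb, fun P => Helper26.pPowerIndex_unique hb hS' hle D E hD.1 hEs hD.2
        hidx P⟩
      have hDD : D.IsPPrimeResidual p D :=
        hDE.symm.transport (fun _ X => X.IsPPrimeResidual p X) h2
      have hD'D : Same D' D := pPrimeResidual_same (Same.refl D) hD' hDD
      have h3 := (hD'D.trans hDE).transport (fun _ X => IsResidualLimitOf Finf X p) hlim
      exact same_of_stable h3 hp.out hfinT hpT h1 h2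
    | step _ _ DE DE' hDE hDE' hlimE =>
      have hleE : E.hyperfocalSubgroup p ≤ S := by rw [hhyp]; exact hle
      have hfinE : Finite (E.hyperfocalSubgroup p) := Helper26.finite_of_le hleE
      have hidx2 : DE.HasPPowerIndexIn F p := by
        refine ⟨fun P φ hφ => hidx.1 P (hDE.2.1 P hφ), by rw [hhyp], fun P hP => ?_⟩
        have hPT : P ≤ T := hP.trans (hyperfocal_le_top E p)
        exact (pRes_map_le (hidx.2.2 P hPT)).trans (hDE.2.2.2 P hP)
      have h3 : Same DE D := ⟨hhyp, fun P => Helper26.pPowerIndex_unique hhyp (hS.to_le hleE) hleE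
        DE D hDE.1 hD.1 hidx2 hD.2 P⟩
      have h4 : Same DE' D' := pPrimeResidual_same h3 hDE' hD'
      have h5 := h4.transport (fun _ X => IsResidualLimitOf Einf X p) hlimE
      exact limit_unique hlim hp.out hfin' hS' h5

end Cfsg.Agent.Lib.Helper27
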