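import Mathlib
import Cfsg.Agent.S0120
import Cfsg.Agent.Lib.Helper13.Omega
import Cfsg.Agent.Lib.Helper2.GrpClass2
import Cfsg.Agent.Lib.Helper2.GrpBasic
import Cfsg.Agent.Lib.Helper26.PRes
import Cfsg.Agent.Lib.Helper27.FusionMore

set_option autoImplicit false

namespace Cfsg.Agent.Lib.Helper27

open scoped commutatorElement

/-- ambient form: a `p'`-automorphism fixing a self-centralizing normal subgroup `H` of an invariant
subgroup `W` fixes `W`. -/
theorem fix_of_self_centralizing {P : Type*} [Group P] {p m : ℕ} (hP : IsPGroup p P) (hm : m.Coprime p)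
    (a : MulAut P) (ha : a ^ m = 1) (W H : Subgroup P) (hW : ∀ x ∈ W, a x ∈ W)
    (hHW : ∀ x ∈ W, ∀ h ∈ H, x * h * x⁻¹ ∈ H) (hC : W ⊓ Subgroup.centralizer (H : Set P) ≤ H)
    (hfix : ∀ h ∈ H, a h = h) : ∀ x ∈ W, a x = x := by
  intro x hx
  apply eq_of_pow_eq_one_of_fixed hP hm a ha x
  apply hfix
  apply hC
  refine ⟨W.mul_mem (W.inv_mem hx) (hW x hx), ?_⟩
  show _ ∈ Subgroup.centralizer (H : Set P)
  rw [Subgroup.mem_centralizer_iff]
  intro h hh
  have h1 := hfix _ (hHW x hx h hh)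
  rw [map_mul, map_mul, map_inv, hfix h hh] at h1
  calc h * (x⁻¹ * a x) = x⁻¹ * (x * h * x⁻¹) * a x := by group
    _ = x⁻¹ * (a x * h * (a x)⁻¹) * a x := by rw [h1]
    _ = x⁻¹ * a x * h := by group

/-- Lemma K: a `p'`-automorphism of a `p`-group fixing the elements of order `p` (or `≤ 4`) is trivial;
ambient form on an invariant subgroup. -/
theorem fix_of_fix_small {P : Type*} [Group P] [Finite P] {p : ℕ} [Fact p.Prime] (hP : IsPGroup p P)
    (a : MulAut P) (ha : (orderOf a).Coprime p) (C : Subgroup P) (hC : ∀ x, a x ∈ C ↔ x ∈ C)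
    (hfix : ∀ x ∈ C, (x ^ p = 1 ∨ (p = 2 ∧ x ^ 4 = 1)) → a x = x) : ∀ x ∈ C, a x = x := by
  have hco := Nat.Coprime.coprime_dvd_left (Cfsg.Agent.S0120.orderOf_restr_dvd a C hC) ha
  have h1 : Cfsg.Agent.S0120.restr a C hC = 1 := by
    by_cases hp : p = 2
    · subst hp
      apply Cfsg.Agent.Lib.Helper13.aut_trivial_of_fix_four (hP.to_subgroup C) _ hco
      intro x hx
      apply Subtype.ext
      rw [Cfsg.Agent.S0120.restr_apply]
      apply hfix x x.2
      right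
      exact ⟨rfl, by simpa using congrArg Subtype.val hx⟩
    · apply Cfsg.Agent.S0120.result hp (hP.to_subgroup C) _ hco
      intro x hx
      apply Subtype.ext
      rw [Cfsg.Agent.S0120.restr_apply]
      apply hfix x x.2
      left
      simpa using congrArg Subtype.val hx
  intro x hx
  have := congrArg (fun b : MulAut C => ((b ⟨x, hx⟩ : C) : P)) h1
  simpa [Cfsg.Agent.S0120.restr_apply] using this

/-- in a finite `p`-group a nontrivial normal subgroup contains a central element of order `p`. -/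
theorem exists_central_order_p {Q : Type*} [Group Q] [Finite Q] {p : ℕ} [Fact p.Prime]
    (hQ : IsPGroup p Q) (N : Subgroup Q) [N.Normal] (hN : N ≠ ⊥) :
    ∃ w ∈ N, w ∈ Subgroup.center Q ∧ w ≠ 1 ∧ w ^ p = 1 := by
  obtain ⟨w, hwN, hwc, hw1⟩ := Cfsg.Agent.Lib.Helper2.exists_mem_center_of_normal_of_isPGroup hQ N hN
  classical
  have hex : ∃ k, w ^ p ^ k = 1 := hQ w
  have hk0 : Nat.find hex ≠ 0 := by
    intro h0
    have := Nat.find_spec hex
    rw [h0] at this
    simp at this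
    exact hw1 this
  obtain ⟨k, hk⟩ := Nat.exists_eq_succ_of_ne_zero hk0
  refine ⟨w ^ p ^ k, N.pow_mem hwN _, Subgroup.pow_mem _ hwc _, ?_, ?_⟩
  · exact Nat.find_min hex (by omega)
  · rw [← pow_mul, ← pow_succ]
    have := Nat.find_spec hex
    rwa [hk] at this


section crit

variable {P : Type*} [Group P]

/-- invariance of a subgroup under a group of automorphisms -/
def AInv (G : Subgroup (MulAut P)) (X : Subgroup P) : Prop := ∀ α ∈ G, ∀ x ∈ X, α x ∈ X

theorem AInv.conj_mem {G : Subgroup (MulAut P)} (hG : (MulAut.conj : P →* MulAut P).range ≤ G)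
    {X : Subgroup P} (h : AInv G X) (g : P) {x : P} (hx : x ∈ X) : g * x * g⁻¹ ∈ X :=
  h (MulAut.conj g) (hG ⟨g, rfl⟩) x hx

theorem AInv.normal {G : Subgroup (MulAut P)} (hG : (MulAut.conj : P →* MulAut P).range ≤ G)
    {X : Subgroup P} (h : AInv G X) : X.Normal := ⟨fun _ hx g => h.conj_mem hG g hx⟩

theorem AInv.mem_iff {G : Subgroup (MulAut P)} {X : Subgroup P} (h : AInv G X) {α : MulAut P}
    (hα : α ∈ G) (x : P) : α x ∈ X ↔ x ∈ X := by
  refine ⟨fun hx => ?_, h α hα x⟩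
  have := h α⁻¹ (G.inv_mem hα) _ hx
  simpa using this

theorem AInv.map_eq {G : Subgroup (MulAut P)} {X : Subgroup P} (h : AInv G X) {α : MulAut P}
    (hα : α ∈ G) : X.map α.toMonoidHom = X := by
  apply le_antisymm
  · rintro _ ⟨x, hx, rfl⟩
    exact h α hα x hx
  · intro x hx
    exact ⟨α⁻¹ x, h α⁻¹ (G.inv_mem hα) x hx, by simp⟩

theorem AInv.centralizer {G : Subgroup (MulAut P)} {X : Subgroup P} (h : AInv G X) :
    AInv G (Subgroup.centralizer (X : Set P)) := by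
  intro α hα x hx
  rw [Subgroup.mem_centralizer_iff] at hx ⊢
  intro z hz
  have h1 := hx (α⁻¹ z) (h α⁻¹ (G.inv_mem hα) z hz)
  have h2 := congrArg α h1
  simpa using h2

theorem AInv.inf {G : Subgroup (MulAut P)} {X Y : Subgroup P} (hX : AInv G X) (hY : AInv G Y) :
    AInv G (X ⊓ Y) := fun α hα x hx => ⟨hX α hα x hx.1, hY α hα x hx.2⟩

/-- The relative critical subgroup attached to an abelian normal subgroup `Z` inside `W`. -/
def critOf (p : ℕ) (W Z : Subgroup P) (hZn : Z.Normal) : Subgroup P where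
  carrier := {x | x ∈ W ∧ x ∈ Subgroup.centralizer (Z : Set P) ∧ x ^ p ∈ Z ∧
    ∀ g : P, x * g * x⁻¹ * g⁻¹ ∈ Z}
  one_mem' := ⟨one_mem _, one_mem _, by simp [one_mem], by intro g; simp [one_mem]⟩
  inv_mem' := by
    rintro x ⟨h1, h2, h3, h4⟩
    refine ⟨inv_mem h1, inv_mem h2, by rw [inv_pow]; exact inv_mem h3, fun g => ?_⟩
    have := hZn.conj_mem _ (Z.inv_mem (h4 g)) x⁻¹
    have e : x⁻¹ * (x * g * x⁻¹ * g⁻¹)⁻¹ * x⁻¹⁻¹ = x⁻¹ * g * x⁻¹⁻¹ * g⁻¹ := by group
    rwa [e] at this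
  mul_mem' := by
    rintro x y ⟨h1, h2, h3, h4⟩ ⟨k1, k2, k3, k4⟩
    refine ⟨mul_mem h1 k1, mul_mem h2 k2, ?_, fun g => ?_⟩
    · have hz : y * x * y⁻¹ * x⁻¹ ∈ Z := k4 x
      have hrel : y * x = (y * x * y⁻¹ * x⁻¹) * (x * y) := by group
      have hu : Commute (y * x * y⁻¹ * x⁻¹) x := (Subgroup.mem_centralizer_iff.mp h2 _ hz)
      have hv : Commute (y * x * y⁻¹ * x⁻¹) y := (Subgroup.mem_centralizer_iff.mp k2 _ hz)
      rw [Cfsg.Agent.Lib.Helper2.mul_pow_of_rel' hrel hu hv p]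
      exact Z.mul_mem (Z.pow_mem hz _) (Z.mul_mem h3 k3)
    · have := Z.mul_mem (hZn.conj_mem _ (k4 g) x) (h4 g)
      have e : x * (y * g * y⁻¹ * g⁻¹) * x⁻¹ * (x * g * x⁻¹ * g⁻¹) = x * y * g * (x * y)⁻¹ * g⁻¹ := by
        group
      rwa [e] at this

theorem mem_critOf {p : ℕ} {W Z : Subgroup P} {hZn : Z.Normal} {x : P} :
    x ∈ critOf p W Z hZn ↔ x ∈ W ∧ x ∈ Subgroup.centralizer (Z : Set P) ∧ x ^ p ∈ Z ∧
    ∀ g : P, x * g * x⁻¹ * g⁻¹ ∈ Z := Iff.rfl

/-- the exponent used: `p` for odd `p`, `4` for `p = 2`. -/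
def smallExp (p : ℕ) : ℕ := if p = 2 then 4 else p

theorem dvd_choose_smallExp {p : ℕ} (hp : p.Prime) : p ∣ (smallExp p).choose 2 := by
  unfold smallExp
  split_ifs with h
  · subst h; decide
  · exact hp.dvd_choose_self (by norm_num) (lt_of_le_of_ne hp.two_le (Ne.symm h))

theorem pow_smallExp_iff {p : ℕ} (x : P) :
    x ^ smallExp p = 1 ↔ (x ^ p = 1 ∨ (p = 2 ∧ x ^ 4 = 1)) := by
  unfold smallExp
  split_ifs with h
  · subst h
    constructor
    · intro hx; exact Or.inr ⟨rfl, hx⟩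
    · rintro (hx | ⟨-, hx⟩)
      · rw [show 4 = 2 * 2 from rfl, pow_mul, hx, one_pow]
      · exact hx
  · constructor
    · intro hx; exact Or.inl hx
    · rintro (hx | ⟨h2, -⟩)
      · exact hx
      · exact absurd h2 h

/-- `Ω` of the relative critical subgroup: its elements of small order form a subgroup. -/
def omegaCrit (p : ℕ) (hp : p.Prime) (W Z : Subgroup P) (hZn : Z.Normal) : Subgroup P where
  carrier := {x | x ∈ critOf p W Z hZn ∧ x ^ smallExp p = 1}
  one_mem' := ⟨one_mem _, one_pow _⟩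
  inv_mem' := by
    rintro x ⟨h1, h2⟩
    exact ⟨inv_mem h1, by rw [inv_pow, h2, inv_one]⟩
  mul_mem' := by
    rintro x y ⟨hx, hx'⟩ ⟨hy, hy'⟩
    refine ⟨mul_mem hx hy, ?_⟩
    obtain ⟨h1, h2, h3, h4⟩ := hx
    obtain ⟨k1, k2, k3, k4⟩ := hy
    have hz : y * x * y⁻¹ * x⁻¹ ∈ Z := k4 x
    have hrel : y * x = (y * x * y⁻¹ * x⁻¹) * (x * y) := by group
    have hu : Commute (y * x * y⁻¹ * x⁻¹) x := (Subgroup.mem_centralizer_iff.mp h2 _ hz)
    have hv : Commute (y * x * y⁻¹ * x⁻¹) y := (Subgroup.mem_centralizer_iff.mp k2 _ hz)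
    have hzp : (y * x * y⁻¹ * x⁻¹) ^ p = 1 := by
      have e := Cfsg.Agent.Lib.Helper2.pow_mul_of_rel hrel hv p
      have e2 : y ^ p * x = x * y ^ p := Subgroup.mem_centralizer_iff.mp h2 _ k3
      rw [e2] at e
      exact (mul_eq_right.mp e.symm)
    rw [Cfsg.Agent.Lib.Helper2.mul_pow_of_rel' hrel hu hv, hx', hy']
    obtain ⟨k, hk⟩ := dvd_choose_smallExp hp
    rw [hk, pow_mul, hzp, one_pow, one_mul, one_mul]


theorem abelian_adjoin {A : Subgroup P} (hA : ∀ a ∈ A, ∀ b ∈ A, a * b = b * a) {x : P}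
    (hx : ∀ a ∈ A, a * x = x * a) :
    IsMulCommutative ↥(Subgroup.closure ((A : Set P) ∪ {x})) := by
  apply Subgroup.isMulCommutative_closure
  rintro a (ha | ha) b (hb | hb)
  · exact hA a ha b hb
  · rw [Set.mem_singleton_iff] at hb; subst hb; exact hx a ha
  · rw [Set.mem_singleton_iff] at ha; subst ha; exact (hx b hb).symm
  · rw [Set.mem_singleton_iff] at ha hb; subst ha; subst hb; rfl

/-- a maximal abelian subgroup `A` of `D` contains every element of `D` centralizing it -/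
theorem mem_of_maximal_abelian {A D : Subgroup P} (hAD : A ≤ D) (hA : IsMulCommutative ↥A)
    (hmax : ∀ B : Subgroup P, A ≤ B → B ≤ D → IsMulCommutative ↥B → B = A) {x : P} (hxD : x ∈ D)
    (hx : ∀ a ∈ A, a * x = x * a) : x ∈ A := by
  have hA' : ∀ a ∈ A, ∀ b ∈ A, a * b = b * a := fun a ha b hb =>
    congrArg Subtype.val (mul_comm' (⟨a, ha⟩ : A) ⟨b, hb⟩)
  have := hmax (Subgroup.closure ((A : Set P) ∪ {x}))
    (fun a ha => Subgroup.subset_closure (Or.inl ha))
    ((Subgroup.closure_le _).mpr (by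
      rintro a (ha | ha)
      · exact hAD ha
      · rw [Set.mem_singleton_iff] at ha; subst ha; exact hxD))
    (abelian_adjoin hA' hx)
  rw [← this]
  exact Subgroup.subset_closure (Or.inr rfl)

theorem exists_small_exp [Finite P] {p : ℕ} [Fact p.Prime] (hP : IsPGroup p P)
    (G : Subgroup (MulAut P)) (hG : (MulAut.conj : P →* MulAut P).range ≤ G) :
    ∃ D : Subgroup P,
      (∀ α ∈ G, D.map α.toMonoidHom = D) ∧
      D ≤ Subgroup.closure {y : P | ∃ α ∈ Cfsg.pResidual p ↥G, ∃ x : P, y = x⁻¹ * (α : MulAut P) x} ∧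
      (∀ d ∈ D, d ^ p = 1 ∨ (p = 2 ∧ d ^ 4 = 1)) ∧
      ⁅D, (⊤ : Subgroup P)⁆ ≤ D ⊓ Subgroup.centralizer (D : Set P) ∧
      (∀ α ∈ G, (orderOf α).Coprime p → (∀ d ∈ D, α d = d) → α = 1) ∧
      ∀ A : Subgroup P, A ≤ D → IsMulCommutative ↥A →
        (∀ B : Subgroup P, A ≤ B → B ≤ D → IsMulCommutative ↥B → B = A) →
        A.Normal ∧ ∀ α ∈ G, (∀ a ∈ A, α a = a) → ∃ k : ℕ, orderOf α = p ^ k := by
  have hp : p.Prime := Fact.out
  set W : Subgroup P :=
    Subgroup.closure {y : P | ∃ α ∈ Cfsg.pResidual p ↥G, ∃ x : P, y = x⁻¹ * (α : MulAut P) x} with hWdef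
  have hWinv : AInv G W := by
    intro β hβ
    have : W ≤ W.comap β.toMonoidHom := by
      refine (Subgroup.closure_le _).mpr ?_
      rintro _ ⟨α, hα, x, rfl⟩
      show β (x⁻¹ * (α : MulAut P) x) ∈ W
      have hN : (Cfsg.pResidual p ↥G).Normal := Cfsg.Agent.Lib.Helper26.pResidual_normal p
      have h1 := hN.conj_mem α hα ⟨β, hβ⟩
      refine Subgroup.subset_closure ⟨_, h1, β x, ?_⟩
      simp [map_mul, map_inv]
    exact fun x hx => this hx
  -- the maximal invariant abelian subgroup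
  obtain ⟨Z, hZ⟩ := (Set.toFinite {X : Subgroup P | X ≤ W ∧ AInv G X ∧ ∀ a ∈ X, ∀ b ∈ X, a * b = b * a}).exists_maximal
    ⟨⊥, bot_le, fun α _ x hx => by rw [Subgroup.mem_bot] at hx ⊢; rw [hx, map_one],
      fun a ha b hb => by rw [Subgroup.mem_bot] at ha hb; rw [ha, hb]⟩
  obtain ⟨⟨hZW, hZinv, hZab⟩, hZmax⟩ := hZ
  have hZn : Z.Normal := hZinv.normal hG
  set C := critOf p W Z hZn with hCdef
  have hZC : Z ≤ C := by
    intro z hz
    refine ⟨hZW hz, Subgroup.mem_centralizer_iff.mpr (fun a ha => hZab a ha z hz), Z.pow_mem hz _,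
      fun g => ?_⟩
    have := Z.mul_mem hz (hZn.conj_mem _ (Z.inv_mem hz) g)
    rwa [← mul_assoc, ← mul_assoc] at this
  have hCinv : AInv G C := by
    rintro α hα x ⟨h1, h2, h3, h4⟩
    refine ⟨hWinv α hα x h1, hZinv.centralizer α hα x h2, by rw [← map_pow]; exact hZinv α hα _ h3,
      fun g => ?_⟩
    have := hZinv α hα _ (h4 (α⁻¹ g))
    simpa using this
  have hCW : C ≤ W := fun x hx => hx.1
  have hCcZ : C ≤ Subgroup.centralizer (Z : Set P) := fun x hx => hx.2.1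
  have hZC' : C ⊓ Subgroup.centralizer (C : Set P) ≤ Z := by
    apply hZmax
    · refine ⟨fun x hx => hCW hx.1, hCinv.inf hCinv.centralizer, fun a ha b hb => ?_⟩
      exact Subgroup.mem_centralizer_iff.mp hb.2 a ha.1
    · intro z hz
      refine ⟨hZC hz, ?_⟩
      show z ∈ Subgroup.centralizer (C : Set P)
      rw [Subgroup.mem_centralizer_iff]
      intro c hc
      exact (Subgroup.mem_centralizer_iff.mp (hCcZ hc) z hz).symm
  have hself : W ⊓ Subgroup.centralizer (C : Set P) ≤ Z := by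
    by_contra hcon
    have hQinv : AInv G (W ⊓ Subgroup.centralizer (C : Set P)) := hWinv.inf hCinv.centralizer
    have hQn : (W ⊓ Subgroup.centralizer (C : Set P)).Normal := hQinv.normal hG
    have hN : ((W ⊓ Subgroup.centralizer (C : Set P)).map (QuotientGroup.mk' Z)).Normal :=
      hQn.map _ (QuotientGroup.mk'_surjective Z)
    have hne : (W ⊓ Subgroup.centralizer (C : Set P)).map (QuotientGroup.mk' Z) ≠ ⊥ := by
      intro h
      rw [Subgroup.map_eq_bot_iff, QuotientGroup.ker_mk'] at h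
      exact hcon h
    obtain ⟨w, ⟨x, hxQ, rfl⟩, hwc, hw1, hwp⟩ := exists_central_order_p (hP.to_quotient Z) _ hne
    have hxZ : x ∉ Z := fun h => hw1 ((QuotientGroup.eq_one_iff x).mpr h)
    have hxC : x ∈ C := by
      refine ⟨hxQ.1, Subgroup.centralizer_le hZC hxQ.2, ?_, fun g => ?_⟩
      · rw [← QuotientGroup.eq_one_iff]
        exact hwp
      · rw [← QuotientGroup.eq_one_iff]
        have := Subgroup.mem_center_iff.mp hwc (QuotientGroup.mk' Z g)
        show (QuotientGroup.mk' Z x) * (QuotientGroup.mk' Z g) * (QuotientGroup.mk' Z x)⁻¹ *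
          (QuotientGroup.mk' Z g)⁻¹ = 1
        rw [← this]
        group
    exact hxZ (hZC' ⟨hxC, hxQ.2⟩)
  set D := omegaCrit p hp W Z hZn with hDdef
  have hDC : D ≤ C := fun x hx => hx.1
  have hDinv : AInv G D := by
    rintro α hα x ⟨h1, h2⟩
    exact ⟨hCinv α hα x h1, by rw [← map_pow, h2, map_one]⟩
  have hcomm : ⁅D, (⊤ : Subgroup P)⁆ ≤ D ⊓ Subgroup.centralizer (D : Set P) := by
    rw [Subgroup.commutator_le]
    intro d hd g _
    have hdn : g * d⁻¹ * g⁻¹ ∈ D := hDinv.conj_mem hG g (D.inv_mem hd)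
    refine ⟨?_, ?_⟩
    · have := D.mul_mem hd hdn
      rw [commutatorElement_def]
      rwa [← mul_assoc, ← mul_assoc] at this
    · have h1 : ⁅d, g⁆ ∈ Z := hd.1.2.2.2 g
      show ⁅d, g⁆ ∈ Subgroup.centralizer (D : Set P)
      rw [Subgroup.mem_centralizer_iff]
      intro c hc
      exact (Subgroup.mem_centralizer_iff.mp (hCcZ (hDC hc)) _ h1).symm
  have hfaith : ∀ α ∈ G, (orderOf α).Coprime p → (∀ d ∈ D, α d = d) → α = 1 := by
    intro α hα hco hfix
    have h1 : ∀ x ∈ C, α x = x := by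
      apply fix_of_fix_small hP α hco C (hCinv.mem_iff hα)
      intro x hx hx'
      exact hfix x ⟨hx, (pow_smallExp_iff x).mpr hx'⟩
    have h2 : ∀ x ∈ W, α x = x := by
      apply fix_of_self_centralizing hP hco α (pow_orderOf_eq_one α) W C (hWinv α hα)
        (fun x _ h hh => hCinv.conj_mem hG x hh) (hself.trans hZC) h1
    ext x
    rw [MulAut.one_apply]
    apply eq_of_pow_eq_one_of_fixed hP hco α (pow_orderOf_eq_one α) x
    apply h2
    apply Subgroup.subset_closure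
    refine ⟨⟨α, hα⟩, Cfsg.Agent.Lib.Helper26.mem_pResidual_of_coprime ?_, x, rfl⟩
    rwa [Subgroup.orderOf_mk]
  refine ⟨D, fun α hα => hDinv.map_eq hα, hDC.trans hCW, fun d hd => (pow_smallExp_iff d).mp hd.2,
    hcomm, hfaith, ?_⟩
  intro A hAD hA hmax
  have hcenA : ∀ x ∈ D, (∀ a ∈ A, a * x = x * a) → x ∈ A := fun x hxD hx =>
    mem_of_maximal_abelian hAD hA hmax hxD hx
  have hZDA : D ⊓ Subgroup.centralizer (D : Set P) ≤ A := by
    intro x hx
    exact hcenA x hx.1 (fun a ha => Subgroup.mem_centralizer_iff.mp hx.2 a (hAD ha))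
  have hAn : ∀ a ∈ A, ∀ g : P, g * a * g⁻¹ ∈ A := by
    intro a ha g
    have h1 : ⁅a, g⁆ ∈ A :=
      hZDA (hcomm (Subgroup.commutator_mem_commutator (hAD ha) (Subgroup.mem_top g)))
    have h2 := A.mul_mem (A.inv_mem h1) ha
    have e : ⁅a, g⁆⁻¹ * a = g * a * g⁻¹ := by rw [commutatorElement_def]; group
    rwa [e] at h2
  refine ⟨⟨hAn⟩, fun α hα hfix => ?_⟩
  have hpos : orderOf α ≠ 0 := (orderOf_pos α).ne'
  obtain ⟨k, m, hm, hn⟩ := Nat.exists_eq_pow_mul_and_not_dvd hpos p hp.ne_one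
  have hmco : m.Coprime p := ((Nat.Prime.coprime_iff_not_dvd hp).mpr hm).symm
  have hβm : (α ^ p ^ k) ^ m = 1 := by rw [← pow_mul, ← hn, pow_orderOf_eq_one]
  have hβG : α ^ p ^ k ∈ G := G.pow_mem hα _
  have hβfix : ∀ a ∈ A, (α ^ p ^ k) a = a := by
    intro a ha
    generalize p ^ k = n
    induction n with
    | zero => simp
    | succ n ih => rw [pow_succ, MulAut.mul_apply, hfix a ha, ih]
  have hβD : ∀ x ∈ D, (α ^ p ^ k) x = x := by
    apply fix_of_self_centralizing hP hmco _ hβm D A (hDinv _ hβG) (fun x _ h hh => hAn h hh x) _ hβfix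
    intro x hx
    exact hcenA x hx.1 (fun a ha => Subgroup.mem_centralizer_iff.mp hx.2 a ha)
  have hβ1 : α ^ p ^ k = 1 :=
    hfaith _ hβG (Nat.Coprime.coprime_dvd_left (orderOf_dvd_of_pow_eq_one hβm) hmco) hβD
  obtain ⟨j, -, hj⟩ := (Nat.dvd_prime_pow hp).mp (orderOf_dvd_of_pow_eq_one hβ1)
  exact ⟨j, hj⟩

end crit

end Cfsg.Agent.Lib.Helper27
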