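import Cfsg.Agent.Lib.Helper17.SE

set_option autoImplicit false

namespace Cfsg.Agent.Lib.Helper27.SpeT

open Cfsg Cfsg.Agent.Lib.Helper17

variable {E X : Type*} [Group E] [Group X]

/-- elements acting as "transvections" with centre `z` -/
def TV (ρ : X →* MulAut E) (z : E) : Subgroup X where
  carrier := {x | ρ x z = z ∧ ∀ e, ∃ k : ℤ, ρ x e = e * z ^ k}
  one_mem' := ⟨by simp, fun e => ⟨0, by simp⟩⟩
  mul_mem' := by
    rintro a b ⟨a1, a2⟩ ⟨b1, b2⟩
    refine ⟨by rw [map_mul, MulAut.mul_apply, b1, a1], fun e => ?_⟩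
    obtain ⟨k, hk⟩ := b2 e
    obtain ⟨l, hl⟩ := a2 e
    refine ⟨l + k, ?_⟩
    rw [map_mul, MulAut.mul_apply, hk, map_mul, map_zpow, a1, hl, zpow_add, mul_assoc]
  inv_mem' := by
    rintro a ⟨a1, a2⟩
    have hinv : ∀ e e', ρ a e = e' → ρ a⁻¹ e' = e := by
      intro e e' h
      rw [← h, map_inv, MulAut.inv_apply_self]
    refine ⟨hinv _ _ a1, fun e => ?_⟩
    obtain ⟨k, hk⟩ := a2 e
    refine ⟨-k, hinv _ _ ?_⟩
    rw [map_mul, map_zpow, a1, hk, mul_assoc, ← zpow_add]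
    simp

theorem TV_pow {ρ : X →* MulAut E} {z : E} {x : X} (hx : x ∈ TV ρ z) {e : E} {k : ℤ}
    (hk : ρ x e = e * z ^ k) (n : ℕ) : ρ (x ^ n) e = e * z ^ ((n : ℤ) * k) := by
  induction n with
  | zero => simp
  | succ n ih =>
    rw [pow_succ', map_mul, MulAut.mul_apply, ih, map_mul, map_zpow, hx.1, hk, mul_assoc,
      ← zpow_add]
    congr 2
    push_cast
    ring

theorem TV_isPGroup {ρ : X →* MulAut E} (hρ : Function.Injective ρ) {p : ℕ} {z : E}
    (hz : z ^ p = 1) : IsPGroup p (TV ρ z) := by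
  rintro ⟨x, hx⟩
  refine ⟨1, Subtype.ext ?_⟩
  show x ^ (p ^ 1) = 1
  rw [pow_one]
  apply hρ
  ext e
  obtain ⟨k, hk⟩ := hx.2 e
  rw [TV_pow hx hk, map_one, MulAut.one_apply, zpow_mul, zpow_natCast, hz, one_zpow, mul_one]

theorem TV_conj {ρ : X →* MulAut E} {z : E} {x : X} (hx : x ∈ TV ρ z) (g : X) :
    g * x * g⁻¹ ∈ TV ρ (ρ g z) := by
  have e1 : ∀ e, ρ (g * x * g⁻¹) e = ρ g (ρ x (ρ g⁻¹ e)) := by
    intro e
    rw [map_mul, map_mul, MulAut.mul_apply, MulAut.mul_apply]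
  have e2 : ∀ e, ρ g⁻¹ (ρ g e) = e := by
    intro e
    rw [map_inv, MulAut.inv_apply_self]
  have e3 : ∀ e, ρ g (ρ g⁻¹ e) = e := by
    intro e
    rw [map_inv, MulAut.apply_inv_self]
  refine ⟨by rw [e1, e2, hx.1], fun e => ?_⟩
  obtain ⟨k, hk⟩ := hx.2 (ρ g⁻¹ e)
  exact ⟨k, by rw [e1, hk, map_mul, e3, map_zpow]⟩

theorem key [Finite X] (p : ℕ) [Fact p.Prime] (ρ : X →* MulAut E) (hρ : Function.Injective ρ)
    {M : Subgroup X} (hM : SEc p M) (R : Subgroup X) (hRM : R ≤ M) (hcard : p < Nat.card R)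
    (z0 : E) (hz0 : z0 ^ p = 1) (hR : R ≤ TV ρ z0) : M = ⊤ := by
  classical
  rw [eq_top_iff]
  intro g _
  have hRp : IsPGroup p R := (TV_isPGroup hρ hz0).to_le hR
  obtain ⟨z', hz'⟩ : ∃ z', z' = ρ g z0 := ⟨_, rfl⟩
  have hz'p : z' ^ p = 1 := by rw [hz', ← map_pow, hz0, map_one]
  -- an element of `R` fixing `z'`
  have hfinZ : Finite (Subgroup.zpowers z0) := by
    apply Nat.finite_of_card_ne_zero
    rw [Nat.card_zpowers]
    exact (orderOf_pos_iff.2 (isOfFinOrder_iff_pow_eq_one.2 ⟨p, (Fact.out : p.Prime).pos, hz0⟩)).ne'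
  have hcardZ : Nat.card (Subgroup.zpowers z0) ≤ p := by
    rw [Nat.card_zpowers]
    exact Nat.le_of_dvd (Fact.out : p.Prime).pos (orderOf_dvd_of_pow_eq_one hz0)
  obtain ⟨r1, r2, hne, heq⟩ : ∃ r1 r2 : R, r1 ≠ r2 ∧ ρ r1 z' = ρ r2 z' := by
    let f : R → Subgroup.zpowers z0 := fun r => ⟨z'⁻¹ * ρ r z', by
      obtain ⟨k, hk⟩ := (hR r.2).2 z'
      rw [hk, inv_mul_cancel_left]
      exact Subgroup.zpow_mem_zpowers z0 k⟩
    have hfR : Fintype R := Fintype.ofFinite R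
    have hfZ : Fintype (Subgroup.zpowers z0) := Fintype.ofFinite _
    obtain ⟨r1, r2, hne, heq⟩ := Fintype.exists_ne_map_eq_of_card_lt f (by
      rw [← Nat.card_eq_fintype_card, ← Nat.card_eq_fintype_card]
      exact lt_of_le_of_lt hcardZ hcard)
    refine ⟨r1, r2, hne, ?_⟩
    have := congrArg Subtype.val heq
    exact mul_left_cancel this
  obtain ⟨r0, hr0⟩ : ∃ r0 : X, r0 = (r2 : X)⁻¹ * r1 := ⟨_, rfl⟩
  have hr0R : r0 ∈ R := by rw [hr0]; exact mul_mem (inv_mem r2.2) r1.2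
  have hr0ne : r0 ≠ 1 := by
    rw [hr0]
    intro h
    exact hne (Subtype.ext (inv_mul_eq_one.1 h).symm)
  have hr0z : ρ r0 z' = z' := by
    rw [hr0, map_mul, MulAut.mul_apply, heq, map_inv, MulAut.inv_apply_self]
  -- `r0` normalizes `TV ρ z'`
  have hnorm : Subgroup.zpowers r0 ≤ Subgroup.normalizer ((TV ρ z' : Subgroup X) : Set X) := by
    rw [Subgroup.zpowers_le, Subgroup.mem_normalizer_iff]
    intro y
    constructor
    · intro hy
      have := TV_conj hy r0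
      rwa [hr0z] at this
    · intro hy
      have := TV_conj hy r0⁻¹
      have e : ρ r0⁻¹ z' = z' := by
        conv_lhs => rw [← hr0z]
        rw [map_inv, MulAut.inv_apply_self]
      rw [e] at this
      have e2 : r0⁻¹ * (r0 * y * r0⁻¹) * r0⁻¹⁻¹ = y := by group
      rwa [e2] at this
  have hzp : IsPGroup p (Subgroup.zpowers r0) := hRp.to_le (by rw [Subgroup.zpowers_le]; exact hr0R)
  have hsup : IsPGroup p (Subgroup.zpowers r0 ⊔ TV ρ z' : Subgroup X) :=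
    hzp.to_sup_of_normal_right' (TV_isPGroup hρ hz'p) hnorm
  have hle : (Subgroup.zpowers r0 ⊔ TV ρ z' : Subgroup X) ≤ M := by
    refine hM.pgroup_le hsup ?_
    intro h0
    have : r0 ∈ (Subgroup.zpowers r0 ⊔ TV ρ z' : Subgroup X) ⊓ M :=
      ⟨Subgroup.mem_sup_left (Subgroup.mem_zpowers r0), hRM hr0R⟩
    rw [h0] at this
    exact hr0ne (Subgroup.mem_bot.1 this)
  -- conjugate of `R`
  have hRg : R.map (MulAut.conj g).toMonoidHom ≤ M ⊓ M.map (MulAut.conj g).toMonoidHom := by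
    refine le_inf ?_ (Subgroup.map_mono hRM)
    rintro _ ⟨r, hr, rfl⟩
    refine hle (Subgroup.mem_sup_right ?_)
    rw [hz']
    exact TV_conj (hR hr) g
  refine hM.mem_of_dvd ?_
  have hRne : R ≠ ⊥ := by
    rintro rfl
    exact hr0ne (Subgroup.mem_bot.1 hr0R)
  exact (dvd_card_of_pgroup_ne_bot (hRp.map _) (map_conj_ne_bot hRne g)).trans
    (Subgroup.card_dvd_of_le hRg)

theorem false_of_spe [Finite X] (p : ℕ) [Fact p.Prime] (ρ : X →* MulAut E)
    (hρ : Function.Injective ρ) {M : Subgroup X} (hM : IsStronglyPEmbedded p M) (R : Subgroup X)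
    (hcard : p < Nat.card R) (z0 : E) (hz0 : z0 ^ p = 1) (hR : R ≤ TV ρ z0) : False := by
  obtain ⟨hpM, hMtop, hSE⟩ := isStronglyPEmbedded_iff.1 hM
  have hRp : IsPGroup p R := (TV_isPGroup hρ hz0).to_le hR
  obtain ⟨x, hxM, hxo⟩ := exists_orderOf_eq_of_dvd_card hpM
  obtain ⟨P0, hP0⟩ := (zpowers_isPGroup_of_orderOf hxo).exists_le_sylow
  have hP0M : (P0 : Subgroup X) ≤ M := by
    refine hSE.pgroup_le P0.2 ?_
    intro h0
    have : x ∈ (P0 : Subgroup X) ⊓ M := ⟨hP0 (Subgroup.mem_zpowers x), hxM⟩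
    rw [h0, Subgroup.mem_bot] at this
    rw [this, orderOf_one] at hxo
    exact (Fact.out : p.Prime).one_lt.ne hxo
  obtain ⟨P, hP⟩ := hRp.exists_le_sylow
  obtain ⟨g, hg⟩ := MulAction.exists_smul_eq X P0 P
  have hPM : (P : Subgroup X) ≤ M.map (MulAut.conj g).toMonoidHom := by
    rw [← hg, Sylow.coe_subgroup_smul]
    exact Subgroup.map_mono hP0M
  have h1 := key p ρ hρ (hSE.map_conj g) R (hP.trans hPM) hcard z0 hz0 hR
  apply hMtop
  rw [eq_top_iff]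
  intro y _
  have : g * y * g⁻¹ ∈ M.map (MulAut.conj g).toMonoidHom := by rw [h1]; trivial
  obtain ⟨m, hm, hmy⟩ := this
  have : m = y := by
    have h2 : g * m * g⁻¹ = g * y * g⁻¹ := hmy
    exact mul_left_cancel (mul_right_cancel h2)
  rwa [← this]

end Cfsg.Agent.Lib.Helper27.SpeT
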