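import Cfsg.Agent.Lib.Helper27.SpeTransv
import Cfsg.Agent.Lib.Helper26.NormalCrit

set_option autoImplicit false

namespace Cfsg.Agent.Lib.Helper27.SpeT

open Cfsg Cfsg.FusionSystem Cfsg.Agent.Lib.Helper17 Cfsg.Agent.Lib.Helper27
open scoped commutatorElement

section tv

variable {E X : Type*} [Group E] [Group X]

theorem TV_le {ρ : X →* MulAut E} {z z' : E} (h1 : z' ∈ Subgroup.zpowers z)
    (h2 : z ∈ Subgroup.zpowers z') : TV ρ z' ≤ TV ρ z := by
  rintro y ⟨y1, y2⟩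
  obtain ⟨j, hj⟩ := Subgroup.mem_zpowers_iff.1 h1
  obtain ⟨i, hi⟩ := Subgroup.mem_zpowers_iff.1 h2
  refine ⟨by rw [← hi, map_zpow, y1], fun e => ?_⟩
  obtain ⟨k, hk⟩ := y2 e
  exact ⟨j * k, by rw [hk, ← hj, ← zpow_mul]⟩

end tv

variable {Ω : Type*} [Group Ω]

/-- data extracted from an extraspecial group -/
structure XS (p : ℕ) (Q : Subgroup Ω) (z0 : Ω) : Prop where
  mem : z0 ∈ Q
  comm : ∀ x ∈ Q, x * z0 = z0 * x
  pow : z0 ^ p = 1
  ne : z0 ≠ 1
  commutator : ∀ a ∈ Q, ∀ b ∈ Q, ∃ k : ℤ, a * b * a⁻¹ * b⁻¹ = z0 ^ k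
  center : ∀ y ∈ Q, (∀ x ∈ Q, x * y = y * x) → ∃ k : ℤ, y = z0 ^ k

theorem exists_XS {p : ℕ} [Fact p.Prime] {Q : Subgroup Ω} (hQ : IsExtraspecial p Q) :
    ∃ z0, XS p Q z0 := by
  have hcard := hQ.2
  have hfin : Finite (Subgroup.center Q) :=
    Nat.finite_of_card_ne_zero (by rw [hcard]; exact (Fact.out : p.Prime).ne_zero)
  have hnt : Nontrivial (Subgroup.center Q) :=
    Finite.one_lt_card_iff_nontrivial.1 (by rw [hcard]; exact (Fact.out : p.Prime).one_lt)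
  obtain ⟨z, hz⟩ := exists_ne (1 : Subgroup.center Q)
  have hgen : ∀ y : Q, y ∈ Subgroup.center Q → ∃ k : ℤ, (y : Ω) = ((z : Q) : Ω) ^ k := by
    intro y hy
    obtain ⟨k, hk⟩ := Subgroup.mem_zpowers_iff.1
      (mem_zpowers_of_prime_card (g := z) (g' := ⟨y, hy⟩) hcard hz)
    refine ⟨k, ?_⟩
    have := congrArg (fun w : Subgroup.center Q => ((w : Q) : Ω)) hk
    simpa using this.symm
  refine ⟨((z : Q) : Ω), (z : Q).2, ?_, ?_, ?_, ?_, ?_⟩
  · intro x hx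
    have := Subgroup.mem_center_iff.1 z.2 ⟨x, hx⟩
    exact congrArg Subtype.val this
  · have h1 : z ^ p = 1 := by rw [← hcard]; exact pow_card_eq_one'
    have := congrArg (fun w : Subgroup.center Q => ((w : Q) : Ω)) h1
    simpa using this
  · intro h
    apply hz
    exact Subtype.ext (Subtype.ext h)
  · intro a ha b hb
    have h1 : ⁅(⟨a, ha⟩ : Q), ⟨b, hb⟩⁆ ∈ Subgroup.center Q := by
      rw [← hQ.1.2.2, commutator_def]
      exact Subgroup.commutator_mem_commutator (Subgroup.mem_top _) (Subgroup.mem_top _)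
    obtain ⟨k, hk⟩ := hgen _ h1
    exact ⟨k, by rw [← hk]; rfl⟩
  · intro y hy h
    exact hgen ⟨y, hy⟩ (Subgroup.mem_center_iff.2 (fun x => Subtype.ext (h x x.2)))

theorem essential_eq {S : Subgroup Ω} [Finite S] (p : ℕ) [Fact p.Prime] (hS : IsPGroup p S)
    {Q : Subgroup Ω} (hQS : Q ≤ S) {z0 : Ω} (hx : XS p Q z0) (hQi : (Q.subgroupOf S).index = p)
    (h6 : p ^ 6 ≤ Nat.card S) (F : FusionSystem S) {E : Subgroup Ω} (hEQ : E ≤ Q)
    (hE : F.IsEssential p E) : E = Q := by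
  classical
  have hrad := Helper26.radical_of_essential hS hE
  obtain ⟨hc, hn, hnorm, M, hM⟩ := hE
  have hES : E ≤ S := hc.1
  have hfinE : Finite E := finite_of_le hES
  have hfinQ : Finite Q := finite_of_le hQS
  have hCE : centralizerIn S E ≤ E := hc.2 E (isConj_refl F hES)
  have hz0E : z0 ∈ E := hCE (mem_centralizerIn.2 ⟨hQS hx.mem, by
    rw [Subgroup.mem_centralizer_iff]
    intro e he
    exact hx.comm e (hEQ he)⟩)
  have hconjE : ∀ x ∈ Q, ∀ e ∈ E, x * e * x⁻¹ ∈ E := by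
    intro x hxQ e he
    obtain ⟨k, hk⟩ := hx.commutator x hxQ e (hEQ he)
    have : x * e * x⁻¹ = z0 ^ k * e := by rw [← hk]; group
    rw [this]
    exact mul_mem (zpow_mem hz0E k) he
  have hQN : Q ≤ Subgroup.normalizer (E : Set Ω) := by
    intro x hxQ
    rw [Subgroup.mem_normalizer_iff]
    intro e
    refine ⟨hconjE x hxQ e, fun h => ?_⟩
    have := hconjE x⁻¹ (Subgroup.inv_mem _ hxQ) _ h
    have e2 : x⁻¹ * (x * e * x⁻¹) * x⁻¹⁻¹ = e := by group
    rwa [e2] at this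
  obtain ⟨c, hc_apply⟩ : ∃ c : Q →* MulAut E,
      ∀ (x : Q) (e : E), ((c x e : E) : Ω) = (x : Ω) * e * (x : Ω)⁻¹ :=
    ⟨E.normalizerMonoidHom.comp (Subgroup.inclusion hQN), fun x e => rfl⟩
  have hcA : ∀ x : Q, c x ∈ F.autGroup E := fun x =>
    autInducedBy_le_autGroup F hES ((mem_autInducedBy_iff S E _).2 ⟨x, hQS x.2, hc_apply x⟩)
  obtain ⟨z0E, hz0E'⟩ : ∃ z0E : E, (z0E : Ω) = z0 := ⟨⟨z0, hz0E⟩, rfl⟩
  have hz0Ep : z0E ^ p = 1 := Subtype.ext (by rw [Subgroup.coe_pow, hz0E', hx.pow]; rfl)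
  have hz0Ene : z0E ≠ 1 := fun h => hx.ne (by rw [← hz0E', h]; rfl)
  have hcomE : ∀ a b : E, ∃ k : ℤ, a * b * a⁻¹ * b⁻¹ = z0E ^ k := by
    intro a b
    obtain ⟨k, hk⟩ := hx.commutator a (hEQ a.2) b (hEQ b.2)
    exact ⟨k, Subtype.ext (by rw [Subgroup.coe_zpow, hz0E', ← hk]; rfl)⟩
  have hTV : ∀ {X' : Type _} [Group X'] (ρ' : X' →* MulAut E) (y : X') (x : Q), ρ' y = c x →
      y ∈ TV ρ' z0E := by
    intro X' _ ρ' y x hy
    refine ⟨?_, fun e => ?_⟩
    · rw [hy]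
      apply Subtype.ext
      rw [hc_apply, hz0E', hx.comm x x.2, mul_inv_cancel_right]
    · obtain ⟨k, hk⟩ := hx.commutator (e : Ω)⁻¹ (Subgroup.inv_mem _ (hEQ e.2)) x x.2
      refine ⟨k, ?_⟩
      rw [hy]
      apply Subtype.ext
      rw [hc_apply, Subgroup.coe_mul, Subgroup.coe_zpow, hz0E', ← hk]
      group
  have hK : ∀ x : Q, c x ∈ Inn E → (x : Ω) ∈ E := by
    rintro x ⟨e0, he0⟩
    have h1 : (e0 : Ω)⁻¹ * x ∈ centralizerIn S E := by
      refine mem_centralizerIn.2 ⟨mul_mem (Subgroup.inv_mem _ (hES e0.2)) (hQS x.2), ?_⟩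
      rw [Subgroup.mem_centralizer_iff]
      intro e he
      have h2 := congrArg (fun α : MulAut E => ((α ⟨e, he⟩ : E) : Ω)) he0
      simp only [hc_apply, MulAut.conj_apply, Subgroup.coe_mul, Subgroup.coe_inv] at h2
      calc e * ((e0 : Ω)⁻¹ * x) = (e0 : Ω)⁻¹ * ((e0 : Ω) * e * (e0 : Ω)⁻¹) * x := by group
        _ = (e0 : Ω)⁻¹ * ((x : Ω) * e * (x : Ω)⁻¹) * x := by rw [h2]
        _ = (e0 : Ω)⁻¹ * x * e := by group
    have h3 := mul_mem e0.2 (hCE h1)
    rwa [mul_inv_cancel_left] at h3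
  by_contra hne
  obtain ⟨x0, hx0Q, hx0E⟩ : ∃ x0 ∈ Q, x0 ∉ E := by
    by_contra hcon
    push Not at hcon
    exact hne (le_antisymm hEQ hcon)
  by_cases hab : ∀ a b : E, a * b = b * a
  · -- abelian case
    have hInn : ∀ α ∈ Inn E, α = 1 := by
      rintro _ ⟨e0, rfl⟩
      ext e
      rw [MulAut.conj_apply, hab e0 e, mul_inv_cancel_right, MulAut.one_apply]
    obtain ⟨ρ, hρ_mk⟩ : ∃ ρ : (F.autGroup E ⧸ (Inn E).subgroupOf (F.autGroup E)) →* MulAut E,
        ∀ α : F.autGroup E, ρ (QuotientGroup.mk α) = α :=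
      ⟨QuotientGroup.lift _ (F.autGroup E).subtype
        (fun α hα => hInn _ (Subgroup.mem_subgroupOf.1 hα)), fun α => rfl⟩
    have hρ : Function.Injective ρ := by
      rw [injective_iff_map_eq_one]
      intro q
      induction q using QuotientGroup.induction_on with
      | H α =>
        intro h
        rw [hρ_mk] at h
        have : α = 1 := Subtype.ext h
        rw [this]; rfl
    obtain ⟨ψ, hψ⟩ : ∃ ψ : Q →* (F.autGroup E ⧸ (Inn E).subgroupOf (F.autGroup E)),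
        ∀ x, ρ (ψ x) = c x :=
      ⟨(QuotientGroup.mk' _).comp (c.codRestrict _ hcA), fun x => hρ_mk _⟩
    have hR : ψ.range ≤ TV ρ z0E := by
      rintro _ ⟨x, rfl⟩
      exact hTV ρ _ x (hψ x)
    have hker : ∀ x : Q, ψ x = 1 ↔ (x : Ω) ∈ E := by
      intro x
      constructor
      · intro h
        refine hK x ?_
        rw [← hψ, h, map_one]
        exact one_mem _
      · intro h
        apply hρ
        rw [hψ, map_one]
        ext e
        rw [hc_apply, MulAut.one_apply]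
        have := congrArg Subtype.val (hab ⟨x, h⟩ e)
        simp only [Subgroup.coe_mul] at this
        rw [this, mul_inv_cancel_right]
    have hfinX : Finite (F.autGroup E ⧸ (Inn E).subgroupOf (F.autGroup E)) := inferInstance
    refine false_of_spe p ρ hρ hM ψ.range ?_ z0E hz0Ep hR
    by_contra hle
    push Not at hle
    have hp1 := (Fact.out : p.Prime).one_lt
    -- the range is generated by the image of `x0`
    have hr1 : ψ ⟨x0, hx0Q⟩ ≠ 1 := fun h => hx0E ((hker _).1 h)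
    have hr1p : (ψ ⟨x0, hx0Q⟩) ^ p = 1 := by
      apply hρ
      ext e
      obtain ⟨k, hk⟩ := (hR ⟨⟨x0, hx0Q⟩, rfl⟩).2 e
      rw [TV_pow (hR ⟨⟨x0, hx0Q⟩, rfl⟩) hk, map_one, MulAut.one_apply, zpow_mul, zpow_natCast,
        hz0Ep, one_zpow, mul_one]
    have hzr : Subgroup.zpowers (ψ ⟨x0, hx0Q⟩) = ψ.range := by
      refine Subgroup.eq_of_le_of_card_ge (by rw [Subgroup.zpowers_le]; exact ⟨_, rfl⟩) ?_
      rw [Nat.card_zpowers, orderOf_eq_prime hr1p hr1]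
      exact hle
    have hgenQ : ∀ y ∈ Q, ∃ k : ℤ, ∃ e ∈ E, y = x0 ^ k * e := by
      intro y hy
      have h1 : ψ ⟨y, hy⟩ ∈ Subgroup.zpowers (ψ ⟨x0, hx0Q⟩) := by rw [hzr]; exact ⟨_, rfl⟩
      obtain ⟨k, hk⟩ := Subgroup.mem_zpowers_iff.1 h1
      refine ⟨k, (x0 ^ k)⁻¹ * y, ?_, by group⟩
      have h2 : ψ ((⟨x0, hx0Q⟩ : Q) ^ k)⁻¹ * ψ ⟨y, hy⟩ = 1 := by
        rw [map_inv, map_zpow, hk, inv_mul_cancel]
      rw [← map_mul, hker] at h2
      simpa using h2
    -- the commutator map with `x0`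
    obtain ⟨κ, hκ⟩ : ∃ κ : E →* E, ∀ e, κ e = c ⟨x0, hx0Q⟩ e * e⁻¹ := by
      refine ⟨MonoidHom.mk' (fun e => c ⟨x0, hx0Q⟩ e * e⁻¹) ?_, fun e => rfl⟩
      intro a b
      show c ⟨x0, hx0Q⟩ (a * b) * (a * b)⁻¹ = _
      rw [map_mul, mul_inv_rev, hab b⁻¹ a⁻¹]
      calc c ⟨x0, hx0Q⟩ a * c ⟨x0, hx0Q⟩ b * (a⁻¹ * b⁻¹)
          = c ⟨x0, hx0Q⟩ a * (c ⟨x0, hx0Q⟩ b * a⁻¹) * b⁻¹ := by group
        _ = c ⟨x0, hx0Q⟩ a * (a⁻¹ * c ⟨x0, hx0Q⟩ b) * b⁻¹ := by rw [hab _ a⁻¹]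
        _ = _ := by group
    have hcardz : Nat.card (Subgroup.zpowers z0E) = p := by
      rw [Nat.card_zpowers]; exact orderOf_eq_prime hz0Ep hz0Ene
    have hrange : κ.range ≤ Subgroup.zpowers z0E := by
      rintro _ ⟨e, rfl⟩
      obtain ⟨k, hk⟩ := (hTV (MonoidHom.id (MulAut E)) (c ⟨x0, hx0Q⟩) ⟨x0, hx0Q⟩ rfl).2 e
      rw [hκ]
      have hk' : c ⟨x0, hx0Q⟩ e = e * z0E ^ k := hk
      rw [hk', hab e, mul_inv_cancel_right]
      exact Subgroup.zpow_mem_zpowers _ _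
    have hkerκ : κ.ker ≤ Subgroup.zpowers z0E := by
      intro e he
      rw [MonoidHom.mem_ker, hκ, mul_inv_eq_one] at he
      have h1 : x0 * (e : Ω) = e * x0 := by
        have := congrArg Subtype.val he
        rw [hc_apply] at this
        calc x0 * (e : Ω) = (x0 * e * x0⁻¹) * x0 := by group
          _ = e * x0 := by rw [this]
      have h2 : ∀ k : ℤ, x0 ^ k * (e : Ω) = e * x0 ^ k := fun k =>
        ((show Commute x0 (e : Ω) from h1).zpow_left k).eq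
      obtain ⟨k, hk⟩ := hx.center e (hEQ e.2) (by
        intro y hy
        obtain ⟨k, e', he', rfl⟩ := hgenQ y hy
        have h3 := congrArg Subtype.val (hab ⟨e', he'⟩ e)
        simp only [Subgroup.coe_mul] at h3
        calc x0 ^ k * e' * (e : Ω) = x0 ^ k * (e' * e) := by group
          _ = x0 ^ k * (e * e') := by rw [h3]
          _ = (x0 ^ k * e) * e' := by group
          _ = e * (x0 ^ k * e') := by rw [h2]; group)
      refine Subgroup.mem_zpowers_iff.2 ⟨k, Subtype.ext ?_⟩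
      rw [Subgroup.coe_zpow, hz0E', ← hk]
    have hcE : Nat.card E ≤ p * p := by
      rw [← Subgroup.card_mul_index κ.ker, Subgroup.index_ker]
      exact Nat.mul_le_mul (hcardz ▸ Subgroup.card_le_of_le hkerκ)
        (hcardz ▸ Subgroup.card_le_of_le hrange)
    have hkerψ : ψ.ker = E.subgroupOf Q := by
      ext x
      rw [MonoidHom.mem_ker, hker, Subgroup.mem_subgroupOf]
    have hcQ : Nat.card Q = Nat.card E * Nat.card ψ.range := by
      rw [← Subgroup.card_mul_index ψ.ker, Subgroup.index_ker, hkerψ,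
        Nat.card_congr (Subgroup.subgroupOfEquivOfLe hEQ).toEquiv]
    have hcS : Nat.card S = Nat.card Q * p := by
      rw [← Subgroup.card_mul_index (Q.subgroupOf S), hQi,
        Nat.card_congr (Subgroup.subgroupOfEquivOfLe hQS).toEquiv]
    have h7 : Nat.card S ≤ p ^ 4 := by
      rw [hcS, hcQ]
      calc Nat.card E * Nat.card ψ.range * p ≤ (p * p) * p * p :=
            Nat.mul_le_mul_right _ (Nat.mul_le_mul hcE hle)
        _ = p ^ 4 := by ring
    have h8 : p ^ 4 < p ^ 6 := Nat.pow_lt_pow_right hp1 (by norm_num)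
    omega
  · -- nonabelian case
    push Not at hab
    obtain ⟨a, b, hab⟩ := hab
    obtain ⟨m, hm⟩ := hcomE a b
    have hw : a * b * a⁻¹ * b⁻¹ ≠ 1 := by
      intro h
      apply hab
      calc a * b = (a * b * a⁻¹ * b⁻¹) * (b * a) := by group
        _ = b * a := by rw [h, one_mul]
    have hcardz : Nat.card (Subgroup.zpowers z0E) = p := by
      rw [Nat.card_zpowers]; exact orderOf_eq_prime hz0Ep hz0Ene
    obtain ⟨n, hn⟩ : ∃ n : ℤ, (a * b * a⁻¹ * b⁻¹) ^ n = z0E := by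
      have hwm : a * b * a⁻¹ * b⁻¹ ∈ Subgroup.zpowers z0E := ⟨m, hm.symm⟩
      obtain ⟨n, hn⟩ := Subgroup.mem_zpowers_iff.1 (mem_zpowers_of_prime_card
        (g := (⟨_, hwm⟩ : Subgroup.zpowers z0E)) (g' := ⟨z0E, Subgroup.mem_zpowers z0E⟩) hcardz
        (fun h => hw (congrArg Subtype.val h)))
      exact ⟨n, congrArg Subtype.val hn⟩
    have hchar : ∀ g : MulAut E, g z0E ∈ Subgroup.zpowers z0E := by
      intro g
      obtain ⟨k, hk⟩ := hcomE (g a) (g b)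
      have e : g z0E = (z0E ^ k) ^ n := by
        calc g z0E = g ((a * b * a⁻¹ * b⁻¹) ^ n) := by rw [hn]
          _ = (g a * g b * (g a)⁻¹ * (g b)⁻¹) ^ n := by
            rw [map_zpow, map_mul, map_mul, map_mul, map_inv, map_inv]
          _ = _ := by rw [hk]
      rw [e]
      exact Subgroup.zpow_mem _ (Subgroup.zpow_mem_zpowers z0E k) n
    have hnormal : (TV (F.autGroup E).subtype z0E).Normal := by
      refine ⟨fun y hy g => ?_⟩
      refine TV_le (hchar _) ?_ (TV_conj hy g)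
      obtain ⟨i, hi⟩ := Subgroup.mem_zpowers_iff.1 (hchar ((F.autGroup E).subtype g)⁻¹)
      refine Subgroup.mem_zpowers_iff.2 ⟨i, ?_⟩
      rw [← map_zpow, hi, MulAut.apply_inv_self]
    have h1 : (⟨c ⟨x0, hx0Q⟩, hcA _⟩ : F.autGroup E) ∈ pCore p (F.autGroup E) :=
      le_pCore hnormal (TV_isPGroup (Subgroup.subtype_injective _) hz0Ep)
        (hTV (F.autGroup E).subtype _ ⟨x0, hx0Q⟩ rfl)
    have h2 : c ⟨x0, hx0Q⟩ ∈ Inn E := by
      rw [← hrad.2]
      exact ⟨_, h1, rfl⟩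
    exact hx0E (hK _ h2)

end Cfsg.Agent.Lib.Helper27.SpeT
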